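import Mathlib
import Cfsg.Prelude
import Cfsg.Agent.Lib.Helper11.Components
import Cfsg.Agent.Lib.Helper10.Signalizer

set_option autoImplicit false

namespace Cfsg.Agent.Lib.Helper11

open Equiv
open scoped commutatorElement

/-- A simple group with two non-commuting elements is quasisimple. -/
theorem qs_of_simple_of_not_comm {H : Type*} [Group H] [IsSimpleGroup H]
    (a b : H) (hab : a * b ≠ b * a) : Cfsg.IsQuasisimple H := by
  have hcomm : commutator H = ⊤ := by
    rcases (Subgroup.commutator_normal ⊤ ⊤ : (commutator H).Normal).eq_bot_or_eq_top with h | h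
    · exfalso
      apply hab
      have h1 : ⁅a, b⁆ ∈ (⁅⊤, ⊤⁆ : Subgroup H) :=
        Subgroup.commutator_mem_commutator (Subgroup.mem_top a) (Subgroup.mem_top b)
      rw [h, Subgroup.mem_bot, commutatorElement_eq_one_iff_mul_comm] at h1
      exact h1
    · exact h
  have hcen : Subgroup.center H = ⊥ := by
    rcases (inferInstance : (Subgroup.center H).Normal).eq_bot_or_eq_top with h | h
    · exact h
    · exfalso
      apply hab
      have h1 : b ∈ Subgroup.center H := by rw [h]; exact Subgroup.mem_top b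
      exact Subgroup.mem_center_iff.mp h1 a
  refine ⟨⟨hcomm⟩, ?_⟩
  exact MulEquiv.isSimpleGroup ((QuotientGroup.quotientMulEquivOfEq hcen).trans
    QuotientGroup.quotientBot)

variable {n : ℕ}

/-- The three-cycle `c ↦ v ↦ u ↦ c` as an element of the alternating group. -/
def altTC (c u v : Fin n) (hcu : c ≠ u) (hcv : c ≠ v) : alternatingGroup (Fin n) :=
  ⟨swap c u * swap c v, by
    rw [Equiv.Perm.mem_alternatingGroup, map_mul, Equiv.Perm.sign_swap hcu,
      Equiv.Perm.sign_swap hcv]; rfl⟩

theorem altTC_apply_self {c u v : Fin n} (hcu : c ≠ u) (hcv : c ≠ v) (huv : u ≠ v) :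
    (altTC c u v hcu hcv : Perm (Fin n)) c = v := by
  show (swap c u * swap c v) c = v
  rw [Perm.mul_apply, swap_apply_left, swap_apply_of_ne_of_ne hcv.symm huv.symm]

theorem altTC_apply_of_ne {c u v : Fin n} (hcu : c ≠ u) (hcv : c ≠ v) {x : Fin n}
    (hxc : x ≠ c) (hxu : x ≠ u) (hxv : x ≠ v) :
    (altTC c u v hcu hcv : Perm (Fin n)) x = x := by
  show (swap c u * swap c v) x = x
  rw [Perm.mul_apply, swap_apply_of_ne_of_ne hxc hxv, swap_apply_of_ne_of_ne hxc hxu]

/-- The subgroup of the alternating group fixing all points `< 4`. -/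
def fixLow (n : ℕ) : Subgroup (alternatingGroup (Fin n)) where
  carrier := {g | ∀ x : Fin n, x.val < 4 → (g : Perm (Fin n)) x = x}
  mul_mem' := by
    intro a b ha hb x hx
    simp only [Subgroup.coe_mul, Perm.mul_apply]
    rw [hb x hx, ha x hx]
  one_mem' := by intro x hx; simp
  inv_mem' := by
    intro a ha x hx
    simp only [InvMemClass.coe_inv]
    rw [Perm.inv_eq_iff_eq]; exact (ha x hx).symm

/-- The subgroup of the alternating group fixing all points `≥ 4`. -/
def fixHigh (n : ℕ) : Subgroup (alternatingGroup (Fin n)) where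
  carrier := {g | ∀ x : Fin n, 4 ≤ x.val → (g : Perm (Fin n)) x = x}
  mul_mem' := by
    intro a b ha hb x hx
    simp only [Subgroup.coe_mul, Perm.mul_apply]
    rw [hb x hx, ha x hx]
  one_mem' := by intro x hx; simp
  inv_mem' := by
    intro a ha x hx
    simp only [InvMemClass.coe_inv]
    rw [Perm.inv_eq_iff_eq]; exact (ha x hx).symm

theorem mem_fixLow {g : alternatingGroup (Fin n)} :
    g ∈ fixLow n ↔ ∀ x : Fin n, x.val < 4 → (g : Perm (Fin n)) x = x := Iff.rfl

theorem mem_fixHigh {g : alternatingGroup (Fin n)} :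
    g ∈ fixHigh n ↔ ∀ x : Fin n, 4 ≤ x.val → (g : Perm (Fin n)) x = x := Iff.rfl

theorem iInf_stabilizer_eq_fixLow (h4 : 4 ≤ n) :
    (⨅ i : Fin 4, MulAction.stabilizer ↥(alternatingGroup (Fin n)) (Fin.castLE h4 i : Fin n))
      = fixLow n := by
  ext g
  simp only [Subgroup.mem_iInf, MulAction.mem_stabilizer_iff, mem_fixLow]
  constructor
  · intro h x hx
    have := h ⟨x.val, hx⟩
    exact this
  · intro h i
    exact h _ (by simp)

theorem altTC_mem_fixLow {c u v : Fin n} (hcu : c ≠ u) (hcv : c ≠ v)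
    (hc : 4 ≤ c.val) (hu : 4 ≤ u.val) (hv : 4 ≤ v.val) : altTC c u v hcu hcv ∈ fixLow n := by
  intro x hx
  apply altTC_apply_of_ne
  · rintro rfl; omega
  · rintro rfl; omega
  · rintro rfl; omega

theorem altTC_mem_fixHigh {c u v : Fin n} (hcu : c ≠ u) (hcv : c ≠ v)
    (hc : c.val < 4) (hu : u.val < 4) (hv : v.val < 4) : altTC c u v hcu hcv ∈ fixHigh n := by
  intro x hx
  apply altTC_apply_of_ne
  · rintro rfl; omega
  · rintro rfl; omega
  · rintro rfl; omega

/-- Five explicit high points. -/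
def hi5 (hn : 9 ≤ n) : Finset (Fin n) :=
  Finset.univ.image (fun i : Fin 5 => (⟨i.val + 4, by omega⟩ : Fin n))

theorem card_hi5 (hn : 9 ≤ n) : (hi5 hn).card = 5 := by
  rw [hi5, Finset.card_image_of_injective, Finset.card_univ, Fintype.card_fin]
  intro i j hij
  simp only [Fin.mk.injEq] at hij
  exact Fin.ext (by omega)

theorem le_of_mem_hi5 (hn : 9 ≤ n) {x : Fin n} (hx : x ∈ hi5 hn) : 4 ≤ x.val := by
  simp only [hi5, Finset.mem_image, Finset.mem_univ, true_and] at hx
  obtain ⟨i, rfl⟩ := hx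
  simp

/-- The four low points. -/
def lo4 (h4 : 4 ≤ n) : Finset (Fin n) := Finset.univ.image (Fin.castLE h4)

theorem card_lo4 (h4 : 4 ≤ n) : (lo4 h4).card = 4 := by
  rw [lo4, Finset.card_image_of_injective _ (Fin.castLE_injective h4), Finset.card_univ,
    Fintype.card_fin]

theorem mem_lo4 (h4 : 4 ≤ n) {x : Fin n} : x ∈ lo4 h4 ↔ x.val < 4 := by
  simp only [lo4, Finset.mem_image, Finset.mem_univ, true_and]
  constructor
  · rintro ⟨i, rfl⟩
    simp
  · intro hx
    exact ⟨⟨x.val, hx⟩, by ext; simp⟩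

theorem exists_two_notMem {α : Type*} [DecidableEq α] (P T : Finset α)
    (h : T.card + 2 ≤ P.card) : ∃ a ∈ P, ∃ b ∈ P, a ≠ b ∧ a ∉ T ∧ b ∉ T := by
  obtain ⟨a, haP, haT⟩ := Finset.exists_mem_notMem_of_card_lt_card (by omega : T.card < P.card)
  obtain ⟨b, hbP, hbT⟩ := Finset.exists_mem_notMem_of_card_lt_card (s := insert a T) (t := P)
    (by rw [Finset.card_insert_of_notMem haT]; omega)
  rw [Finset.mem_insert, not_or] at hbT
  exact ⟨a, haP, b, hbP, fun h => hbT.1 h.symm, haT, hbT.2⟩

theorem centralizer_fixLow (hn : 9 ≤ n) :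
    Subgroup.centralizer (fixLow n : Set (alternatingGroup (Fin n))) = fixHigh n := by
  ext g
  constructor
  · intro hg x hx
    by_contra hne
    obtain ⟨u, huP, v, hvP, huv, huT, hvT⟩ :=
      exists_two_notMem (hi5 hn) {x, (g : Perm (Fin n)) x}
        (by
          have := Finset.card_le_two (a := x) (b := (g : Perm (Fin n)) x)
          rw [card_hi5]; omega)
    simp only [Finset.mem_insert, Finset.mem_singleton, not_or] at huT hvT
    have hu := le_of_mem_hi5 hn huP
    have hv := le_of_mem_hi5 hn hvP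
    have hl : altTC x u v (Ne.symm huT.1) (Ne.symm hvT.1) ∈ fixLow n :=
      altTC_mem_fixLow _ _ hx hu hv
    have hcomm := Subgroup.mem_centralizer_iff.mp hg _ hl
    have h1 := congrArg (fun σ : alternatingGroup (Fin n) => (σ : Perm (Fin n)) x) hcomm
    simp only [Subgroup.coe_mul, Perm.mul_apply] at h1
    rw [altTC_apply_self _ _ huv, altTC_apply_of_ne _ _ hne (Ne.symm huT.2) (Ne.symm hvT.2)] at h1
    exact hvT.1 ((g : Perm (Fin n)).injective h1).symm
  · intro hg
    rw [Subgroup.mem_centralizer_iff]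
    intro l hl
    apply Subtype.ext
    simp only [Subgroup.coe_mul]
    have hd : Perm.Disjoint (l : Perm (Fin n)) (g : Perm (Fin n)) := by
      intro x
      by_cases hx : x.val < 4
      · left; exact hl x hx
      · right; exact hg x (not_lt.mp hx)
    exact hd.commute.eq

theorem perm_inv_apply_self {α : Type*} (g : Perm α) (x : α) : g⁻¹ (g x) = x := by
  simp only [Perm.coe_inv, symm_apply_apply]

theorem perm_apply_inv_self {α : Type*} (g : Perm α) (x : α) : g (g⁻¹ x) = x := by
  simp only [Perm.coe_inv, apply_symm_apply]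

/-- `g` maps low points to low points. -/
def PresLow (g : Perm (Fin n)) : Prop := ∀ x : Fin n, x.val < 4 → (g x).val < 4

theorem presLow_inv {g : Perm (Fin n)} (h : PresLow g) : PresLow g⁻¹ := by
  intro y hy
  let φ : {x : Fin n // x.val < 4} → {x : Fin n // x.val < 4} := fun x => ⟨g x.1, h x.1 x.2⟩
  have hinj : Function.Injective φ := by
    intro a b hab
    have : g a.1 = g b.1 := congrArg Subtype.val hab
    exact Subtype.ext (g.injective this)
  obtain ⟨x, hx⟩ := Finite.surjective_of_injective hinj ⟨y, hy⟩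
  have hx' : g x.1 = y := congrArg Subtype.val hx
  rw [← hx', perm_inv_apply_self]
  exact x.2

theorem presLow_high {g : Perm (Fin n)} (h : PresLow g) (x : Fin n) (hx : 4 ≤ x.val) :
    4 ≤ (g x).val := by
  by_contra hlt
  have := presLow_inv h (g x) (not_le.mp hlt)
  rw [perm_inv_apply_self] at this
  omega

theorem mem_normalizer_fixLow {g : alternatingGroup (Fin n)}
    (h : PresLow (g : Perm (Fin n))) :
    g ∈ Subgroup.normalizer (fixLow n : Set (alternatingGroup (Fin n))) := by
  rw [Subgroup.mem_normalizer_iff]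
  intro l
  constructor
  · intro hl x hx
    simp only [Subgroup.coe_mul, InvMemClass.coe_inv, Perm.mul_apply]
    rw [hl _ (presLow_inv h x hx), perm_apply_inv_self]
  · intro hl x hx
    have h1 := hl _ (h x hx)
    simp only [Subgroup.coe_mul, InvMemClass.coe_inv, Perm.mul_apply, perm_inv_apply_self] at h1
    exact (g : Perm (Fin n)).injective h1

theorem presLow_of_mem_normalizer_fixHigh (h4 : 4 ≤ n) {g : alternatingGroup (Fin n)}
    (hg : g ∈ Subgroup.normalizer (fixHigh n : Set (alternatingGroup (Fin n)))) :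
    PresLow (g : Perm (Fin n)) := by
  intro x hx
  by_contra hgx
  obtain ⟨u, huP, v, hvP, huv, huT, hvT⟩ := exists_two_notMem (lo4 h4) {x}
    (by rw [card_lo4, Finset.card_singleton]; omega)
  rw [Finset.mem_singleton] at huT hvT
  rw [mem_lo4] at huP hvP
  have hc : altTC x u v (Ne.symm huT) (Ne.symm hvT) ∈ fixHigh n :=
    altTC_mem_fixHigh _ _ hx huP hvP
  have h1 := (Subgroup.mem_normalizer_iff.mp hg _).mp hc
  have h2 := h1 _ (not_lt.mp hgx)
  simp only [Subgroup.coe_mul, InvMemClass.coe_inv, Perm.mul_apply, perm_inv_apply_self] at h2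
  have h3 := (g : Perm (Fin n)).injective h2
  rw [altTC_apply_self _ _ huv] at h3
  exact hvT h3

/-- A double transposition as an element of the alternating group. -/
def altDT (a b c d : Fin n) (hab : a ≠ b) (hcd : c ≠ d) : alternatingGroup (Fin n) :=
  ⟨swap a b * swap c d, by
    rw [Equiv.Perm.mem_alternatingGroup, map_mul, Equiv.Perm.sign_swap hab,
      Equiv.Perm.sign_swap hcd]; rfl⟩

theorem altDT_apply_of_ne {a b c d : Fin n} (hab : a ≠ b) (hcd : c ≠ d) {x : Fin n}
    (hxa : x ≠ a) (hxb : x ≠ b) (hxc : x ≠ c) (hxd : x ≠ d) :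
    (altDT a b c d hab hcd : Perm (Fin n)) x = x := by
  show (swap a b * swap c d) x = x
  rw [Perm.mul_apply, swap_apply_of_ne_of_ne hxc hxd, swap_apply_of_ne_of_ne hxa hxb]

theorem altDT_orderOf {a b c d : Fin n} (hab : a ≠ b) (hcd : c ≠ d)
    (hac : a ≠ c) (had : a ≠ d) (hbc : b ≠ c) (hbd : b ≠ d) :
    orderOf (altDT a b c d hab hcd) = 2 := by
  have hd : Perm.Disjoint (swap a b) (swap c d) := by
    intro x
    by_cases hx : x = a ∨ x = b
    · right
      rcases hx with rfl | rfl
      · exact swap_apply_of_ne_of_ne hac had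
      · exact swap_apply_of_ne_of_ne hbc hbd
    · left
      push Not at hx
      exact swap_apply_of_ne_of_ne hx.1 hx.2
  have hcomm : swap a b * swap c d = swap c d * swap a b := hd.commute.eq
  refine orderOf_eq_prime ?_ ?_
  · apply Subtype.ext
    show (swap a b * swap c d) ^ 2 = 1
    rw [pow_two]
    calc swap a b * swap c d * (swap a b * swap c d)
        = swap a b * swap c d * (swap c d * swap a b) := by rw [hcomm]
      _ = swap a b * (swap c d * swap c d) * swap a b := by group
      _ = 1 := by rw [swap_mul_self, mul_one, swap_mul_self]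
  · intro h
    have h1 := congrArg (fun σ : alternatingGroup (Fin n) => (σ : Perm (Fin n)) a) h
    have h2 : (swap a b * swap c d) a = a := h1
    rw [Perm.mul_apply, swap_apply_of_ne_of_ne hac had, swap_apply_left] at h2
    exact hab h2.symm

theorem even_card_fixHigh (h4 : 4 ≤ n) : Even (Nat.card ↥(fixHigh n)) := by
  have h01 : (⟨0, by omega⟩ : Fin n) ≠ ⟨1, by omega⟩ := by simp
  have h23 : (⟨2, by omega⟩ : Fin n) ≠ ⟨3, by omega⟩ := by simp
  have hz : altDT (⟨0, by omega⟩ : Fin n) ⟨1, by omega⟩ ⟨2, by omega⟩ ⟨3, by omega⟩ h01 h23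
      ∈ fixHigh n := by
    intro x hx
    apply altDT_apply_of_ne
    · rintro rfl; simp at hx
    · rintro rfl; simp at hx
    · rintro rfl; simp at hx
    · rintro rfl; simp at hx
  have ho := altDT_orderOf h01 h23 (by simp) (by simp) (by simp) (by simp)
  have h2 : orderOf (⟨_, hz⟩ : fixHigh n) = 2 := by
    rw [← Subgroup.orderOf_coe]; exact ho
  rw [even_iff_two_dvd, ← h2]
  exact orderOf_dvd_natCard _

theorem four_le_card_support {α : Type*} [DecidableEq α] [Fintype α] (τ : Perm α)
    (hs : Perm.sign τ = 1) (ho : orderOf τ = 2) : 4 ≤ τ.support.card := by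
  by_contra hlt
  have h3 : τ.support.card ≤ 3 := by omega
  have hcases : τ.support.card = 0 ∨ τ.support.card = 1 ∨ τ.support.card = 2 ∨
      τ.support.card = 3 := by omega
  rcases hcases with h | h | h | h
  · rw [Perm.card_support_eq_zero] at h
    rw [h, orderOf_one] at ho
    omega
  · exact Perm.card_support_ne_one τ h
  · rw [Perm.card_support_eq_two] at h
    rw [h.sign_eq] at hs
    exact absurd hs (by decide)
  · rw [_root_.card_support_eq_three_iff] at h
    rw [h.orderOf] at ho
    omega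

theorem normalizer_le_normalizer_centralizer_aux {G : Type*} [Group G] (L : Subgroup G) :
    Subgroup.normalizer (L : Set G) ≤
      Subgroup.normalizer ((Subgroup.centralizer (L : Set G) : Subgroup G) : Set G) := by
  apply Cfsg.Agent.Lib.Helper10.le_normalizer_of_conj_mem
  intro g hg c hc
  rw [Subgroup.mem_centralizer_iff] at hc ⊢
  intro l hl
  have h1 : g⁻¹ * l * g⁻¹⁻¹ ∈ L :=
    Cfsg.Agent.Lib.Helper10.conj_mem_of_mem_normalizer (Subgroup.inv_mem _ hg) hl
  have h2 := hc _ h1
  calc l * (g * c * g⁻¹) = g * ((g⁻¹ * l * g⁻¹⁻¹) * c) * g⁻¹ := by group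
    _ = g * (c * (g⁻¹ * l * g⁻¹⁻¹)) * g⁻¹ := by rw [h2]
    _ = g * c * g⁻¹ * l := by group

theorem fixLow_quasisimple (hn : 9 ≤ n) : Cfsg.IsQuasisimple ↥(fixLow n) := by
  let f : alternatingGroup {x : Fin n // 4 ≤ x.val} →* fixLow n :=
    { toFun := fun σ => ⟨⟨Perm.ofSubtype σ.1, by
          rw [Perm.mem_alternatingGroup, Perm.sign_ofSubtype]
          exact Perm.mem_alternatingGroup.mp σ.2⟩, by
          intro x hx
          exact Perm.ofSubtype_apply_of_not_mem _ (by omega)⟩
      map_one' := by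
        apply Subtype.ext; apply Subtype.ext
        simp
      map_mul' := by
        intro a b
        apply Subtype.ext; apply Subtype.ext
        simp }
  have hinj : Function.Injective f := by
    intro a b hab
    have h1 : Perm.ofSubtype a.1 = Perm.ofSubtype b.1 :=
      congrArg (fun σ : fixLow n => ((σ : alternatingGroup (Fin n)) : Perm (Fin n))) hab
    exact Subtype.ext (Perm.ofSubtype_injective h1)
  have hsurj : Function.Surjective f := by
    intro l
    have hl : ∀ x : Fin n, x.val < 4 → ((l : alternatingGroup (Fin n)) : Perm (Fin n)) x = x :=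
      l.2
    have hpl : PresLow ((l : alternatingGroup (Fin n)) : Perm (Fin n)) := by
      intro x hx; rw [hl x hx]; exact hx
    have h1 : ∀ x : Fin n, 4 ≤ (((l : alternatingGroup (Fin n)) : Perm (Fin n)) x).val ↔
        4 ≤ x.val := by
      intro x
      constructor
      · intro h
        by_contra hx
        rw [hl x (not_le.mp hx)] at h
        exact hx h
      · exact presLow_high hpl x
    have h2 : ∀ x : Fin n, ((l : alternatingGroup (Fin n)) : Perm (Fin n)) x ≠ x → 4 ≤ x.val := by
      intro x hx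
      by_contra h
      exact hx (hl x (not_le.mp h))
    refine ⟨⟨Perm.subtypePerm _ h1, ?_⟩, ?_⟩
    · rw [Perm.mem_alternatingGroup, ← Perm.sign_ofSubtype, Perm.ofSubtype_subtypePerm h1 h2]
      exact Perm.mem_alternatingGroup.mp (l : alternatingGroup (Fin n)).2
    · apply Subtype.ext; apply Subtype.ext
      exact Perm.ofSubtype_subtypePerm h1 h2
  have e : alternatingGroup {x : Fin n // 4 ≤ x.val} ≃* fixLow n :=
    MulEquiv.ofBijective f ⟨hinj, hsurj⟩
  have hcard : 5 ≤ Nat.card {x : Fin n // 4 ≤ x.val} := by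
    have hinj5 : Function.Injective
        (fun i : Fin 5 => (⟨⟨i.val + 4, by omega⟩, by simp⟩ : {x : Fin n // 4 ≤ x.val})) := by
      intro i j hij
      simp only [Subtype.mk.injEq, Fin.mk.injEq] at hij
      exact Fin.ext (by omega)
    have := Nat.card_le_card_of_injective _ hinj5
    simpa using this
  have hsimp : IsSimpleGroup (alternatingGroup {x : Fin n // 4 ≤ x.val}) :=
    alternatingGroup.isSimpleGroup hcard
  have hsimp' : IsSimpleGroup (fixLow n) := e.symm.isSimpleGroup
  have h45 : (⟨4, by omega⟩ : Fin n) ≠ ⟨5, by omega⟩ := by simp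
  have h46 : (⟨4, by omega⟩ : Fin n) ≠ ⟨6, by omega⟩ := by simp
  have h47 : (⟨4, by omega⟩ : Fin n) ≠ ⟨7, by omega⟩ := by simp
  have h48 : (⟨4, by omega⟩ : Fin n) ≠ ⟨8, by omega⟩ := by simp
  have ha : altTC (⟨4, by omega⟩ : Fin n) ⟨5, by omega⟩ ⟨6, by omega⟩ h45 h46 ∈ fixLow n :=
    altTC_mem_fixLow _ _ (by simp) (by simp) (by simp)
  have hb : altTC (⟨4, by omega⟩ : Fin n) ⟨7, by omega⟩ ⟨8, by omega⟩ h47 h48 ∈ fixLow n :=
    altTC_mem_fixLow _ _ (by simp) (by simp) (by simp)
  refine qs_of_simple_of_not_comm (⟨_, ha⟩ : fixLow n) ⟨_, hb⟩ ?_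
  intro h
  have h1 := congrArg (fun σ : fixLow n =>
    ((σ : alternatingGroup (Fin n)) : Perm (Fin n)) ⟨4, by omega⟩) h
  simp only [Subgroup.coe_mul, Perm.mul_apply] at h1
  rw [altTC_apply_self h45 h46 (by simp), altTC_apply_self h47 h48 (by simp),
    altTC_apply_of_ne h45 h46 (by simp) (by simp) (by simp),
    altTC_apply_of_ne h47 h48 (by simp) (by simp) (by simp)] at h1
  simp at h1

theorem tightlyEmbedded_fixHigh (hn : 9 ≤ n) : Cfsg.IsTightlyEmbedded (fixHigh n) := by
  have h4 : 4 ≤ n := by omega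
  refine ⟨even_card_fixHigh h4, ?_⟩
  intro g hg
  by_contra hodd
  rw [Nat.not_odd_iff_even, even_iff_two_dvd] at hodd
  have : Fact (Nat.Prime 2) := ⟨Nat.prime_two⟩
  obtain ⟨t, ht⟩ := exists_prime_orderOf_dvd_card' 2 hodd
  have htC : (t : alternatingGroup (Fin n)) ∈ fixHigh n := t.2.1
  obtain ⟨c, hc, hct⟩ := Subgroup.mem_map.mp t.2.2
  have hnp : ¬ PresLow ((g : Perm (Fin n))⁻¹) := by
    intro h
    have h' := presLow_inv h
    rw [inv_inv] at h'
    have h1 := mem_normalizer_fixLow h'
    have h2 := normalizer_le_normalizer_centralizer_aux _ h1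
    rw [centralizer_fixLow hn] at h2
    exact hg h2
  unfold PresLow at hnp
  push Not at hnp
  obtain ⟨x, hx, hgx⟩ := hnp
  have htx : ((t : alternatingGroup (Fin n)) : Perm (Fin n)) x = x := by
    rw [← hct]
    simp only [MulEquiv.coe_toMonoidHom, MulAut.conj_apply, Subgroup.coe_mul,
      InvMemClass.coe_inv, Perm.mul_apply]
    rw [hc _ hgx, perm_apply_inv_self]
  have hsupp : (((t : alternatingGroup (Fin n)) : Perm (Fin n))).support ⊆ (lo4 h4).erase x := by
    intro y hy
    rw [Perm.mem_support] at hy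
    rw [Finset.mem_erase, mem_lo4]
    refine ⟨?_, ?_⟩
    · rintro rfl; exact hy htx
    · by_contra h; exact hy (htC y (not_lt.mp h))
  have hcard : (((t : alternatingGroup (Fin n)) : Perm (Fin n))).support.card ≤ 3 := by
    have := Finset.card_le_card hsupp
    rw [Finset.card_erase_of_mem ((mem_lo4 h4).mpr hx), card_lo4] at this
    omega
  have h4s := four_le_card_support (((t : alternatingGroup (Fin n)) : Perm (Fin n)))
    (Perm.mem_alternatingGroup.mp (t : alternatingGroup (Fin n)).2)
    (by rw [Subgroup.orderOf_coe, Subgroup.orderOf_coe]; exact ht)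
  omega

theorem normalizer_fixLow_eq (hn : 9 ≤ n) :
    Subgroup.normalizer (fixLow n : Set (alternatingGroup (Fin n))) =
      Subgroup.normalizer (fixHigh n : Set (alternatingGroup (Fin n))) := by
  apply le_antisymm
  · have h := normalizer_le_normalizer_centralizer_aux (fixLow n)
    rw [centralizer_fixLow hn] at h
    exact h
  · intro g hg
    exact mem_normalizer_fixLow (presLow_of_mem_normalizer_fixHigh (by omega) hg)

theorem commutator_fixLow_conj_ne_bot (hn : 9 ≤ n) (g : alternatingGroup (Fin n)) :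
    ⁅fixLow n, (fixLow n).map (MulAut.conj g).toMonoidHom⁆ ≠ ⊥ := by
  have h4 : 4 ≤ n := by omega
  intro hbot
  -- a high point c' with g c' high
  have hex : ∃ c' ∈ hi5 hn, 4 ≤ ((g : Perm (Fin n)) c').val := by
    by_contra hno
    push Not at hno
    have hmaps : ∀ a ∈ hi5 hn, (g : Perm (Fin n)) a ∈ lo4 h4 := by
      intro a ha; rw [mem_lo4]; exact hno a ha
    obtain ⟨a, ha, b, hb, hab, hgab⟩ := Finset.exists_ne_map_eq_of_card_lt_of_maps_to
      (by rw [card_lo4, card_hi5]; omega) hmaps
    exact hab ((g : Perm (Fin n)).injective hgab)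
  obtain ⟨c', hc'P, hc⟩ := hex
  have hc' := le_of_mem_hi5 hn hc'P
  set c : Fin n := (g : Perm (Fin n)) c' with hcdef
  obtain ⟨u, huP, v, hvP, huv, huT, hvT⟩ := exists_two_notMem (hi5 hn) {c}
    (by rw [card_hi5, Finset.card_singleton]; omega)
  rw [Finset.mem_singleton] at huT hvT
  have hu := le_of_mem_hi5 hn huP
  have hv := le_of_mem_hi5 hn hvP
  obtain ⟨d', hd'P, e', he'P, hde, hdT, heT⟩ := exists_two_notMem (hi5 hn)
    {c', (g : Perm (Fin n))⁻¹ u, (g : Perm (Fin n))⁻¹ v}
    (by
      have := Finset.card_le_three (a := c') (b := (g : Perm (Fin n))⁻¹ u)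
        (c := (g : Perm (Fin n))⁻¹ v)
      rw [card_hi5]; omega)
  simp only [Finset.mem_insert, Finset.mem_singleton, not_or] at hdT heT
  have hd' := le_of_mem_hi5 hn hd'P
  have he' := le_of_mem_hi5 hn he'P
  -- the two three-cycles
  have hl : altTC c u v (Ne.symm huT) (Ne.symm hvT) ∈ fixLow n :=
    altTC_mem_fixLow _ _ hc hu hv
  have hm : altTC c' d' e' (Ne.symm hdT.1) (Ne.symm heT.1) ∈ fixLow n :=
    altTC_mem_fixLow _ _ hc' hd' he'
  have hl' : g * altTC c' d' e' (Ne.symm hdT.1) (Ne.symm heT.1) * g⁻¹ ∈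
      (fixLow n).map (MulAut.conj g).toMonoidHom :=
    Subgroup.mem_map.mpr ⟨_, hm, by simp [MulAut.conj_apply]⟩
  have hcomm : ⁅altTC c u v (Ne.symm huT) (Ne.symm hvT),
      g * altTC c' d' e' (Ne.symm hdT.1) (Ne.symm heT.1) * g⁻¹⁆ ∈
      ⁅fixLow n, (fixLow n).map (MulAut.conj g).toMonoidHom⁆ :=
    Subgroup.commutator_mem_commutator hl hl'
  rw [hbot, Subgroup.mem_bot, commutatorElement_eq_one_iff_mul_comm] at hcomm
  have h1 := congrArg (fun σ : alternatingGroup (Fin n) => (σ : Perm (Fin n)) c) hcomm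
  simp only [Subgroup.coe_mul, InvMemClass.coe_inv, Perm.mul_apply] at h1
  -- left: l (g (m (g⁻¹ c))) ; right: g (m (g⁻¹ (l c)))
  have hgc : (g : Perm (Fin n))⁻¹ c = c' := by rw [hcdef, perm_inv_apply_self]
  rw [hgc, altTC_apply_self _ _ hde, altTC_apply_self _ _ huv] at h1
  have hge1 : (g : Perm (Fin n)) e' ≠ c := by
    intro h; exact heT.1 ((g : Perm (Fin n)).injective h)
  have hge2 : (g : Perm (Fin n)) e' ≠ u := by
    intro h; apply heT.2.1; rw [← h, perm_inv_apply_self]
  have hge3 : (g : Perm (Fin n)) e' ≠ v := by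
    intro h; apply heT.2.2; rw [← h, perm_inv_apply_self]
  have hgv1 : (g : Perm (Fin n))⁻¹ v ≠ c' := by
    intro h; apply hvT; rw [hcdef, ← h, perm_apply_inv_self]
  have hgd3 : (g : Perm (Fin n))⁻¹ v ≠ d' := fun h => hdT.2.2 h.symm
  have hge3' : (g : Perm (Fin n))⁻¹ v ≠ e' := fun h => heT.2.2 h.symm
  rw [altTC_apply_of_ne _ _ hge1 hge2 hge3, altTC_apply_of_ne _ _ hgv1 hgd3 hge3',
    perm_apply_inv_self] at h1
  exact hge3 h1

theorem fixLow_standard (hn : 9 ≤ n) : Cfsg.IsStandardSubgroup (fixLow n) := by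
  refine ⟨fixLow_quasisimple hn, ?_, ?_, ?_⟩
  · rw [centralizer_fixLow hn]
    exact tightlyEmbedded_fixHigh hn
  · intro g _
    exact commutator_fixLow_conj_ne_bot hn g
  · rw [centralizer_fixLow hn]
    exact normalizer_fixLow_eq hn

end Cfsg.Agent.Lib.Helper11
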