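import Mathlib
import Cfsg.Prelude.Def_CaseTheorems
import Cfsg.Agent.S0012
import Cfsg.Agent.Lib.Helper21.CoprimeP

set_option autoImplicit false

namespace Cfsg.Agent.Lib.Helper11

open scoped commutatorElement

section AutRank2

variable {S : Type*} [Group S]

/-- The generators `s⁻¹ α(s)` of `[S, α]`. -/
def autGens (α : MulAut S) : Set S := {x | ∃ s : S, x = s⁻¹ * α s}

theorem autGens_closure_inv (α : MulAut S) :
    ∀ t ∈ Subgroup.closure (autGens α), α t ∈ Subgroup.closure (autGens α) := by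
  intro t ht
  induction ht using Subgroup.closure_induction with
  | mem x hx =>
    obtain ⟨s, rfl⟩ := hx
    apply Subgroup.subset_closure
    exact ⟨α s, by simp⟩
  | one => simp
  | mul x y _ _ hx hy => rw [map_mul]; exact Subgroup.mul_mem _ hx hy
  | inv x _ hx => rw [map_inv]; exact Subgroup.inv_mem _ hx

theorem eq_one_of_pows_coprime {x : S} {m n : ℕ} (hm : x ^ m = 1) (hn : x ^ n = 1)
    (h : Nat.Coprime m n) : x = 1 := by
  have h2 : orderOf x ∣ m := orderOf_dvd_of_pow_eq_one hm
  have h3 : orderOf x ∣ n := orderOf_dvd_of_pow_eq_one hn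
  have h4 : orderOf x ∣ Nat.gcd m n := Nat.dvd_gcd h2 h3
  rw [Nat.Coprime.gcd_eq_one h] at h4
  exact orderOf_eq_one_iff.mp (Nat.dvd_one.mp h4)

theorem autGens_closure_eq_top {p q : ℕ} [Fact p.Prime] (hq : q.Prime) (hqp : q ≠ p)
    (hS : IsPGroup p S) (α : MulAut S) (hα1 : ∃ s, α s ≠ s) (hαq : α ^ q = 1)
    (hmin : ∀ T : Subgroup S, T ≠ ⊤ → (∀ t ∈ T, α t ∈ T) → ∀ t ∈ T, α t = t) :
    Subgroup.closure (autGens α) = ⊤ := by
  by_contra hT
  have hfix := hmin _ hT (autGens_closure_inv α)
  obtain ⟨s, hs⟩ := hα1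
  apply hs
  have hcfix : α (s⁻¹ * α s) = s⁻¹ * α s := hfix _ (Subgroup.subset_closure ⟨s, rfl⟩)
  have hαs : α s = s * (s⁻¹ * α s) := by group
  generalize s⁻¹ * α s = c at hcfix hαs
  have hpow : ∀ n : ℕ, (α ^ n) s = s * c ^ n := by
    intro n
    induction n with
    | zero => simp
    | succ n ih =>
      rw [pow_succ', MulAut.mul_apply, ih, map_mul, map_pow, hcfix, hαs, pow_succ', mul_assoc]
  have h1 := hpow q
  rw [hαq, MulAut.one_apply] at h1
  have hcq : c ^ q = 1 := by
    have h2 : s * c ^ q = s * 1 := by rw [mul_one]; exact h1.symm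
    exact mul_left_cancel h2
  obtain ⟨k, hk⟩ := hS c
  have hc1 : c = 1 :=
    eq_one_of_pows_coprime hcq hk
      (Nat.Coprime.pow_right k ((Nat.coprime_primes hq (Fact.out)).mpr hqp))
  rw [hαs, hc1, mul_one]

theorem le_center_of_autInv (α : MulAut S)
    (hgen : Subgroup.closure (autGens α) = ⊤)
    (hmin : ∀ T : Subgroup S, T ≠ ⊤ → (∀ t ∈ T, α t ∈ T) → ∀ t ∈ T, α t = t)
    (N : Subgroup S) [hNn : N.Normal] (hN : N ≠ ⊤) (hinv : ∀ t ∈ N, α t ∈ N) :
    N ≤ Subgroup.center S := by
  intro d hd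
  rw [Subgroup.mem_center_iff]
  have hfix := hmin N hN hinv
  intro g
  have hg : g ∈ Subgroup.closure (autGens α) := by rw [hgen]; trivial
  induction hg using Subgroup.closure_induction with
  | mem x hx =>
    obtain ⟨s, rfl⟩ := hx
    have h1 : α (s * d * s⁻¹) = s * d * s⁻¹ := hfix _ (hNn.conj_mem d hd s)
    rw [map_mul, map_mul, map_inv, hfix d hd] at h1
    calc s⁻¹ * α s * d = s⁻¹ * (α s * d * (α s)⁻¹) * α s := by group
      _ = s⁻¹ * (s * d * s⁻¹) * α s := by rw [h1]
      _ = d * (s⁻¹ * α s) := by group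
  | one => simp
  | mul x y _ _ hx hy => rw [mul_assoc, hy, ← mul_assoc, hx, mul_assoc]
  | inv x _ hx =>
    calc x⁻¹ * d = x⁻¹ * (d * x) * x⁻¹ := by group
      _ = x⁻¹ * (x * d) * x⁻¹ := by rw [hx]
      _ = d * x⁻¹ := by group

theorem aut_min_facts [Finite S] {p : ℕ} [Fact p.Prime] (hp2 : p ≠ 2)
    (hS : IsPGroup p S) (α : MulAut S) (hα1 : ∃ s, α s ≠ s)
    (hgen : Subgroup.closure (autGens α) = ⊤)
    (hmin : ∀ T : Subgroup S, T ≠ ⊤ → (∀ t ∈ T, α t ∈ T) → ∀ t ∈ T, α t = t) :
    (∀ x y : S, ⁅x, y⁆ ∈ Subgroup.center S) ∧ (∀ x : S, x ^ p = 1) ∧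
      (∀ t ∈ commutator S, α t = t) := by
  classical
  have hp : p.Prime := Fact.out
  have : Nontrivial S := by
    obtain ⟨s, hs⟩ := hα1
    exact ⟨s, 1, fun h => hs (by rw [h, map_one])⟩
  have hΦ : frattini S ≠ ⊤ := by
    intro h1
    rcases eq_top_or_exists_le_coatom (⊥ : Subgroup S) with h | ⟨K, hK, -⟩
    · exact bot_ne_top h
    · exact hK.1 (top_le_iff.mp (h1 ▸ frattini_le_coatom hK))
  have hΦinv : ∀ t ∈ frattini S, α t ∈ frattini S := fun t ht =>
    Subgroup.characteristic_iff_map_le.mp frattini_characteristic α ⟨t, ht, rfl⟩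
  have hΦfix := hmin _ hΦ hΦinv
  have hΦc : frattini S ≤ Subgroup.center S := le_center_of_autInv α hgen hmin _ hΦ hΦinv
  have hS12 := Cfsg.Agent.S0012.result (G := S) p hS
  have hcomm : ∀ x y : S, ⁅x, y⁆ ∈ frattini S := fun x y =>
    hS12.1 (by
      rw [commutator_def]
      exact Subgroup.commutator_mem_commutator (Subgroup.mem_top _) (Subgroup.mem_top _))
  have hcen : ∀ z ∈ Subgroup.center S, ∀ x : S, Commute z x := fun z hz x =>
    (Subgroup.mem_center_iff.mp hz x).symm
  have hmul : ∀ x y : S, (x * y) ^ p = x ^ p * y ^ p := by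
    intro x y
    have hcΦ : y * x * y⁻¹ * x⁻¹ ∈ Subgroup.center S := hΦc (hcomm y x)
    have hcx : Commute (y * x * y⁻¹ * x⁻¹) x := hcen _ hcΦ x
    have hcy : Commute (y * x * y⁻¹ * x⁻¹) y := hcen _ hcΦ y
    have hyx : y * x = (y * x * y⁻¹ * x⁻¹) * x * y := by group
    have hcp : (y * x * y⁻¹ * x⁻¹) ^ p = 1 := by
      have h1 : y * x * y⁻¹ = (y * x * y⁻¹ * x⁻¹) * x := by group
      have h2 := Helper21.conj_pow_of_central h1 hcy p
      have h3 : y ^ p * x = x * y ^ p := (hcen _ (hΦc (hS12.2 y)) x).eq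
      have h4 : y ^ p * x * (y ^ p)⁻¹ = x := by rw [h3]; group
      rw [h4] at h2
      exact mul_eq_right.mp h2.symm
    have hodd : p ∣ p * (p - 1) / 2 := by
      have h2 : 2 ∣ p - 1 := by
        rcases hp.eq_two_or_odd with h | h
        · exact absurd h hp2
        · omega
      rw [Nat.mul_div_assoc p h2]
      exact dvd_mul_right _ _
    obtain ⟨e', he'⟩ := hodd
    rw [Helper21.mul_pow_of_central hyx hcx hcy, he', pow_mul, hcp, one_pow, one_mul]
  let Ω : Subgroup S :=
    { carrier := {x | x ^ p = 1}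
      one_mem' := one_pow _
      mul_mem' := by
        intro x y hx hy
        change (x * y) ^ p = 1
        rw [hmul x y, hx, hy, one_mul]
      inv_mem' := by
        intro x hx
        change (x⁻¹) ^ p = 1
        rw [inv_pow, hx, inv_one] }
  have hle : Subgroup.closure (autGens α) ≤ Ω := by
    rw [Subgroup.closure_le]
    rintro _ ⟨s, rfl⟩
    change (s⁻¹ * α s) ^ p = 1
    rw [hmul, inv_pow, ← map_pow, hΦfix _ (hS12.2 s), inv_mul_cancel]
  refine ⟨fun x y => hΦc (hcomm x y), ?_, fun t ht => hΦfix t (hS12.1 ht)⟩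
  intro x
  have : x ∈ Ω := hle (by rw [hgen]; trivial)
  exact this

theorem fixed_mem_commutator {p q : ℕ} [Fact p.Prime] (hq : q.Prime) (hqp : q ≠ p)
    (hS : IsPGroup p S) (α : MulAut S) (hαq : α ^ q = 1)
    (hgen : Subgroup.closure (autGens α) = ⊤) (c : S) (hc : α c = c) : c ∈ commutator S := by
  let Ψ : S →* Abelianization S :=
    ∏ i ∈ Finset.range q, (Abelianization.of).comp ((α ^ i : MulAut S).toMonoidHom)
  have hΨ : ∀ s : S, Ψ s = ∏ i ∈ Finset.range q, Abelianization.of ((α ^ i) s) := by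
    intro s
    simp only [Ψ, MonoidHom.finsetProd_apply]
    rfl
  have hker : ∀ s ∈ Subgroup.closure (autGens α), Ψ s = 1 := by
    have : Subgroup.closure (autGens α) ≤ Ψ.ker := by
      rw [Subgroup.closure_le]
      rintro _ ⟨s, rfl⟩
      rw [SetLike.mem_coe, MonoidHom.mem_ker, hΨ]
      have h1 : ∀ i, Abelianization.of ((α ^ i) (s⁻¹ * α s)) =
          Abelianization.of ((α ^ (i + 1)) s) / Abelianization.of ((α ^ i) s) := by
        intro i
        rw [map_mul, map_mul, map_inv, map_inv, pow_succ, MulAut.mul_apply, div_eq_mul_inv,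
          mul_comm]
      simp_rw [h1]
      rw [Finset.prod_range_div (fun i => Abelianization.of ((α ^ i) s)), hαq, pow_zero,
        div_self']
    intro s hs; exact MonoidHom.mem_ker.mp (this hs)
  have h1 : Ψ c = 1 := hker c (by rw [hgen]; trivial)
  have hfix : ∀ i : ℕ, (α ^ i) c = c := by
    intro i
    induction i with
    | zero => simp
    | succ n ih => rw [pow_succ', MulAut.mul_apply, ih, hc]
  rw [hΨ] at h1
  simp_rw [hfix] at h1
  rw [Finset.prod_const, Finset.card_range, ← map_pow] at h1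
  have h2 : c ^ q ∈ commutator S := by
    rw [← Abelianization.ker_of]; exact MonoidHom.mem_ker.mpr h1
  obtain ⟨k, hk⟩ := hS c
  have hcop : Nat.Coprime q (orderOf c) :=
    Nat.Coprime.coprime_dvd_right (orderOf_dvd_of_pow_eq_one hk)
      (Nat.Coprime.pow_right k ((Nat.coprime_primes hq (Fact.out)).mpr hqp))
  obtain ⟨m, hm⟩ := exists_pow_eq_self_of_coprime hcop
  rw [← hm]
  exact Subgroup.pow_mem _ h2 m

theorem card_modEq_fixed [Finite S] {q : ℕ} (hq : q.Prime) (α : MulAut S) (hαq : α ^ q = 1)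
    (F : Subgroup S) (hF : ∀ s, s ∈ F ↔ α s = s) : Nat.card S ≡ Nat.card F [MOD q] := by
  have : Fact q.Prime := ⟨hq⟩
  have hZ : IsPGroup q (Subgroup.zpowers α) := by
    rintro ⟨g, hg⟩
    refine ⟨1, ?_⟩
    obtain ⟨k, rfl⟩ := Subgroup.mem_zpowers_iff.mp hg
    apply Subtype.ext
    change (α ^ k) ^ (q ^ 1) = 1
    rw [pow_one, ← zpow_natCast, ← zpow_mul, mul_comm, zpow_mul, zpow_natCast, hαq, one_zpow]
  have h1 := hZ.card_modEq_card_fixedPoints S
  have h2 : (MulAction.fixedPoints (Subgroup.zpowers α) S) = (F : Set S) := by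
    ext s
    simp only [MulAction.mem_fixedPoints, SetLike.mem_coe, hF]
    constructor
    · intro h; exact h ⟨α, Subgroup.mem_zpowers α⟩
    · intro h g
      have : Subgroup.zpowers α ≤ MulAction.stabilizer (MulAut S) s := by
        rw [Subgroup.zpowers_le]; exact h
      exact this g.2
  rw [h2] at h1
  exact h1

theorem comm_closure_insert (A : Subgroup S) (hA : ∀ a ∈ A, ∀ b ∈ A, a * b = b * a) (y : S)
    (hy : ∀ a ∈ A, a * y = y * a) :
    ∀ a ∈ Subgroup.closure (insert y (A : Set S)),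
      ∀ b ∈ Subgroup.closure (insert y (A : Set S)), a * b = b * a := by
  intro a ha b hb
  have h1 : insert y (A : Set S) ⊆ Subgroup.centralizer (insert y (A : Set S)) := by
    intro u hu
    rw [SetLike.mem_coe, Subgroup.mem_centralizer_iff]
    intro v hv
    rcases hu with rfl | hu <;> rcases hv with rfl | hv
    · rfl
    · exact hy v hv
    · exact (hy u hu).symm
    · exact hA v hv u hu
  have h2 : Subgroup.closure (insert y (A : Set S)) ≤
      Subgroup.centralizer (insert y (A : Set S)) := (Subgroup.closure_le _).mpr h1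
  have h3 := Subgroup.closure_le_centralizer_centralizer (insert y (A : Set S)) ha
  rw [Subgroup.mem_centralizer_iff] at h3
  exact (h3 b (h2 hb)).symm

theorem card_lt_of_lt_ar [Finite S] {H K : Subgroup S} (h : H < K) : Nat.card H < Nat.card K := by
  by_contra hc
  push Not at hc
  exact h.ne (Subgroup.eq_of_le_of_card_ge h.le hc)

theorem card_le_of_rank2 [Finite S] {p : ℕ} [Fact p.Prime] (hS : IsPGroup p S)
    (hrk : Cfsg.PRankLE p 2 S) (hexp : ∀ x : S, x ^ p = 1)
    (hcl : ∀ x y : S, ⁅x, y⁆ ∈ Subgroup.center S) (hZ : Subgroup.center S ≠ ⊤) :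
    Nat.card S ≤ p ^ 2 * Nat.card (Subgroup.center S) := by
  classical
  have hp : p.Prime := Fact.out
  have hab : ∀ B : Subgroup S, (∀ a ∈ B, ∀ b ∈ B, a * b = b * a) → Nat.card B ≤ p ^ 2 := by
    intro B hB
    have : IsMulCommutative B := ⟨⟨fun a b => Subtype.ext (hB a a.2 b b.2)⟩⟩
    exact hrk B inferInstance (fun a _ => hexp a)
  obtain ⟨x, hx⟩ : ∃ x : S, x ∉ Subgroup.center S := by
    by_contra h
    push Not at h
    exact hZ (top_le_iff.mp fun x _ => h x)
  have hZcomm : ∀ a ∈ Subgroup.center S, ∀ b ∈ Subgroup.center S, a * b = b * a :=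
    fun a ha b _ => (Subgroup.mem_center_iff.mp ha b).symm
  have hxZ : ∀ a ∈ Subgroup.center S, a * x = x * a :=
    fun a ha => (Subgroup.mem_center_iff.mp ha x).symm
  have hBcomm := comm_closure_insert (Subgroup.center S) hZcomm x hxZ
  have hZB : Subgroup.center S ≤ Subgroup.closure (insert x (Subgroup.center S : Set S)) :=
    fun z hz => Subgroup.subset_closure (Set.mem_insert_of_mem _ hz)
  have hxB : x ∈ Subgroup.closure (insert x (Subgroup.center S : Set S)) :=
    Subgroup.subset_closure (Set.mem_insert _ _)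
  have hBy : ∀ y : S, x * y = y * x →
      ∀ u ∈ Subgroup.closure (insert x (Subgroup.center S : Set S)), u * y = y * u := by
    intro y hy u hu
    have h1 : Subgroup.closure (insert x (Subgroup.center S : Set S)) ≤
        Subgroup.centralizer {y} := by
      rw [Subgroup.closure_le]
      intro w hw
      rw [SetLike.mem_coe, Subgroup.mem_centralizer_iff]
      intro v hv
      rw [Set.mem_singleton_iff] at hv
      subst hv
      rcases hw with rfl | hw
      · exact hy.symm
      · exact Subgroup.mem_center_iff.mp hw v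
    have h2 := h1 hu
    rw [Subgroup.mem_centralizer_iff] at h2
    exact (h2 y rfl).symm
  generalize Subgroup.closure (insert x (Subgroup.center S : Set S)) = B at hBcomm hZB hxB hBy
  have hZltB : Subgroup.center S < B := lt_of_le_of_ne hZB (fun h => hx (h ▸ hxB))
  have hBcard : Nat.card B ≤ p ^ 2 := hab B hBcomm
  have hlt := card_lt_of_lt_ar hZltB
  obtain ⟨a, ha⟩ := IsPGroup.iff_card.mp (hS.to_subgroup (Subgroup.center S))
  obtain ⟨b, hb⟩ := IsPGroup.iff_card.mp (hS.to_subgroup B)
  have : Nontrivial S := ⟨x, 1, fun h => hx (h ▸ Subgroup.one_mem _)⟩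
  have ha1 : a ≠ 0 := by
    rintro rfl
    rw [pow_zero] at ha
    have := hS.center_nontrivial
    rw [← Finite.one_lt_card_iff_nontrivial] at this
    omega
  rw [ha, hb] at hlt
  rw [hb] at hBcard
  have hab1 : a < b := (Nat.pow_lt_pow_iff_right hp.one_lt).mp hlt
  have hb2 : b ≤ 2 := (Nat.pow_le_pow_iff_right hp.one_lt).mp hBcard
  have ha' : a = 1 := by omega
  have hb' : b = 2 := by omega
  subst ha' hb'
  rw [pow_one] at ha
  -- the centralizer of `x` is `B`
  have hBC : B ≤ Subgroup.centralizer {x} := by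
    intro u hu
    rw [Subgroup.mem_centralizer_iff]
    intro v hv
    rw [Set.mem_singleton_iff] at hv
    subst hv
    exact hBcomm v hxB u hu
  have hCB : Subgroup.centralizer {x} = B := by
    by_contra hne
    have hlt2 : B < Subgroup.centralizer {x} := lt_of_le_of_ne hBC (Ne.symm hne)
    obtain ⟨y, hyC, hyB⟩ := SetLike.exists_of_lt hlt2
    have hyB' : ∀ u ∈ B, u * y = y * u := by
      apply hBy
      rw [Subgroup.mem_centralizer_iff] at hyC
      exact hyC x rfl
    have h2 := comm_closure_insert B hBcomm y hyB'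
    have h3 := hab _ h2
    have h4 : B < Subgroup.closure (insert y (B : Set S)) :=
      lt_of_le_of_ne (fun z hz => Subgroup.subset_closure (Set.mem_insert_of_mem _ hz))
        (fun h => hyB (h ▸ Subgroup.subset_closure (Set.mem_insert _ _)))
    have h5 := card_lt_of_lt_ar h4
    omega
  -- the commutator homomorphism
  let φ : S →* S := MonoidHom.mk' (fun y => ⁅x, y⁆) (by
    intro y z
    have hc := Subgroup.mem_center_iff.mp (hcl x z) y⁻¹
    calc ⁅x, y * z⁆ = x * y * x⁻¹ * (⁅x, z⁆ * y⁻¹) := by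
          simp only [commutatorElement_def]; group
      _ = x * y * x⁻¹ * (y⁻¹ * ⁅x, z⁆) := by rw [hc]
      _ = ⁅x, y⁆ * ⁅x, z⁆ := by simp only [commutatorElement_def]; group)
  have hker : φ.ker = Subgroup.centralizer {x} := by
    ext y
    rw [MonoidHom.mem_ker, Subgroup.mem_centralizer_iff]
    change ⁅x, y⁆ = 1 ↔ _
    rw [commutatorElement_eq_one_iff_mul_comm]
    simp
  have hrange : φ.range ≤ Subgroup.center S := by
    rintro _ ⟨y, rfl⟩
    exact hcl x y
  have h1 : φ.ker.index ≤ p := by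
    rw [Subgroup.index_ker, ← ha]
    exact Subgroup.card_le_of_le hrange
  have h2 := Subgroup.card_mul_index φ.ker
  rw [hker, hCB, hb] at h2
  rw [hker, hCB] at h1
  rw [ha, ← h2]
  exact Nat.mul_le_mul_left _ h1

theorem aut_min_case [Finite S] {p q : ℕ} [Fact p.Prime] (hp2 : p ≠ 2)
    (hq : q.Prime) (hqp : q ≠ p) (hS : IsPGroup p S) (hrk : Cfsg.PRankLE p 2 S)
    (α : MulAut S) (hα1 : ∃ s, α s ≠ s) (hαq : α ^ q = 1)
    (hmin : ∀ T : Subgroup S, T ≠ ⊤ → (∀ t ∈ T, α t ∈ T) → ∀ t ∈ T, α t = t) :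
    q ∣ p - 1 ∨ q ∣ p ^ 2 - 1 := by
  classical
  have hp : p.Prime := Fact.out
  have hgen := autGens_closure_eq_top hq hqp hS α hα1 hαq hmin
  obtain ⟨hcl, hexp, hcfix⟩ := aut_min_facts hp2 hS α hα1 hgen hmin
  have hfixc := fixed_mem_commutator hq hqp hS α hαq hgen
  have hmod := card_modEq_fixed hq α hαq (commutator S) (fun s => ⟨hcfix s, hfixc s⟩)
  have : Nontrivial S := by
    obtain ⟨s, hs⟩ := hα1
    exact ⟨s, 1, fun h => hs (by rw [h, map_one])⟩
  have : Group.IsNilpotent S := hS.isNilpotent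
  have hidx : (commutator S).index = p ∨ (commutator S).index = p ^ 2 := by
    obtain ⟨j, hj⟩ := hS.index (commutator S)
    have hj1 : j ≠ 0 := by
      rintro rfl
      rw [pow_zero, Subgroup.index_eq_one] at hj
      exact (Group.IsSolvable.commutator_lt_top_of_nontrivial S).ne hj
    have hle : (commutator S).index ≤ p ^ 2 := by
      by_cases hZ : Subgroup.center S = ⊤
      · have hcomm : ∀ a b : S, a * b = b * a := fun a b =>
          (Subgroup.mem_center_iff.mp (hZ ▸ Subgroup.mem_top a) b).symm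
        have h1 : Nat.card (⊤ : Subgroup S) ≤ p ^ 2 := by
          have : IsMulCommutative (⊤ : Subgroup S) := ⟨⟨fun a b => Subtype.ext (hcomm a b)⟩⟩
          exact hrk ⊤ inferInstance (fun a _ => hexp a)
        rw [Subgroup.card_top] at h1
        exact (Nat.le_of_dvd Nat.card_pos (Subgroup.index_dvd_card _)).trans h1
      · have h1 := card_le_of_rank2 hS hrk hexp hcl hZ
        have hZinv : ∀ t ∈ Subgroup.center S, α t ∈ Subgroup.center S := fun t ht =>
          Subgroup.characteristic_iff_map_le.mp inferInstance α ⟨t, ht, rfl⟩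
        have hZfix := hmin _ hZ hZinv
        have hZle : Subgroup.center S ≤ commutator S := fun t ht => hfixc t (hZfix t ht)
        have h2 := Subgroup.card_mul_index (commutator S)
        have h3 : Nat.card (Subgroup.center S) ≤ Nat.card (commutator S) :=
          Subgroup.card_le_of_le hZle
        have h4 : 0 < Nat.card (commutator S) := Nat.card_pos
        have h5 : Nat.card (commutator S) * (commutator S).index ≤
            Nat.card (commutator S) * p ^ 2 := by
          rw [h2, mul_comm]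
          exact h1.trans (Nat.mul_le_mul_left _ h3)
        exact Nat.le_of_mul_le_mul_left h5 h4
    have hj2 : j ≤ 2 := by
      rw [hj] at hle
      exact (Nat.pow_le_pow_iff_right hp.one_lt).mp hle
    have hj3 : j = 1 ∨ j = 2 := by omega
    rcases hj3 with rfl | rfl
    · left; rw [hj, pow_one]
    · right; exact hj
  have h2 := Subgroup.card_mul_index (commutator S)
  obtain ⟨m, hm⟩ := IsPGroup.iff_card.mp (hS.to_subgroup (commutator S))
  have hcop : Nat.Coprime q (Nat.card (commutator S)) := by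
    rw [hm]; exact Nat.Coprime.pow_right m ((Nat.coprime_primes hq hp).mpr hqp)
  have key : ∀ i, (commutator S).index = i → 1 ≤ i → q ∣ i - 1 := by
    intro i hi hi1
    rw [hi] at h2
    have h5 : q ∣ Nat.card S - Nat.card (commutator S) :=
      (Nat.modEq_iff_dvd' (Subgroup.card_le_card_group _)).mp hmod.symm
    have h6 : Nat.card S - Nat.card (commutator S) = Nat.card (commutator S) * (i - 1) := by
      rw [← h2, Nat.mul_sub, mul_one]
    rw [h6] at h5
    exact hcop.dvd_of_dvd_mul_left h5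
  rcases hidx with h | h
  · left; exact key _ h hp.pos
  · right; exact key _ h (Nat.one_le_pow _ _ hp.pos)

end AutRank2

section AutRank2B

variable {R : Type*} [Group R]

/-- Restriction of an automorphism to an invariant subgroup of a finite group. -/
noncomputable def restrictAut [Finite R] (α : MulAut R) (T : Subgroup R) (h : ∀ t ∈ T, α t ∈ T) :
    MulAut ↥T :=
  have h' : ∀ t ∈ T, α.symm t ∈ T := by
    have hmap : T.map α.toMonoidHom = T := by
      apply Subgroup.eq_of_le_of_card_ge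
      · rintro _ ⟨t, ht, rfl⟩
        exact h t ht
      · rw [Subgroup.card_map_of_injective α.injective]
    intro t ht
    rw [← hmap] at ht
    obtain ⟨t', ht', rfl⟩ := ht
    have : α.symm (α.toMonoidHom t') = t' := α.symm_apply_apply t'
    rw [this]
    exact ht'
  { toFun := fun t => ⟨α t, h t t.2⟩
    invFun := fun t => ⟨α.symm t, h' t t.2⟩
    left_inv := fun t => Subtype.ext (α.symm_apply_apply t)
    right_inv := fun t => Subtype.ext (α.apply_symm_apply t)
    map_mul' := fun a b => Subtype.ext (map_mul α (a : R) (b : R)) }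

theorem restrictAut_apply [Finite R] (α : MulAut R) (T : Subgroup R) (h : ∀ t ∈ T, α t ∈ T)
    (t : T) : ((restrictAut α T h t : T) : R) = α t := rfl

theorem restrictAut_pow [Finite R] (α : MulAut R) (T : Subgroup R) (h : ∀ t ∈ T, α t ∈ T)
    (n : ℕ) (t : T) : (((restrictAut α T h) ^ n) t : R) = (α ^ n) t := by
  induction n generalizing t with
  | zero => simp
  | succ n ih =>
    rw [pow_succ, pow_succ, MulAut.mul_apply, MulAut.mul_apply, ih, restrictAut_apply]

theorem aut_rank2 [Finite R] {p q : ℕ} [Fact p.Prime] (hp2 : p ≠ 2) (hq : q.Prime)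
    (hqp : q ≠ p) (hR : IsPGroup p R) (hrk : Cfsg.PRankLE p 2 R) (α : MulAut R) (hα1 : α ≠ 1)
    (hαq : α ^ q = 1) : q ∣ p - 1 ∨ q ∣ p ^ 2 - 1 := by
  classical
  obtain ⟨T, hT⟩ := Set.Finite.exists_minimal
    (s := {T : Subgroup R | (∀ t ∈ T, α t ∈ T) ∧ ∃ t ∈ T, α t ≠ t}) (Set.toFinite _)
    ⟨⊤, fun _ _ => Subgroup.mem_top _, by
      by_contra h
      push Not at h
      exact hα1 (MulEquiv.ext fun t => h t (Subgroup.mem_top t))⟩
  obtain ⟨⟨hTinv, t₀, ht₀, ht₀'⟩, hTmin⟩ := hT
  have hrkT : Cfsg.PRankLE p 2 ↥T := by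
    intro A hA hAp
    have h1 := hrk (A.map T.subtype) inferInstance (by
      rintro _ ⟨a, ha, rfl⟩
      have := hAp a ha
      change ((a : ↥T) : R) ^ p = 1
      rw [← Subgroup.coe_pow, this, Subgroup.coe_one])
    rwa [Subgroup.card_map_of_injective T.subtype_injective] at h1
  refine aut_min_case hp2 hq hqp (hR.to_subgroup T) hrkT (restrictAut α T hTinv)
    ⟨⟨t₀, ht₀⟩, fun h => ht₀' (congrArg Subtype.val h)⟩ ?_ ?_
  · ext t
    rw [restrictAut_pow, hαq]
    rfl
  · intro U hU hUinv u hu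
    by_contra hne
    have hmem : U.map T.subtype ∈ {T : Subgroup R | (∀ t ∈ T, α t ∈ T) ∧ ∃ t ∈ T, α t ≠ t} := by
      refine ⟨?_, (u : R), ⟨u, hu, rfl⟩, fun h => hne (Subtype.ext h)⟩
      rintro _ ⟨v, hv, rfl⟩
      exact ⟨_, hUinv v hv, rfl⟩
    have hle : U.map T.subtype ≤ T := Subgroup.map_subtype_le U
    have hge := hTmin hmem hle
    apply hU
    rw [eq_top_iff]
    intro v _
    obtain ⟨w, hw, hwv⟩ := hge v.2
    have : w = v := Subtype.ext hwv
    rw [← this]
    exact hw

end AutRank2B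

end Cfsg.Agent.Lib.Helper11
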