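import Mathlib
import Cfsg.Prelude.Def_Local
import Cfsg.Agent.Lib.Helper11.Components
import Cfsg.Agent.Lib.Helper11.Bender
import Cfsg.Agent.Lib.Helper11.GenFit
import Cfsg.Agent.Lib.Helper11.PCores
import Cfsg.Agent.Lib.Helper11.Misc
import Cfsg.Agent.Lib.Helper11.Basic
import Cfsg.Agent.S0009

/-!
Tools for Bender's maximal subgroup theorem: two maximal subgroups `M ≠ N` of a simple group
with `F*(M) ≤ N` and `F*(N) ≤ M` have `F*(M)`, `F*(N)` `p`-groups for the same prime `p`.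
-/

set_option autoImplicit false

namespace Cfsg.Agent.Lib.Helper11

open scoped commutatorElement

universe u

section BenderMax

variable {G : Type u} [Group G]

/-- Mutually normalizing subgroups of coprime orders commute elementwise. -/
theorem comm_of_normalizing_coprime {A B : Subgroup G}
    (hAB : A ≤ Subgroup.normalizer (B : Set G)) (hBA : B ≤ Subgroup.normalizer (A : Set G))
    (hcop : (Nat.card A).Coprime (Nat.card B)) : ∀ a ∈ A, ∀ b ∈ B, a * b = b * a := by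
  intro a ha b hb
  have h1 : a * b * a⁻¹ * b⁻¹ ∈ A ⊓ B := by
    rw [Subgroup.mem_inf]
    constructor
    · have : a * b * a⁻¹ * b⁻¹ = a * (b * a⁻¹ * b⁻¹) := by group
      rw [this]
      exact A.mul_mem ha ((Subgroup.mem_normalizer_iff.mp (hBA hb) _).mp (A.inv_mem ha))
    · exact B.mul_mem ((Subgroup.mem_normalizer_iff.mp (hAB ha) _).mp hb) (B.inv_mem hb)
  rw [(Subgroup.disjoint_of_coprime_natCard hcop).eq_bot, Subgroup.mem_bot] at h1
  have h2 : a * b * a⁻¹ * b⁻¹ * (b * a) = b * a := by rw [h1, one_mul]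
  rw [← h2]; group

/-- The image in `G` of a normal subgroup of `M` is normalized by `M`. -/
theorem le_normalizer_map_subtype' {M : Subgroup G} (S : Subgroup ↥M) (hS : S.Normal) :
    M ≤ Subgroup.normalizer ((S.map M.subtype : Subgroup G) : Set G) := by
  intro m hm
  rw [Subgroup.mem_normalizer_iff]
  intro x
  constructor
  · rintro ⟨s, hs, rfl⟩
    exact ⟨⟨m, hm⟩ * s * ⟨m, hm⟩⁻¹, hS.conj_mem s hs _, rfl⟩
  · rintro ⟨s, hs, hsx⟩
    refine ⟨⟨m, hm⟩⁻¹ * s * ⟨m, hm⟩, ?_, ?_⟩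
    · have := hS.conj_mem s hs (⟨m, hm⟩⁻¹)
      rwa [inv_inv] at this
    · show m⁻¹ * (s : G) * m = x
      have : (s : G) = m * x * m⁻¹ := hsx
      rw [this]; group

theorem conj_mem_centralizer_of_mem_normalizer {S : Subgroup G} {g x : G}
    (hg : g ∈ Subgroup.normalizer (S : Set G)) (hx : x ∈ Subgroup.centralizer (S : Set G)) :
    g * x * g⁻¹ ∈ Subgroup.centralizer (S : Set G) := by
  rw [Subgroup.mem_centralizer_iff]
  intro f hf
  have hf' : g⁻¹ * f * g ∈ S := (Subgroup.mem_normalizer_iff''.mp hg f).mp hf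
  have h2 := Subgroup.mem_centralizer_iff.mp hx _ hf'
  calc f * (g * x * g⁻¹) = g * ((g⁻¹ * f * g) * x) * g⁻¹ := by group
    _ = g * (x * (g⁻¹ * f * g)) * g⁻¹ := by rw [h2]
    _ = g * x * g⁻¹ * f := by group

/-- The key step: `q`-elements of `C(F₂)` centralize the `q'`-group `B`. -/
theorem q_element_comm [Finite G] (q : ℕ) [hq : Fact q.Prime]
    (F₁ F₂ B : Subgroup G) (hF₁ : IsPGroup q F₁) (hF₂ : (Nat.card F₂).Coprime q)
    (hcomm : ∀ f₁ ∈ F₁, ∀ f₂ ∈ F₂, f₁ * f₂ = f₂ * f₁)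
    (hXn : Subgroup.centralizer (F₂ : Set G) ≤ Subgroup.normalizer (F₁ : Set G))
    (hCX : Subgroup.centralizer (F₂ : Set G) ⊓ Subgroup.centralizer (F₁ : Set G) ≤ F₁ ⊔ F₂)
    (hB : (Nat.card B).Coprime q) (hBn : B ≤ Subgroup.normalizer (F₂ : Set G))
    (hBF₁ : B ≤ Subgroup.centralizer (F₁ : Set G))
    (x : G) (hx : x ∈ Subgroup.centralizer (F₂ : Set G)) (a : ℕ) (hxa : x ^ (q ^ a) = 1)
    (k : G) (hk : k ∈ B) : k * x = x * k := by
  have hkF₁ : ∀ f ∈ F₁, f * k = k * f :=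
    fun f hf => Subgroup.mem_centralizer_iff.mp (hBF₁ hk) f hf
  have hxF₂ : ∀ f ∈ F₂, f * x = x * f := fun f hf => Subgroup.mem_centralizer_iff.mp hx f hf
  have hxn := hXn hx
  have hkn := hBn hk
  have hc2 : k * x * k⁻¹ * x⁻¹ ∈ Subgroup.centralizer (F₂ : Set G) :=
    Subgroup.mul_mem _ (conj_mem_centralizer_of_mem_normalizer hkn hx) (Subgroup.inv_mem _ hx)
  have hc1 : k * x * k⁻¹ * x⁻¹ ∈ Subgroup.centralizer (F₁ : Set G) := by
    rw [Subgroup.mem_centralizer_iff]
    intro f hf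
    have hf' : x⁻¹ * f * x ∈ F₁ := (Subgroup.mem_normalizer_iff''.mp hxn f).mp hf
    have h1 : (x⁻¹ * f * x) * k⁻¹ = k⁻¹ * (x⁻¹ * f * x) :=
      (Commute.inv_right (show Commute (x⁻¹ * f * x) k from hkF₁ _ hf')).eq
    have h2 := hkF₁ f hf
    calc f * (k * x * k⁻¹ * x⁻¹) = (f * k) * x * k⁻¹ * x⁻¹ := by group
      _ = (k * f) * x * k⁻¹ * x⁻¹ := by rw [h2]
      _ = k * x * ((x⁻¹ * f * x) * k⁻¹) * x⁻¹ := by group
      _ = k * x * (k⁻¹ * (x⁻¹ * f * x)) * x⁻¹ := by rw [h1]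
      _ = k * x * k⁻¹ * x⁻¹ * f := by group
  have hcF : k * x * k⁻¹ * x⁻¹ ∈ F₁ ⊔ F₂ := hCX (Subgroup.mem_inf.mpr ⟨hc2, hc1⟩)
  have hF₂n : F₂ ≤ Subgroup.normalizer (F₁ : Set G) := by
    intro f hf
    apply Subgroup.centralizer_le_normalizer
    rw [Subgroup.mem_centralizer_iff]
    intro g hg
    exact hcomm g hg f hf
  obtain ⟨f₁, hf₁, f₂, hf₂, hcf⟩ := mem_sup_of_le_normalizer hF₂n hcF
  have hy : k * x * k⁻¹ = f₂ * (f₁ * x) := by
    have : k * x * k⁻¹ = (k * x * k⁻¹ * x⁻¹) * x := by group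
    rw [this, hcf, hcomm f₁ hf₁ f₂ hf₂, mul_assoc]
  have hf₂x : Commute f₂ (f₁ * x) := by
    have h1 : Commute f₂ f₁ := (hcomm f₁ hf₁ f₂ hf₂).symm
    have h2 : Commute f₂ x := hxF₂ f₂ hf₂
    exact h1.mul_right h2
  have hQ : IsPGroup q (F₁ ⊔ Subgroup.zpowers x : Subgroup G) := by
    apply hF₁.to_sup_of_normal_left'
    · intro g
      obtain ⟨i, hi⟩ := Subgroup.mem_zpowers_iff.mp g.2
      refine ⟨a, Subtype.ext ?_⟩
      rw [Subgroup.coe_pow, ← hi, ← zpow_natCast, ← zpow_mul, mul_comm, zpow_mul, zpow_natCast,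
        hxa, one_zpow]
      rfl
    · exact Subgroup.zpowers_le.mpr hxn
  obtain ⟨b, hb⟩ := hQ ⟨f₁ * x, Subgroup.mul_mem _ (Subgroup.mem_sup_left hf₁)
    (Subgroup.mem_sup_right (Subgroup.mem_zpowers x))⟩
  have hb' : (f₁ * x) ^ (q ^ b) = 1 := by simpa using congrArg Subtype.val hb
  have hf₂1 : f₂ = 1 := by
    have h1 : (k * x * k⁻¹) ^ (q ^ a * q ^ b) = 1 := by
      rw [conj_pow, pow_mul, hxa, one_pow, mul_one, mul_inv_cancel]
    rw [hy, hf₂x.mul_pow, mul_comm (q ^ a) (q ^ b), pow_mul (f₁ * x), hb', one_pow, mul_one] at h1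
    have h2 : f₂ ^ Nat.card F₂ = 1 := by
      have := pow_card_eq_one' (G := F₂) (x := ⟨f₂, hf₂⟩)
      exact congrArg Subtype.val this
    have h3 := pow_gcd_eq_one.mpr ⟨h1, h2⟩
    have h4 : Nat.gcd (q ^ b * q ^ a) (Nat.card F₂) = 1 := by
      rw [← pow_add]; exact (Nat.Coprime.pow_left _ hF₂.symm)
    rwa [h4, pow_one] at h3
  rw [hf₂1, one_mul] at hy
  have hiter : ∀ i : ℕ, k ^ i * x * (k ^ i)⁻¹ = f₁ ^ i * x := by
    intro i
    induction i with
    | zero => simp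
    | succ i ih =>
      have hkf : Commute k (f₁ ^ i) := ((show Commute f₁ k from hkF₁ f₁ hf₁).symm).pow_right i
      calc k ^ (i + 1) * x * (k ^ (i + 1))⁻¹ = k * (k ^ i * x * (k ^ i)⁻¹) * k⁻¹ := by
            rw [pow_succ']; group
        _ = k * (f₁ ^ i * x) * k⁻¹ := by rw [ih]
        _ = (k * f₁ ^ i) * x * k⁻¹ := by group
        _ = (f₁ ^ i * k) * x * k⁻¹ := by rw [hkf.eq]
        _ = f₁ ^ i * (k * x * k⁻¹) := by group
        _ = f₁ ^ (i + 1) * x := by rw [hy, ← mul_assoc, ← pow_succ]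
  have hkB : k ^ Nat.card B = 1 := by
    have := pow_card_eq_one' (G := B) (x := ⟨k, hk⟩)
    exact congrArg Subtype.val this
  have h5 := hiter (Nat.card B)
  rw [hkB, one_mul, inv_one, mul_one] at h5
  have hf₁n : f₁ ^ Nat.card B = 1 := by
    have : f₁ ^ Nat.card B * x = 1 * x := by rw [one_mul]; exact h5.symm
    exact mul_right_cancel this
  obtain ⟨c, hc⟩ := hF₁ ⟨f₁, hf₁⟩
  have hc' : f₁ ^ (q ^ c) = 1 := by simpa using congrArg Subtype.val hc
  have hf₁1 : f₁ = 1 := by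
    have h3 := pow_gcd_eq_one.mpr ⟨hf₁n, hc'⟩
    have h4 : Nat.gcd (Nat.card B) (q ^ c) = 1 := Nat.Coprime.pow_right _ hB
    rwa [h4, pow_one] at h3
  rw [hf₁1, one_mul] at hy
  calc k * x = (k * x * k⁻¹) * k := by group
    _ = x * k := by rw [hy]

/-! ### components and subnormality relative to subgroups -/

theorem componentOf_restrict (M I : Subgroup G) (hIM : I ≤ M) (K' : Subgroup ↥M)
    (hK' : Cfsg.IsComponent K') (hKI : K'.map M.subtype ≤ I) :
    Cfsg.IsComponent ((K'.map M.subtype).subgroupOf I) := by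
  have e1 : (K'.map M.subtype).subgroupOf I = K'.comap (Subgroup.inclusion hIM) := by
    ext x
    rw [Subgroup.mem_subgroupOf, Subgroup.mem_comap]
    constructor
    · rintro ⟨y, hy, hyx⟩
      have : y = Subgroup.inclusion hIM x := Subtype.ext hyx
      rwa [← this]
    · intro h
      exact ⟨_, h, rfl⟩
  refine ⟨?_, ?_⟩
  · rw [e1]; exact hK'.1.comap _
  · exact qs_of_mulEquiv ((K'.equivMapOfInjective M.subtype M.subtype_injective).trans
      (Subgroup.subgroupOfEquivOfLe hKI).symm) hK'.2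

theorem comp_le_or_comm [Finite G] (I K R : Subgroup G)
    (hK : Cfsg.IsComponent (K.subgroupOf I)) (hKI : K ≤ I) (hRI : R ≤ I)
    (hn : I ≤ Subgroup.normalizer (R : Set G)) : K ≤ R ∨ ⁅K, R⁆ = ⊥ := by
  have hnorm : (R.subgroupOf I).Normal := (Subgroup.normal_subgroupOf_iff_le_normalizer hRI).mpr hn
  rcases component_le_or_comm hK hnorm.isSubnormal with h | h
  · left; exact le_of_subgroupOf_le hKI h
  · right
    have := comm_of_subgroupOf_comm h
    rwa [inf_eq_left.mpr hKI, inf_eq_left.mpr hRI] at this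

theorem subnormal_restrict (K R I : Subgroup G) (hRI : R ≤ I)
    (hs : (K.subgroupOf I).IsSubnormal) : (K.subgroupOf R).IsSubnormal := by
  have e1 : K.subgroupOf R = (K.subgroupOf I).comap (Subgroup.inclusion hRI) := by
    ext x
    rw [Subgroup.mem_subgroupOf, Subgroup.mem_comap, Subgroup.mem_subgroupOf]
    rfl
  rw [e1]; exact hs.comap _

theorem subnormal_extend (K R N : Subgroup G) (hKR : K ≤ R) (hRN : R ≤ N)
    (hn : N ≤ Subgroup.normalizer (R : Set G)) (hs : (K.subgroupOf R).IsSubnormal) :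
    (K.subgroupOf N).IsSubnormal := by
  have hnorm : (R.subgroupOf N).Normal := (Subgroup.normal_subgroupOf_iff_le_normalizer hRN).mpr hn
  have hle : K.subgroupOf N ≤ R.subgroupOf N := by
    intro x hx
    exact Subgroup.mem_subgroupOf.mpr (hKR (Subgroup.mem_subgroupOf.mp hx))
  refine Subgroup.IsSubnormal.trans hle ?_ hnorm.isSubnormal
  have e1 : (K.subgroupOf N).subgroupOf (R.subgroupOf N) =
      (K.subgroupOf R).comap (Subgroup.subgroupOfEquivOfLe hRN).toMonoidHom := by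
    ext x
    rw [Subgroup.mem_subgroupOf, Subgroup.mem_comap, Subgroup.mem_subgroupOf,
      Subgroup.mem_subgroupOf]
    rfl
  rw [e1]; exact hs.comap _

/-- If `F*(M) ≤ N` and `F*(N) ≤ M` then every component of `M` is a component of `N`. -/
theorem layOf_le_of_mutual [Finite G] (M N : Subgroup G)
    (h1 : (Cfsg.generalizedFittingSubgroup ↥M).map M.subtype ≤ N)
    (h2 : (Cfsg.generalizedFittingSubgroup ↥N).map N.subtype ≤ M) : layOf M ≤ layOf N := by
  show (Cfsg.layer ↥M).map M.subtype ≤ layOf N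
  rw [Subgroup.map_le_iff_le_comap]
  apply sSup_le
  intro K' hK'
  rw [← Subgroup.map_le_iff_le_comap]
  have hK'F : K' ≤ Cfsg.generalizedFittingSubgroup ↥M := (le_sSup hK').trans le_sup_left
  have hKN : K'.map M.subtype ≤ N := (Subgroup.map_mono hK'F).trans h1
  have hKM : K'.map M.subtype ≤ M := Subgroup.map_subtype_le _
  have hKI : K'.map M.subtype ≤ M ⊓ N := le_inf hKM hKN
  have hcomp := componentOf_restrict M (M ⊓ N) inf_le_left K' hK' hKI
  obtain ⟨R, hR⟩ : ∃ R, R = (Cfsg.generalizedFittingSubgroup ↥N).map N.subtype := ⟨_, rfl⟩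
  have hRN : R ≤ N := by rw [hR]; exact Subgroup.map_subtype_le _
  have hRI : R ≤ M ⊓ N := le_inf (by rw [hR]; exact h2) hRN
  have hNR : N ≤ Subgroup.normalizer (R : Set G) := by
    rw [hR]; exact le_normalizer_map_subtype' _ genFitting_normal
  have hKR : K'.map M.subtype ≤ R := by
    rcases comp_le_or_comm (M ⊓ N) (K'.map M.subtype) R hcomp hKI hRI (inf_le_right.trans hNR)
      with h | h
    · exact h
    · intro x hx
      have hxc : (⟨x, hKN hx⟩ : N) ∈
          Subgroup.centralizer (Cfsg.generalizedFittingSubgroup ↥N : Set ↥N) := by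
        rw [Subgroup.mem_centralizer_iff]
        intro y hy
        have hyR : (y : G) ∈ R := by rw [hR]; exact ⟨y, hy, rfl⟩
        have := Subgroup.mem_centralizer_iff.mp
          (Subgroup.commutator_eq_bot_iff_le_centralizer.mp h hx) (y : G) hyR
        exact Subtype.ext this
      have := centralizer_genFitting_le hxc
      rw [hR]; exact ⟨_, this, rfl⟩
  have hsub : ((K'.map M.subtype).subgroupOf N).IsSubnormal :=
    subnormal_extend _ R N hKR hRN hNR (subnormal_restrict _ R (M ⊓ N) hRI hcomp.1)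
  have hqs : Cfsg.IsQuasisimple ↥((K'.map M.subtype).subgroupOf N) :=
    qs_of_mulEquiv ((Subgroup.subgroupOfEquivOfLe hKI).trans
      (Subgroup.subgroupOfEquivOfLe hKN).symm) hcomp.2
  have hle : (K'.map M.subtype).subgroupOf N ≤ Cfsg.layer ↥N := le_sSup ⟨hsub, hqs⟩
  have h3 : K'.map M.subtype = ((K'.map M.subtype).subgroupOf N).map N.subtype := by
    rw [Subgroup.subgroupOf_map_subtype, inf_eq_left.mpr hKN]
  rw [h3]; exact Subgroup.map_mono hle

/-! ### the `q`-part and `q'`-part of the Fitting subgroup of a subgroup -/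

/-- `O_q(M)` inside `G` -/
def fq (q : ℕ) (M : Subgroup G) : Subgroup G := (Cfsg.pCore q ↥M).map M.subtype

/-- `O_{q'}(F(M))` inside `G` -/
def fq' (q : ℕ) (M : Subgroup G) : Subgroup G :=
  (Cfsg.fittingSubgroup ↥M ⊓ Cfsg.pPrimeCore q ↥M).map M.subtype

theorem fq_le (q : ℕ) (M : Subgroup G) : fq q M ≤ M := Subgroup.map_subtype_le _

theorem fq'_le (q : ℕ) (M : Subgroup G) : fq' q M ≤ M := Subgroup.map_subtype_le _

theorem fq_isPGroup [Finite G] (q : ℕ) [Fact q.Prime] (M : Subgroup G) : IsPGroup q (fq q M) :=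
  (pCore_isPGroup q).map _

theorem fq'_coprime [Finite G] (q : ℕ) (M : Subgroup G) : (Nat.card (fq' q M)).Coprime q := by
  unfold fq'
  rw [Subgroup.card_map_of_injective M.subtype_injective]
  exact Nat.Coprime.coprime_dvd_left (Subgroup.card_dvd_of_le inf_le_right)
    (pPrimeCore_card_coprime q)

theorem fq_normalizer (q : ℕ) (M : Subgroup G) :
    M ≤ Subgroup.normalizer ((fq q M : Subgroup G) : Set G) := by
  have h1 : (Cfsg.pCore q ↥M).Normal := Subgroup.sSup_normal _ (fun _ h => h.1)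
  exact le_normalizer_map_subtype' _ h1

theorem fq'_normalizer (q : ℕ) (M : Subgroup G) :
    M ≤ Subgroup.normalizer ((fq' q M : Subgroup G) : Set G) := by
  have h1 : (Cfsg.fittingSubgroup ↥M).Normal := fitting_normal
  have h2 : (Cfsg.pPrimeCore q ↥M).Normal := Subgroup.sSup_normal _ (fun _ h => h.1)
  have h3 : (Cfsg.fittingSubgroup ↥M ⊓ Cfsg.pPrimeCore q ↥M).Normal := inferInstance
  exact le_normalizer_map_subtype' _ h3

theorem fq_comm [Finite G] (q : ℕ) [Fact q.Prime] (M : Subgroup G) :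
    ∀ f₁ ∈ fq q M, ∀ f₂ ∈ fq' q M, f₁ * f₂ = f₂ * f₁ := by
  apply comm_of_normalizing_coprime ((fq_le q M).trans (fq'_normalizer q M))
    ((fq'_le q M).trans (fq_normalizer q M))
  obtain ⟨k, hk⟩ := IsPGroup.iff_card.mp (fq_isPGroup q M)
  rw [hk]
  exact (Nat.Coprime.pow_right k (fq'_coprime q M)).symm

theorem fitting_eq_sup [Finite G] (q : ℕ) [hq : Fact q.Prime] (M : Subgroup G) :
    Cfsg.pCore q ↥M ⊔ (Cfsg.fittingSubgroup ↥M ⊓ Cfsg.pPrimeCore q ↥M) =
      Cfsg.fittingSubgroup ↥M := by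
  apply le_antisymm
  · exact sup_le (pCore_le_fitting q) inf_le_left
  · rw [Cfsg.Agent.S0009.result (G := ↥M)]
    apply iSup_le
    intro p
    haveI : Fact (p : ℕ).Prime := ⟨p.2⟩
    by_cases hpq : (p : ℕ) = q
    · rw [hpq]; exact le_sup_left
    · refine le_trans (le_inf ?_ ?_) le_sup_right
      · rw [← Cfsg.Agent.S0009.result (G := ↥M)]; exact pCore_le_fitting p
      · have hn : (Cfsg.pCore (p : ℕ) ↥M).Normal := Subgroup.sSup_normal _ (fun _ h => h.1)
        refine le_pPrimeCore_of_normal q hn ?_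
        obtain ⟨k, hk⟩ := IsPGroup.iff_card.mp (pCore_isPGroup (G := ↥M) (p : ℕ))
        rw [hk]
        exact Nat.Coprime.pow_left k ((Nat.coprime_primes p.2 hq.out).mpr hpq)

theorem fq_sup [Finite G] (q : ℕ) [Fact q.Prime] (M : Subgroup G) :
    fq q M ⊔ fq' q M = (Cfsg.fittingSubgroup ↥M).map M.subtype := by
  unfold fq fq'
  rw [← Subgroup.map_sup, fitting_eq_sup]

theorem genFitting_eq_fitting_of_layer (M : Subgroup G) (hlay : Cfsg.layer ↥M = ⊥) :
    Cfsg.generalizedFittingSubgroup ↥M = Cfsg.fittingSubgroup ↥M := by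
  unfold Cfsg.generalizedFittingSubgroup
  rw [hlay, bot_sup_eq]

theorem fq'_ne_bot [Finite G] (M : Subgroup G) (hlay : Cfsg.layer ↥M = ⊥) (q : ℕ)
    [Fact q.Prime] (h : ¬ IsPGroup q ↥(Cfsg.generalizedFittingSubgroup ↥M)) : fq' q M ≠ ⊥ := by
  intro hb
  apply h
  have h1 : Cfsg.fittingSubgroup ↥M ⊓ Cfsg.pPrimeCore q ↥M = ⊥ :=
    (Subgroup.map_eq_bot_iff_of_injective _ M.subtype_injective).mp hb
  have h2 : Cfsg.generalizedFittingSubgroup ↥M = Cfsg.pCore q ↥M := by
    rw [genFitting_eq_fitting_of_layer M hlay, ← fitting_eq_sup q M, h1, sup_bot_eq]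
  rw [h2]; exact pCore_isPGroup q

theorem fq_ne_bot [Finite G] (M : Subgroup G) (hlay : Cfsg.layer ↥M = ⊥) (q : ℕ)
    [hq : Fact q.Prime] (h : q ∣ Nat.card ↥(Cfsg.generalizedFittingSubgroup ↥M)) :
    fq q M ≠ ⊥ := by
  intro hb
  have h1 : Cfsg.pCore q ↥M = ⊥ :=
    (Subgroup.map_eq_bot_iff_of_injective _ M.subtype_injective).mp hb
  have h2 : Cfsg.generalizedFittingSubgroup ↥M ≤ Cfsg.pPrimeCore q ↥M := by
    rw [genFitting_eq_fitting_of_layer M hlay, ← fitting_eq_sup q M, h1, bot_sup_eq]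
    exact inf_le_right
  have h3 : (Nat.card ↥(Cfsg.generalizedFittingSubgroup ↥M)).Coprime q :=
    Nat.Coprime.coprime_dvd_left (Subgroup.card_dvd_of_le h2) (pPrimeCore_card_coprime q)
  exact hq.out.one_lt.ne' (h3.symm.eq_one_of_dvd h)

end BenderMax

end Cfsg.Agent.Lib.Helper11
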