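import Mathlib
import Cfsg.Prelude.Def_OddOrderLocal
import Cfsg.Agent.Lib.Helper1.CoprimeSylow2
import Cfsg.Agent.Lib.Helper14.PiCore
import Cfsg.Agent.Lib.Helper11.BenderMax
import Cfsg.Agent.Lib.Helper21.CoprimeHall

set_option autoImplicit false
set_option linter.style.haveILetI false
open Pointwise

namespace Cfsg.Agent.Lib.Helper11

universe u

section BG7

variable {G : Type u} [Group G]

/-! ### Basics on minimal simple groups of odd order -/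

theorem mso_solvable (hG : Cfsg.IsMinSimpleOddOrder G) {H : Subgroup G} (hH : H ≠ ⊤) :
    Group.IsSolvable H := hG.2.2.2 H hH

theorem mso_normalizer_ne_top (hG : Cfsg.IsMinSimpleOddOrder G) {D : Subgroup G} (h1 : D ≠ ⊥)
    (h2 : D ≠ ⊤) : Subgroup.normalizer (D : Set G) ≠ ⊤ := by
  intro h
  haveI := hG.2.1
  have hn : D.Normal := Subgroup.normalizer_eq_top_iff.mp h
  rcases hn.eq_bot_or_eq_top with h' | h'
  exacts [h1 h', h2 h']

theorem mso_center (hG : Cfsg.IsMinSimpleOddOrder G) : Subgroup.center G = ⊥ := by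
  haveI := hG.2.1
  rcases (inferInstance : (Subgroup.center G).Normal).eq_bot_or_eq_top with h | h
  · exact h
  · exfalso
    apply hG.2.2.1
    refine ⟨⟨fun a b => ?_⟩⟩
    have ha : a ∈ Subgroup.center G := h ▸ Subgroup.mem_top a
    exact (Subgroup.mem_center_iff.mp ha b).symm

theorem mso_centralizer_ne_top (hG : Cfsg.IsMinSimpleOddOrder G) {a : G} (ha : a ≠ 1) :
    Subgroup.centralizer ({a} : Set G) ≠ ⊤ := by
  intro h
  apply ha
  have h1 : a ∈ Subgroup.center G := by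
    rw [Subgroup.mem_center_iff]
    intro g
    have hg : g ∈ Subgroup.centralizer ({a} : Set G) := h ▸ Subgroup.mem_top g
    exact (Subgroup.mem_centralizer_iff.mp hg a rfl).symm
  rw [mso_center hG] at h1
  exact Subgroup.mem_bot.mp h1

theorem mso_centralizer_sub_ne_top (hG : Cfsg.IsMinSimpleOddOrder G) {A : Subgroup G}
    (hA : A ≠ ⊥) : Subgroup.centralizer (A : Set G) ≠ ⊤ := by
  obtain ⟨a, ha1⟩ := (Subgroup.ne_bot_iff_exists_ne_one).mp hA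
  have ha1' : (a : G) ≠ 1 := fun h' => ha1 (Subtype.ext h')
  intro h
  apply mso_centralizer_ne_top hG ha1'
  rw [eq_top_iff, ← h]
  exact Subgroup.centralizer_le (Set.singleton_subset_iff.mpr a.2)

/-! ### `piCoreOf` -/

theorem piCoreOf_le (π : Set ℕ) (X : Subgroup G) : Cfsg.piCoreOf π X ≤ X :=
  Subgroup.map_subtype_le _

theorem piCoreOf_pi [Finite G] (π : Set ℕ) (X : Subgroup G) :
    ∀ p : ℕ, p.Prime → p ∣ Nat.card (Cfsg.piCoreOf π X) → p ∈ π := by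
  intro p hp hdvd
  have h1 : Nat.card (Cfsg.piCoreOf π X) = Nat.card (Cfsg.piCore π ↥X) :=
    Subgroup.card_map_of_injective X.subtype_injective
  rw [h1] at hdvd
  exact Helper14.piCore_mem π p hp hdvd

theorem normalizer_le_normalizer_piCoreOf [Finite G] (π : Set ℕ) (X : Subgroup G) :
    Subgroup.normalizer (X : Set G) ≤ Subgroup.normalizer ((Cfsg.piCoreOf π X : Subgroup G) : Set G) := by
  haveI := Helper14.piCore_characteristic (G := ↥X) π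
  exact Helper1.normalizer_le_normalizer_map_of_characteristic (Cfsg.piCore π ↥X)

theorem le_normalizer_piCoreOf [Finite G] (π : Set ℕ) (X : Subgroup G) :
    X ≤ Subgroup.normalizer ((Cfsg.piCoreOf π X : Subgroup G) : Set G) :=
  Subgroup.le_normalizer.trans (normalizer_le_normalizer_piCoreOf π X)

theorem le_piCoreOf (π : Set ℕ) {N X : Subgroup G} (hNX : N ≤ X)
    (hX : X ≤ Subgroup.normalizer (N : Set G))
    (h : ∀ p : ℕ, p.Prime → p ∣ Nat.card N → p ∈ π) : N ≤ Cfsg.piCoreOf π X := by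
  have hn : (N.subgroupOf X).Normal := (Subgroup.normal_subgroupOf_iff_le_normalizer hNX).mpr hX
  have h1 : N.subgroupOf X ≤ Cfsg.piCore π ↥X := by
    apply Helper14.le_piCore π hn
    intro p hp hd
    rw [Nat.card_congr (Subgroup.subgroupOfEquivOfLe hNX).toEquiv] at hd
    exact h p hp hd
  intro x hx
  exact ⟨⟨x, hNX hx⟩, h1 (Subgroup.mem_subgroupOf.mpr hx), rfl⟩

theorem coprime_of_primesNotDvd [Finite G] {A Y : Subgroup G}
    (hY : ∀ p : ℕ, p.Prime → p ∣ Nat.card Y → p ∈ Cfsg.primesNotDvd (Nat.card A)) :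
    (Nat.card A).Coprime (Nat.card Y) := by
  by_contra h
  obtain ⟨p, hp, hpd⟩ := Nat.exists_prime_and_dvd h
  exact (hY p hp (hpd.trans (Nat.gcd_dvd_right _ _))).2 (hpd.trans (Nat.gcd_dvd_left _ _))

theorem primesNotDvd_of_coprime [Finite G] {A Y : Subgroup G}
    (h : (Nat.card A).Coprime (Nat.card Y)) :
    ∀ p : ℕ, p.Prime → p ∣ Nat.card Y → p ∈ Cfsg.primesNotDvd (Nat.card A) := by
  intro p hp hd
  refine ⟨hp, fun hd' => ?_⟩
  have := Nat.dvd_gcd hd' hd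
  rw [h] at this
  exact hp.one_lt.ne' (Nat.dvd_one.mp this)

theorem isPGroup_iff_singleton [Finite G] {q : ℕ} (hq : q.Prime) (Y : Subgroup G) :
    (∀ p : ℕ, p.Prime → p ∣ Nat.card Y → p ∈ ({q} : Set ℕ)) ↔ IsPGroup q Y := by
  constructor
  · intro h
    have h1 := Nat.eq_prime_pow_of_unique_prime_dvd (n := Nat.card Y) (p := q) Nat.card_pos.ne'
      (fun {d} hd hdv => h d hd hdv)
    haveI : Fact q.Prime := ⟨hq⟩
    exact IsPGroup.of_card h1
  · intro h p hp hd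
    haveI : Fact q.Prime := ⟨hq⟩
    obtain ⟨n, hn⟩ := IsPGroup.iff_card.mp h
    rw [hn] at hd
    exact (Nat.prime_dvd_prime_iff_eq hp hq).mp (hp.dvd_of_dvd_pow hd)

/-! ### Consequences of the transitivity hypothesis -/

theorem th_le_core {A : Subgroup G} (hA : Cfsg.TransitivityHypothesis A) {X Y : Subgroup G}
    (hX : X ≠ ⊤) (hAX : A ≤ X) (hYX : Y ≤ X)
    (hY : ∀ p : ℕ, p.Prime → p ∣ Nat.card Y → p ∈ Cfsg.primesNotDvd (Nat.card A))
    (hAY : A ≤ Subgroup.normalizer (Y : Set G)) :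
    Y ≤ Cfsg.piCoreOf (Cfsg.primesNotDvd (Nat.card A)) X := by
  rw [← hA.2.2 X hX hAX]
  exact le_sSup ⟨hYX, hY, hAY⟩

theorem centralizer_le_normalizer_of_le {A Y : Subgroup G}
    (h : Y ≤ Subgroup.centralizer (A : Set G)) : A ≤ Subgroup.normalizer (Y : Set G) := by
  intro a ha
  rw [Subgroup.mem_normalizer_iff]
  intro y
  constructor
  · intro hy
    have := Subgroup.mem_centralizer_iff.mp (h hy) a ha
    rw [this, mul_inv_cancel_right]
    exact hy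
  · intro hy
    have := Subgroup.mem_centralizer_iff.mp (h hy) a ha
    have h2 : y = a⁻¹ * (a * y * a⁻¹) * a := by group
    rw [h2, mul_assoc, ← this, ← mul_assoc, inv_mul_cancel, one_mul]
    exact hy

/-- `O_{π'}(N_G(A)) ≤ O_{π'}(C_G(A))`. -/
theorem th_core_normalizer_le [Finite G] (A : Subgroup G) :
    Cfsg.piCoreOf (Cfsg.primesNotDvd (Nat.card A)) (Subgroup.normalizer (A : Set G)) ≤
      Cfsg.piCoreOf (Cfsg.primesNotDvd (Nat.card A)) (Subgroup.centralizer (A : Set G)) := by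
  obtain ⟨O, hO⟩ : ∃ O : Subgroup G,
      O = Cfsg.piCoreOf (Cfsg.primesNotDvd (Nat.card A)) (Subgroup.normalizer (A : Set G)) := ⟨_, rfl⟩
  rw [← hO]
  have hON : O ≤ Subgroup.normalizer (A : Set G) := hO ▸ piCoreOf_le _ _
  have hNO : Subgroup.normalizer (A : Set G) ≤ Subgroup.normalizer (O : Set G) :=
    hO ▸ le_normalizer_piCoreOf _ _
  have hOpi : ∀ p : ℕ, p.Prime → p ∣ Nat.card O → p ∈ Cfsg.primesNotDvd (Nat.card A) :=
    hO ▸ piCoreOf_pi _ _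
  have hcop := coprime_of_primesNotDvd hOpi
  have hcomm := comm_of_normalizing_coprime (Subgroup.le_normalizer.trans hNO) hON hcop
  have hOC : O ≤ Subgroup.centralizer (A : Set G) := by
    intro o ho
    rw [Subgroup.mem_centralizer_iff]
    intro a ha
    exact hcomm a ha o ho
  exact le_piCoreOf _ hOC ((Subgroup.centralizer_le_normalizer _).trans hNO) hOpi

/-- `C_{O_{π'}(H)}(A) ≤ O_{π'}(C_G(A))` for proper `H ≥ A`. -/
theorem th_centralizer_core_le [Finite G] (hG : Cfsg.IsMinSimpleOddOrder G) {A : Subgroup G}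
    (hA : Cfsg.TransitivityHypothesis A) {Y : Subgroup G}
    (hY : ∀ p : ℕ, p.Prime → p ∣ Nat.card Y → p ∈ Cfsg.primesNotDvd (Nat.card A)) :
    Y ⊓ Subgroup.centralizer (A : Set G) ≤
      Cfsg.piCoreOf (Cfsg.primesNotDvd (Nat.card A)) (Subgroup.centralizer (A : Set G)) := by
  refine le_trans ?_ (th_core_normalizer_le A)
  apply th_le_core hA (mso_normalizer_ne_top hG hA.1 hA.2.1) Subgroup.le_normalizer
    (inf_le_right.trans (Subgroup.centralizer_le_normalizer _))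
  · intro p hp hd
    exact hY p hp (hd.trans (Subgroup.card_dvd_of_le inf_le_left))
  · exact centralizer_le_normalizer_of_le inf_le_right

/-! ### Conjugation of invariant subgroups -/

theorem conj_smul_eq_map (c : G) (Y : Subgroup G) :
    MulAut.conj c • Y = Y.map (MulAut.conj c).toMonoidHom := rfl

theorem mem_map_conj {c x : G} {Y : Subgroup G} :
    x ∈ Y.map (MulAut.conj c).toMonoidHom ↔ c⁻¹ * x * c ∈ Y := by
  constructor
  · rintro ⟨y, hy, rfl⟩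
    have : c⁻¹ * (MulAut.conj c).toMonoidHom y * c = y := by
      show c⁻¹ * (c * y * c⁻¹) * c = y
      group
    rw [this]; exact hy
  · intro h
    refine ⟨c⁻¹ * x * c, h, ?_⟩
    show c * (c⁻¹ * x * c) * c⁻¹ = x
    group

theorem map_conj_map_conj (a b : G) (Q : Subgroup G) :
    (Q.map (MulAut.conj b).toMonoidHom).map (MulAut.conj a).toMonoidHom =
      Q.map (MulAut.conj (a * b)).toMonoidHom := by
  ext x
  rw [mem_map_conj, mem_map_conj, mem_map_conj]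
  have : b⁻¹ * (a⁻¹ * x * a) * b = (a * b)⁻¹ * x * (a * b) := by group
  rw [this]

theorem map_conj_one (Q : Subgroup G) : Q.map (MulAut.conj (1 : G)).toMonoidHom = Q := by
  ext x
  rw [mem_map_conj]
  simp

theorem card_map_conj (c : G) (Q : Subgroup G) :
    Nat.card (Q.map (MulAut.conj c).toMonoidHom) = Nat.card Q :=
  Subgroup.card_map_of_injective (MulAut.conj c).injective

theorem map_conj_mono (c : G) {Q R : Subgroup G} (h : Q ≤ R) :
    Q.map (MulAut.conj c).toMonoidHom ≤ R.map (MulAut.conj c).toMonoidHom :=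
  Subgroup.map_mono h

theorem le_normalizer_map_conj {A Y : Subgroup G} {c : G}
    (hc : c ∈ Subgroup.normalizer (A : Set G)) (hAY : A ≤ Subgroup.normalizer (Y : Set G)) :
    A ≤ Subgroup.normalizer ((Y.map (MulAut.conj c).toMonoidHom : Subgroup G) : Set G) := by
  intro a ha
  rw [Subgroup.mem_normalizer_iff]
  intro x
  rw [mem_map_conj, mem_map_conj]
  have ha' : c⁻¹ * a * c ∈ A := (Subgroup.mem_normalizer_iff''.mp hc a).mp ha
  have h1 := Subgroup.mem_normalizer_iff.mp (hAY ha') (c⁻¹ * x * c)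
  rw [h1]
  have : c⁻¹ * a * c * (c⁻¹ * x * c) * (c⁻¹ * a * c)⁻¹ = c⁻¹ * (a * x * a⁻¹) * c := by group
  rw [this]

theorem inv_conj {A : Subgroup G} {π : Set ℕ} {Y : Subgroup G}
    (hY : Y ∈ Cfsg.invSubgroups ⊤ A π) {c : G} (hc : c ∈ Subgroup.normalizer (A : Set G)) :
    Y.map (MulAut.conj c).toMonoidHom ∈ Cfsg.invSubgroups ⊤ A π := by
  refine ⟨le_top, ?_, le_normalizer_map_conj hc hY.2.2⟩
  rw [card_map_conj]
  exact hY.2.1

theorem maxInv_conj {A : Subgroup G} {π : Set ℕ} {Q : Subgroup G}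
    (hQ : Q ∈ Cfsg.maxInvSubgroups ⊤ A π) {c : G} (hc : c ∈ Subgroup.normalizer (A : Set G)) :
    Q.map (MulAut.conj c).toMonoidHom ∈ Cfsg.maxInvSubgroups ⊤ A π := by
  refine ⟨inv_conj hQ.1 hc, ?_⟩
  intro R hR hle
  have hc' : c⁻¹ ∈ Subgroup.normalizer (A : Set G) := Subgroup.inv_mem _ hc
  have h1 := inv_conj hR hc'
  have h2 : Q ≤ R.map (MulAut.conj c⁻¹).toMonoidHom := by
    have := map_conj_mono c⁻¹ hle
    rwa [map_conj_map_conj, inv_mul_cancel, map_conj_one] at this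
  have h3 := hQ.2 _ h1 h2
  have h4 := congrArg (fun S : Subgroup G => S.map (MulAut.conj c).toMonoidHom) h3
  simp only [map_conj_map_conj, mul_inv_cancel, map_conj_one] at h4
  exact h4

theorem exists_maxInv_ge [Finite G] {A : Subgroup G} {π : Set ℕ} {Y : Subgroup G}
    (hY : Y ∈ Cfsg.invSubgroups ⊤ A π) : ∃ Q ∈ Cfsg.maxInvSubgroups ⊤ A π, Y ≤ Q := by
  obtain ⟨Q, hYQ, hQ⟩ := (Set.toFinite (Cfsg.invSubgroups ⊤ A π)).exists_le_maximal hY
  refine ⟨Q, ⟨hQ.1, ?_⟩, hYQ⟩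
  intro R hR hle
  exact le_antisymm (hQ.2 hR hle) hle

theorem mem_inv_of_pgroup [Finite G] {A Y : Subgroup G} {q : ℕ} (hq : q.Prime) (hY : IsPGroup q Y)
    (hAY : A ≤ Subgroup.normalizer (Y : Set G)) : Y ∈ Cfsg.invSubgroups ⊤ A {q} :=
  ⟨le_top, (isPGroup_iff_singleton hq Y).mpr hY, hAY⟩

theorem pgroup_primesNotDvd [Finite G] {A Y : Subgroup G} {q : ℕ} (hq : q.Prime)
    (hqA : ¬ q ∣ Nat.card A) (hY : IsPGroup q Y) :
    ∀ p : ℕ, p.Prime → p ∣ Nat.card Y → p ∈ Cfsg.primesNotDvd (Nat.card A) := by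
  intro p hp hd
  have := (isPGroup_iff_singleton hq Y).mpr hY p hp hd
  rw [Set.mem_singleton_iff] at this
  subst this
  exact ⟨hp, hqA⟩

/-! ### The transitivity theorem -/

theorem th_step [Finite G] (hG : Cfsg.IsMinSimpleOddOrder G) {A : Subgroup G}
    (hA : Cfsg.TransitivityHypothesis A) {q : ℕ} (hq : q.Prime) (hqA : ¬ q ∣ Nat.card A)
    {N R₁ R₂ : Subgroup G} (hN : N ≠ ⊤) (hAN : A ≤ N) (h1N : R₁ ≤ N) (h2N : R₂ ≤ N)
    (h1q : IsPGroup q R₁) (h2q : IsPGroup q R₂)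
    (h1A : A ≤ Subgroup.normalizer (R₁ : Set G)) (h2A : A ≤ Subgroup.normalizer (R₂ : Set G)) :
    ∃ Q' ∈ Cfsg.maxInvSubgroups ⊤ A {q},
      ∃ c ∈ Cfsg.piCoreOf (Cfsg.primesNotDvd (Nat.card A)) (Subgroup.centralizer (A : Set G)),
        R₁ ≤ Q' ∧ R₂ ≤ Q'.map (MulAut.conj c).toMonoidHom := by
  haveI : Fact q.Prime := ⟨hq⟩
  obtain ⟨Y, hYdef⟩ : ∃ Y : Subgroup G,
      Y = Cfsg.piCoreOf (Cfsg.primesNotDvd (Nat.card A)) N := ⟨_, rfl⟩
  have hYN : Y ≤ N := hYdef ▸ piCoreOf_le _ _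
  have hYpi : ∀ p : ℕ, p.Prime → p ∣ Nat.card Y → p ∈ Cfsg.primesNotDvd (Nat.card A) :=
    hYdef ▸ piCoreOf_pi _ _
  have hcop := coprime_of_primesNotDvd hYpi
  have hAY : A ≤ Subgroup.normalizer (Y : Set G) := hYdef ▸ hAN.trans (le_normalizer_piCoreOf _ _)
  haveI : Group.IsSolvable N := mso_solvable hG hN
  have hsolv : Group.IsSolvable Y := Helper1.isSolvable_of_le hYN
  have hR₁Y : R₁ ≤ Y := hYdef ▸ th_le_core hA hN hAN h1N (pgroup_primesNotDvd hq hqA h1q) h1A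
  have hR₂Y : R₂ ≤ Y := hYdef ▸ th_le_core hA hN hAN h2N (pgroup_primesNotDvd hq hqA h2q) h2A
  obtain ⟨S₁, hS₁, hAS₁⟩ := Helper1.invariant_pgroup_le_invariant_sylow A Y hAY hcop
    (Or.inr hsolv) q _ R₁ hR₁Y h1q h1A le_rfl
  obtain ⟨S₂, hS₂, hAS₂⟩ := Helper1.invariant_pgroup_le_invariant_sylow A Y hAY hcop
    (Or.inr hsolv) q _ R₂ hR₂Y h2q h2A le_rfl
  obtain ⟨c, hcA, hc⟩ := Helper1.invariant_sylow_conj A Y hAY hcop (Or.inr hsolv) q S₁ S₂ hAS₁ hAS₂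
  have hT₁ : (S₁ : Subgroup Y).map Y.subtype ∈ Cfsg.invSubgroups ⊤ A {q} :=
    mem_inv_of_pgroup hq (S₁.2.map _) hAS₁
  obtain ⟨Q', hQ', hT₁Q'⟩ := exists_maxInv_ge hT₁
  refine ⟨Q', hQ', (c : G), ?_, hS₁.trans hT₁Q', ?_⟩
  · exact th_centralizer_core_le hG hA hYpi (Subgroup.mem_inf.mpr ⟨c.2, hcA⟩)
  · refine hS₂.trans ?_
    rw [← hc, Helper1.sylow_smul_map, conj_smul_eq_map]
    exact map_conj_mono _ hT₁Q'

theorem th_conj_of_inf [Finite G] (hG : Cfsg.IsMinSimpleOddOrder G) {A : Subgroup G}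
    (hA : Cfsg.TransitivityHypothesis A) {q : ℕ} (hq : q.Prime) (hqA : ¬ q ∣ Nat.card A) :
    ∀ (n : ℕ) (Q₁ Q₂ : Subgroup G), Q₁ ∈ Cfsg.maxInvSubgroups ⊤ A {q} →
      Q₂ ∈ Cfsg.maxInvSubgroups ⊤ A {q} → Q₁ ⊓ Q₂ ≠ ⊥ →
      Nat.card G - Nat.card ↥(Q₁ ⊓ Q₂) ≤ n →
      ∃ k ∈ Cfsg.piCoreOf (Cfsg.primesNotDvd (Nat.card A)) (Subgroup.centralizer (A : Set G)),
        Q₂ = Q₁.map (MulAut.conj k).toMonoidHom := by
  intro n
  induction n using Nat.strong_induction_on with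
  | _ n ih =>
    intro Q₁ Q₂ h₁ h₂ hD hn
    haveI : Fact q.Prime := ⟨hq⟩
    have hq₁ : IsPGroup q Q₁ := (isPGroup_iff_singleton hq Q₁).mp h₁.1.2.1
    have hq₂ : IsPGroup q Q₂ := (isPGroup_iff_singleton hq Q₂).mp h₂.1.2.1
    by_cases h12 : Q₁ ≤ Q₂
    · refine ⟨1, Subgroup.one_mem _, ?_⟩
      rw [map_conj_one]
      exact h₁.2 Q₂ h₂.1 h12
    by_cases h21 : Q₂ ≤ Q₁
    · refine ⟨1, Subgroup.one_mem _, ?_⟩
      rw [map_conj_one]
      exact (h₂.2 Q₁ h₁.1 h21).symm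
    obtain ⟨D, hDdef⟩ : ∃ D : Subgroup G, D = Q₁ ⊓ Q₂ := ⟨_, rfl⟩
    rw [← hDdef] at hD hn
    have hD₁ : D < Q₁ := hDdef ▸ lt_of_le_of_ne inf_le_left (fun h => h12 (inf_eq_left.mp h))
    have hD₂ : D < Q₂ := hDdef ▸ lt_of_le_of_ne inf_le_right (fun h => h21 (inf_eq_right.mp h))
    have hAD : A ≤ Subgroup.normalizer (D : Set G) :=
      hDdef ▸ Helper21.le_normalizer_inf_of_le h₁.1.2.2 h₂.1.2.2
    have hN : Subgroup.normalizer (D : Set G) ≠ ⊤ :=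
      mso_normalizer_ne_top hG hD (ne_top_of_lt hD₁)
    have hAN : A ≤ Subgroup.normalizer ((Subgroup.normalizer (D : Set G) : Subgroup G) : Set G) :=
      hAD.trans Subgroup.le_normalizer
    obtain ⟨x₁, hx₁Q, hx₁D, hx₁N⟩ := Helper1.exists_mem_normalizer_not_mem hq₁ hD₁
    obtain ⟨x₂, hx₂Q, hx₂D, hx₂N⟩ := Helper1.exists_mem_normalizer_not_mem hq₂ hD₂
    obtain ⟨Q', hQ', c, hc, hR₁, hR₂⟩ := th_step hG hA hq hqA hN hAD
      (inf_le_right : Q₁ ⊓ Subgroup.normalizer (D : Set G) ≤ _)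
      (inf_le_right : Q₂ ⊓ Subgroup.normalizer (D : Set G) ≤ _)
      (hq₁.to_le inf_le_left) (hq₂.to_le inf_le_left)
      (Helper21.le_normalizer_inf_of_le h₁.1.2.2 hAN)
      (Helper21.le_normalizer_inf_of_le h₂.1.2.2 hAN)
    have hcN : c ∈ Subgroup.normalizer (A : Set G) :=
      Subgroup.centralizer_le_normalizer _ (piCoreOf_le _ _ hc)
    have hQ'' := maxInv_conj hQ' hcN
    -- first pair
    have hDle₁ : D ≤ Q₁ ⊓ Q' :=
      le_inf hD₁.le (le_trans (le_inf hD₁.le Subgroup.le_normalizer) hR₁)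
    have hlt₁ : D < Q₁ ⊓ Q' := by
      refine lt_of_le_of_ne hDle₁ (fun h => hx₁D ?_)
      rw [h]
      exact Subgroup.mem_inf.mpr ⟨hx₁Q, hR₁ (Subgroup.mem_inf.mpr ⟨hx₁Q, hx₁N⟩)⟩
    have hc₁ := Helper1.card_lt_of_lt hlt₁
    have hle₁ : Nat.card ↥(Q₁ ⊓ Q') ≤ Nat.card G := Subgroup.card_le_card_group _
    obtain ⟨k₁, hk₁, e₁⟩ := ih (Nat.card G - Nat.card ↥(Q₁ ⊓ Q')) (by omega) Q₁ Q' h₁ hQ'
      (ne_bot_of_le_ne_bot hD hDle₁) le_rfl
    -- second pair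
    have hDle₂ : D ≤ Q'.map (MulAut.conj c).toMonoidHom ⊓ Q₂ :=
      le_inf (le_trans (le_inf hD₂.le Subgroup.le_normalizer) hR₂) hD₂.le
    have hlt₂ : D < Q'.map (MulAut.conj c).toMonoidHom ⊓ Q₂ := by
      refine lt_of_le_of_ne hDle₂ (fun h => hx₂D ?_)
      rw [h]
      exact Subgroup.mem_inf.mpr ⟨hR₂ (Subgroup.mem_inf.mpr ⟨hx₂Q, hx₂N⟩), hx₂Q⟩
    have hc₂ := Helper1.card_lt_of_lt hlt₂
    have hle₂ : Nat.card ↥(Q'.map (MulAut.conj c).toMonoidHom ⊓ Q₂) ≤ Nat.card G :=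
      Subgroup.card_le_card_group _
    obtain ⟨k₂, hk₂, e₂⟩ := ih (Nat.card G - Nat.card ↥(Q'.map (MulAut.conj c).toMonoidHom ⊓ Q₂))
      (by omega) _ Q₂ hQ'' h₂ (ne_bot_of_le_ne_bot hD hDle₂) le_rfl
    refine ⟨k₂ * c * k₁, Subgroup.mul_mem _ (Subgroup.mul_mem _ hk₂ hc) hk₁, ?_⟩
    rw [e₂, e₁, map_conj_map_conj, map_conj_map_conj]

/-- The transitivity theorem, basic form (B-G 7.2). -/
theorem th_conj [Finite G] (hG : Cfsg.IsMinSimpleOddOrder G) {A : Subgroup G}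
    (hA : Cfsg.TransitivityHypothesis A) {q : ℕ} (hq : q.Prime) (hqA : ¬ q ∣ Nat.card A)
    {Q₁ Q₂ : Subgroup G} (h₁ : Q₁ ∈ Cfsg.maxInvSubgroups ⊤ A {q})
    (h₂ : Q₂ ∈ Cfsg.maxInvSubgroups ⊤ A {q})
    {H : Subgroup G} (hH : H ≠ ⊤) (hAH : A ≤ H) (hH₁ : H ⊓ Q₁ ≠ ⊥) (hH₂ : H ⊓ Q₂ ≠ ⊥) :
    ∃ k ∈ Cfsg.piCoreOf (Cfsg.primesNotDvd (Nat.card A)) (Subgroup.centralizer (A : Set G)),
      Q₂ = Q₁.map (MulAut.conj k).toMonoidHom := by
  haveI : Fact q.Prime := ⟨hq⟩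
  have hq₁ : IsPGroup q Q₁ := (isPGroup_iff_singleton hq Q₁).mp h₁.1.2.1
  have hq₂ : IsPGroup q Q₂ := (isPGroup_iff_singleton hq Q₂).mp h₂.1.2.1
  have hAH' : A ≤ Subgroup.normalizer (H : Set G) := hAH.trans Subgroup.le_normalizer
  obtain ⟨Q', hQ', c, hc, hR₁, hR₂⟩ := th_step hG hA hq hqA hH hAH
    (inf_le_left : H ⊓ Q₁ ≤ H) (inf_le_left : H ⊓ Q₂ ≤ H)
    (hq₁.to_le inf_le_right) (hq₂.to_le inf_le_right)
    (Helper21.le_normalizer_inf_of_le hAH' h₁.1.2.2)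
    (Helper21.le_normalizer_inf_of_le hAH' h₂.1.2.2)
  have hcN : c ∈ Subgroup.normalizer (A : Set G) :=
    Subgroup.centralizer_le_normalizer _ (piCoreOf_le _ _ hc)
  have hQ'' := maxInv_conj hQ' hcN
  obtain ⟨k₁, hk₁, e₁⟩ := th_conj_of_inf hG hA hq hqA _ Q₁ Q' h₁ hQ'
    (ne_bot_of_le_ne_bot hH₁ (le_inf inf_le_right hR₁)) le_rfl
  obtain ⟨k₂, hk₂, e₂⟩ := th_conj_of_inf hG hA hq hqA _ _ Q₂ hQ'' h₂
    (ne_bot_of_le_ne_bot hH₂ (le_inf hR₂ inf_le_right)) le_rfl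
  refine ⟨k₂ * c * k₁, Subgroup.mul_mem _ (Subgroup.mul_mem _ hk₂ hc) hk₁, ?_⟩
  rw [e₂, e₁, map_conj_map_conj, map_conj_map_conj]

end BG7

end Cfsg.Agent.Lib.Helper11
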