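import Mathlib
import Cfsg.Agent.Lib.Helper11.BG7
import Cfsg.Agent.Lib.Helper11.Hall
import Cfsg.Agent.Lib.Helper21.CoCyclic

set_option autoImplicit false
set_option linter.style.haveILetI false
open Pointwise

namespace Cfsg.Agent.Lib.Helper11

universe u

section BG7b

variable {G : Type u} [Group G]

theorem sub_comm_of_imc {H : Subgroup G} (h : IsMulCommutative H) :
    ∀ a ∈ H, ∀ b ∈ H, a * b = b * a :=
  fun a ha b hb => congrArg Subtype.val (h.is_comm.comm ⟨a, ha⟩ ⟨b, hb⟩)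

theorem imc_of_sub_comm {H : Subgroup G} (h : ∀ a ∈ H, ∀ b ∈ H, a * b = b * a) :
    IsMulCommutative H :=
  ⟨⟨fun a b => Subtype.ext (h a a.2 b b.2)⟩⟩

theorem card_mul_card_le_of_disjoint [Finite G] {B₁ B₂ E : Subgroup G} (h₁ : B₁ ≤ E) (h₂ : B₂ ≤ E)
    (hd : B₁ ⊓ B₂ = ⊥) : Nat.card B₁ * Nat.card B₂ ≤ Nat.card E := by
  rw [← Nat.card_prod]
  have hinj := Subgroup.mul_injective_of_disjoint (disjoint_iff.mpr hd)
  apply Nat.card_le_card_of_injective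
    (fun g : B₁ × B₂ => (⟨(g.1 : G) * (g.2 : G), E.mul_mem (h₁ g.1.2) (h₂ g.2.2)⟩ : E))
  intro a b hab
  exact hinj (congrArg Subtype.val hab)

/-- Coprime action of an abelian group `E` with `E/D` elementary abelian of order `> p`,
`D` acting trivially: some subgroup strictly above `D` has nontrivial fixed points. -/
theorem exists_centralizer_ne_bot [Finite G] (p : ℕ) [Fact p.Prime] (Q D E : Subgroup G)
    (hDE : D ≤ E) (hEc : IsMulCommutative E) (hEQ : E ≤ Subgroup.normalizer (Q : Set G))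
    (hDQ : D ≤ Subgroup.centralizer (Q : Set G)) (hEp : ∀ e ∈ E, e ^ p ∈ D)
    (hcop : (Nat.card E).Coprime (Nat.card Q)) (hp : p < D.relIndex E) (hQ : Q ≠ ⊥) :
    ∃ B : Subgroup G, D < B ∧ B ≤ E ∧ Q ⊓ Subgroup.centralizer (B : Set G) ≠ ⊥ := by
  by_contra hcon
  push Not at hcon
  have h := Helper21.hyperplane_generation_rel p Q D E hDE hEQ hDQ hEp hcop hp
  apply hQ
  rw [eq_bot_iff]
  refine h.trans ?_
  apply iSup₂_le
  intro B hB
  rw [hcon B hB.1 hB.2]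

theorem pow_card_lt [Finite G] {p : ℕ} (hp : p.Prime) {B : Subgroup G} (hB : IsPGroup p B)
    (h : p < Nat.card B) : p ^ 2 ≤ Nat.card B := by
  haveI : Fact p.Prime := ⟨hp⟩
  obtain ⟨j, hj⟩ := IsPGroup.iff_card.mp hB
  rw [hj] at h ⊢
  have : 2 ≤ j := by
    by_contra hlt
    have hj1 : j ≤ 1 := by omega
    have := Nat.pow_le_pow_right hp.pos hj1
    rw [pow_one] at this
    omega
  exact Nat.pow_le_pow_right hp.pos this

theorem isPGroup_of_pow_eq_one {p : ℕ} {E : Subgroup G} (h : ∀ e ∈ E, e ^ p = 1) :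
    IsPGroup p E := by
  intro g
  refine ⟨1, ?_⟩
  rw [pow_one]
  exact Subtype.ext (h g g.2)

/-- Rank 2 step: a nontrivial `p'`-group normalized by an elementary abelian group of order
`> p` is centralized nontrivially by some non-identity element. -/
theorem exists_elt_centralizer_ne_bot [Finite G] (p : ℕ) [Fact p.Prime] (Q E : Subgroup G)
    (hEc : IsMulCommutative E) (hEQ : E ≤ Subgroup.normalizer (Q : Set G))
    (hEp : ∀ e ∈ E, e ^ p = 1)
    (hcop : (Nat.card E).Coprime (Nat.card Q)) (hp : p < Nat.card E) (hQ : Q ≠ ⊥) :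
    ∃ b ∈ E, b ≠ 1 ∧ Q ⊓ Subgroup.centralizer ({b} : Set G) ≠ ⊥ := by
  obtain ⟨B, hB, hBE, hQB⟩ := exists_centralizer_ne_bot p Q ⊥ E bot_le hEc hEQ bot_le
    (fun e he => by rw [hEp e he]; exact Subgroup.one_mem _) hcop
    (by rw [Subgroup.relIndex_bot_left]; exact hp) hQ
  obtain ⟨b, hb1⟩ := (Subgroup.ne_bot_iff_exists_ne_one).mp (bot_lt_iff_ne_bot.mp hB)
  refine ⟨(b : G), hBE b.2, fun h => hb1 (Subtype.ext h), ?_⟩
  refine ne_bot_of_le_ne_bot hQB (inf_le_inf_left _ ?_)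
  exact Subgroup.centralizer_le (Set.singleton_subset_iff.mpr b.2)

/-- Rank 3 step: with `E` elementary abelian of order `p^3`, some subgroup of order `≥ p^2`
has nontrivial fixed points. -/
theorem exists_sq_centralizer_ne_bot [Finite G] (p : ℕ) [Fact p.Prime] (Q E : Subgroup G)
    (hEc : IsMulCommutative E) (hEQ : E ≤ Subgroup.normalizer (Q : Set G))
    (hEp : ∀ e ∈ E, e ^ p = 1)
    (hcop : (Nat.card E).Coprime (Nat.card Q)) (hE : Nat.card E = p ^ 3) (hQ : Q ≠ ⊥) :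
    ∃ B : Subgroup G, B ≤ E ∧ p ^ 2 ≤ Nat.card B ∧ Q ⊓ Subgroup.centralizer (B : Set G) ≠ ⊥ := by
  have hpp : p.Prime := Fact.out
  have hcomm := sub_comm_of_imc hEc
  have hplt : p < Nat.card E := by
    rw [hE]
    calc p = p ^ 1 := (pow_one p).symm
      _ < p ^ 3 := Nat.pow_lt_pow_right hpp.one_lt (by norm_num)
  obtain ⟨b, hbE, hb1, hQb⟩ := exists_elt_centralizer_ne_bot p Q E hEc hEQ hEp hcop hplt hQ
  obtain ⟨D, hDdef⟩ : ∃ D : Subgroup G, D = Subgroup.zpowers b := ⟨_, rfl⟩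
  have hDE : D ≤ E := by rw [hDdef, Subgroup.zpowers_le]; exact hbE
  have hbo : orderOf b = p := orderOf_eq_prime (hEp b hbE) hb1
  have hDcard : Nat.card D = p := by rw [hDdef, Nat.card_zpowers, hbo]
  have hcentD : Subgroup.centralizer (D : Set G) = Subgroup.centralizer ({b} : Set G) := by
    rw [hDdef, Subgroup.centralizer_eq_iInf]
    apply le_antisymm
    · exact iInf₂_le b (Subgroup.mem_zpowers b)
    · apply le_iInf₂
      intro x hx
      obtain ⟨k, rfl⟩ := Subgroup.mem_zpowers_iff.mp hx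
      intro g hg
      rw [Subgroup.mem_centralizer_iff] at hg ⊢
      intro y hy
      rw [Set.mem_singleton_iff] at hy
      subst hy
      have h1 := hg b rfl
      exact ((Commute.zpow_left (show Commute b g from h1) k)).eq
  obtain ⟨Q', hQ'def⟩ : ∃ Q' : Subgroup G, Q' = Q ⊓ Subgroup.centralizer (D : Set G) := ⟨_, rfl⟩
  have hQ'ne : Q' ≠ ⊥ := by rw [hQ'def, hcentD]; exact hQb
  have hEcD : E ≤ Subgroup.centralizer (D : Set G) := by
    rw [hcentD]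
    intro e he
    rw [Subgroup.mem_centralizer_iff]
    intro y hy
    rw [Set.mem_singleton_iff] at hy
    subst hy
    exact hcomm y hbE e he
  have hEQ' : E ≤ Subgroup.normalizer (Q' : Set G) :=
    hQ'def ▸ Helper21.le_normalizer_inf_of_le hEQ (hEcD.trans Subgroup.le_normalizer)
  have hDQ' : D ≤ Subgroup.centralizer (Q' : Set G) := by
    rw [Subgroup.le_centralizer_iff, hQ'def]
    exact inf_le_right
  have hcop' : (Nat.card E).Coprime (Nat.card Q') :=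
    Nat.Coprime.coprime_dvd_right (Subgroup.card_dvd_of_le (hQ'def ▸ inf_le_left)) hcop
  have hrel : p < D.relIndex E := by
    have h1 := relIndex_mul_card_of_le hDE
    rw [hDcard, hE] at h1
    have h2 : D.relIndex E = p ^ 2 := by
      have : p ^ 3 = p ^ 2 * p := by ring
      rw [this] at h1
      exact Nat.eq_of_mul_eq_mul_right hpp.pos h1
    rw [h2]
    calc p = p ^ 1 := (pow_one p).symm
      _ < p ^ 2 := Nat.pow_lt_pow_right hpp.one_lt (by norm_num)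
  obtain ⟨B, hDB, hBE, hQB⟩ := exists_centralizer_ne_bot p Q' D E hDE hEc hEQ' hDQ'
    (fun e he => by rw [hEp e he]; exact Subgroup.one_mem _) hcop' hrel hQ'ne
  refine ⟨B, hBE, ?_, ?_⟩
  · apply pow_card_lt hpp ((isPGroup_of_pow_eq_one hEp).to_le hBE)
    have := Helper1.card_lt_of_lt hDB
    omega
  · refine ne_bot_of_le_ne_bot hQB (inf_le_inf_right _ ?_)
    rw [hQ'def]; exact inf_le_left

theorem exists_ea_of_not_prankLE {p k : ℕ} {Z : Subgroup G} (h : ¬ Cfsg.PRankLE p k ↥Z) :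
    ∃ E : Subgroup G, E ≤ Z ∧ IsMulCommutative E ∧ (∀ e ∈ E, e ^ p = 1) ∧ p ^ k < Nat.card E := by
  unfold Cfsg.PRankLE at h
  push Not at h
  obtain ⟨E', hc, hp, hcard⟩ := h
  refine ⟨E'.map Z.subtype, Subgroup.map_subtype_le _, ?_, ?_, ?_⟩
  · apply imc_of_sub_comm
    rintro _ ⟨a, ha, rfl⟩ _ ⟨b, hb, rfl⟩
    have := sub_comm_of_imc hc a ha b hb
    exact congrArg Subtype.val this
  · rintro _ ⟨a, ha, rfl⟩
    have := hp a ha
    exact congrArg Subtype.val this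
  · rw [Subgroup.card_map_of_injective Z.subtype_injective]
    exact hcard

theorem exists_ea_card_eq [Finite G] {p k : ℕ} (hp : p.Prime) {E : Subgroup G}
    (hc : IsMulCommutative E) (hEp : ∀ e ∈ E, e ^ p = 1) (hcard : p ^ k < Nat.card E) :
    ∃ E₁ : Subgroup G, E₁ ≤ E ∧ IsMulCommutative E₁ ∧ (∀ e ∈ E₁, e ^ p = 1) ∧
      Nat.card E₁ = p ^ (k + 1) := by
  haveI : Fact p.Prime := ⟨hp⟩
  obtain ⟨j, hj⟩ := IsPGroup.iff_card.mp (isPGroup_of_pow_eq_one hEp)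
  have hkj : k + 1 ≤ j := by
    by_contra hlt
    have hj1 : j ≤ k := by omega
    have := Nat.pow_le_pow_right hp.pos hj1
    omega
  have hdvd : p ^ (k + 1) ∣ Nat.card E := by rw [hj]; exact pow_dvd_pow p hkj
  obtain ⟨K, hK⟩ := Sylow.exists_subgroup_card_pow_prime p hdvd
  refine ⟨K.map E.subtype, Subgroup.map_subtype_le _, ?_, ?_, ?_⟩
  · apply imc_of_sub_comm
    rintro _ ⟨a, ha, rfl⟩ _ ⟨b, hb, rfl⟩
    exact sub_comm_of_imc hc a a.2 b b.2
  · rintro _ ⟨a, ha, rfl⟩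
    exact hEp a a.2
  · rw [Subgroup.card_map_of_injective E.subtype_injective]
    exact hK

theorem th_centralizer_elt (hG : Cfsg.IsMinSimpleOddOrder G) {A E : Subgroup G}
    (hEZ : E ≤ A ⊓ Subgroup.centralizer (A : Set G)) {b : G} (hbE : b ∈ E) (hb1 : b ≠ 1) :
    Subgroup.centralizer ({b} : Set G) ≠ ⊤ ∧ A ≤ Subgroup.centralizer ({b} : Set G) ∧
      Subgroup.centralizer (A : Set G) ≤ Subgroup.centralizer ({b} : Set G) := by
  refine ⟨mso_centralizer_ne_top hG hb1, ?_, ?_⟩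
  · intro a ha
    rw [Subgroup.mem_centralizer_iff]
    intro y hy
    rw [Set.mem_singleton_iff] at hy
    subst hy
    have := Subgroup.mem_centralizer_iff.mp (hEZ hbE).2 a ha
    exact this.symm
  · exact Subgroup.centralizer_le (Set.singleton_subset_iff.mpr (hEZ hbE).1)

/-- Transitivity theorem (B-G 7.3): rank of `Z(A)` at least 3. -/
theorem th_trans_rank3 [Finite G] (hG : Cfsg.IsMinSimpleOddOrder G) {A : Subgroup G}
    (hA : Cfsg.TransitivityHypothesis A)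
    (hZ : ¬ Cfsg.RankLE 2 ↥(A ⊓ Subgroup.centralizer (A : Set G)))
    {q : ℕ} (hq : q.Prime) (hqA : ¬ q ∣ Nat.card A) :
    ∀ Q₁ ∈ Cfsg.maxInvSubgroups ⊤ A {q}, ∀ Q₂ ∈ Cfsg.maxInvSubgroups ⊤ A {q},
      ∃ k ∈ Cfsg.piCoreOf (Cfsg.primesNotDvd (Nat.card A)) (Subgroup.centralizer (A : Set G)),
        Q₂ = Q₁.map (MulAut.conj k).toMonoidHom := by
  unfold Cfsg.RankLE at hZ
  push Not at hZ
  obtain ⟨p, hp, hZ⟩ := hZ
  haveI : Fact p.Prime := ⟨hp⟩
  obtain ⟨E₀, hE₀Z, hE₀c, hE₀p, hE₀card⟩ := exists_ea_of_not_prankLE hZ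
  obtain ⟨E, hEE₀, hEc, hEp, hEcard'⟩ := exists_ea_card_eq hp hE₀c hE₀p hE₀card
  have hEcard : Nat.card E = p ^ 3 := hEcard'
  have hEZ : E ≤ A ⊓ Subgroup.centralizer (A : Set G) := hEE₀.trans hE₀Z
  have hEA : E ≤ A := hEZ.trans inf_le_left
  intro Q₁ h₁ Q₂ h₂
  haveI : Fact q.Prime := ⟨hq⟩
  have hq₁ : IsPGroup q Q₁ := (isPGroup_iff_singleton hq Q₁).mp h₁.1.2.1
  have hq₂ : IsPGroup q Q₂ := (isPGroup_iff_singleton hq Q₂).mp h₂.1.2.1
  by_cases hb₁ : Q₁ = ⊥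
  · refine ⟨1, Subgroup.one_mem _, ?_⟩
    rw [map_conj_one]
    exact h₁.2 Q₂ h₂.1 (hb₁ ▸ bot_le)
  by_cases hb₂ : Q₂ = ⊥
  · refine ⟨1, Subgroup.one_mem _, ?_⟩
    rw [map_conj_one]
    exact (h₂.2 Q₁ h₁.1 (hb₂ ▸ bot_le)).symm
  have hcop₁ : (Nat.card E).Coprime (Nat.card Q₁) :=
    Nat.Coprime.coprime_dvd_left (Subgroup.card_dvd_of_le hEA)
      (coprime_of_primesNotDvd (pgroup_primesNotDvd hq hqA hq₁))
  have hcop₂ : (Nat.card E).Coprime (Nat.card Q₂) :=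
    Nat.Coprime.coprime_dvd_left (Subgroup.card_dvd_of_le hEA)
      (coprime_of_primesNotDvd (pgroup_primesNotDvd hq hqA hq₂))
  obtain ⟨B₁, hB₁E, hB₁c, hQB₁⟩ := exists_sq_centralizer_ne_bot p Q₁ E hEc
    (hEA.trans h₁.1.2.2) hEp hcop₁ hEcard hb₁
  obtain ⟨B₂, hB₂E, hB₂c, hQB₂⟩ := exists_sq_centralizer_ne_bot p Q₂ E hEc
    (hEA.trans h₂.1.2.2) hEp hcop₂ hEcard hb₂
  have hB : B₁ ⊓ B₂ ≠ ⊥ := by
    intro hd
    have h1 := card_mul_card_le_of_disjoint hB₁E hB₂E hd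
    rw [hEcard] at h1
    have h2 : p ^ 2 * p ^ 2 ≤ Nat.card B₁ * Nat.card B₂ := Nat.mul_le_mul hB₁c hB₂c
    have h3 : p ^ 3 < p ^ 2 * p ^ 2 := by
      rw [← pow_add]
      exact Nat.pow_lt_pow_right hp.one_lt (by norm_num)
    omega
  obtain ⟨b, hb1⟩ := (Subgroup.ne_bot_iff_exists_ne_one).mp hB
  have hb1' : (b : G) ≠ 1 := fun h => hb1 (Subtype.ext h)
  have hbB₁ : (b : G) ∈ B₁ := (Subgroup.mem_inf.mp b.2).1
  have hbB₂ : (b : G) ∈ B₂ := (Subgroup.mem_inf.mp b.2).2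
  obtain ⟨hH, hAH, -⟩ := th_centralizer_elt hG hEZ (hB₁E hbB₁) hb1'
  apply th_conj hG hA hq hqA h₁ h₂ hH hAH
  · refine ne_bot_of_le_ne_bot hQB₁ ?_
    rw [inf_comm]
    exact inf_le_inf_right _ (Subgroup.centralizer_le (Set.singleton_subset_iff.mpr hbB₁))
  · refine ne_bot_of_le_ne_bot hQB₂ ?_
    rw [inf_comm]
    exact inf_le_inf_right _ (Subgroup.centralizer_le (Set.singleton_subset_iff.mpr hbB₂))

/-- Transitivity theorem (B-G 7.4): rank of `Z(A)` at least 2 and `q` divides `|C_G(A)|`. -/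
theorem th_trans_rank2 [Finite G] (hG : Cfsg.IsMinSimpleOddOrder G) {A : Subgroup G}
    (hA : Cfsg.TransitivityHypothesis A)
    (hZ : ¬ Cfsg.RankLE 1 ↥(A ⊓ Subgroup.centralizer (A : Set G)))
    {q : ℕ} (hq : q.Prime) (hqA : ¬ q ∣ Nat.card A)
    (hqC : q ∣ Nat.card (Subgroup.centralizer (A : Set G))) :
    ∀ Q₁ ∈ Cfsg.maxInvSubgroups ⊤ A {q}, ∀ Q₂ ∈ Cfsg.maxInvSubgroups ⊤ A {q},
      ∃ k ∈ Cfsg.piCoreOf (Cfsg.primesNotDvd (Nat.card A)) (Subgroup.centralizer (A : Set G)),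
        Q₂ = Q₁.map (MulAut.conj k).toMonoidHom := by
  unfold Cfsg.RankLE at hZ
  push Not at hZ
  obtain ⟨p, hp, hZ⟩ := hZ
  haveI : Fact p.Prime := ⟨hp⟩
  obtain ⟨E, hEZ, hEc, hEp, hEcard⟩ := exists_ea_of_not_prankLE hZ
  rw [pow_one] at hEcard
  have hEA : E ≤ A := hEZ.trans inf_le_left
  haveI : Fact q.Prime := ⟨hq⟩
  -- the base point
  obtain ⟨S⟩ : Nonempty (Sylow q ↥(Subgroup.centralizer (A : Set G))) := inferInstance
  obtain ⟨S', hS'def⟩ : ∃ S' : Subgroup G,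
      S' = (S : Subgroup ↥(Subgroup.centralizer (A : Set G))).map (Subgroup.subtype _) := ⟨_, rfl⟩
  have hS'C : S' ≤ Subgroup.centralizer (A : Set G) := hS'def ▸ Subgroup.map_subtype_le _
  have hS'ne : S' ≠ ⊥ := by
    rw [hS'def, Ne, Subgroup.map_eq_bot_iff_of_injective _ (Subgroup.subtype_injective _)]
    exact S.ne_bot_of_dvd_card hqC
  have hS'q : IsPGroup q S' := hS'def ▸ S.2.map _
  have hS'inv : S' ∈ Cfsg.invSubgroups ⊤ A {q} :=
    mem_inv_of_pgroup hq hS'q (centralizer_le_normalizer_of_le hS'C)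
  obtain ⟨Q₀, hQ₀, hS'Q₀⟩ := exists_maxInv_ge hS'inv
  have key : ∀ Q ∈ Cfsg.maxInvSubgroups ⊤ A {q},
      ∃ k ∈ Cfsg.piCoreOf (Cfsg.primesNotDvd (Nat.card A)) (Subgroup.centralizer (A : Set G)),
        Q = Q₀.map (MulAut.conj k).toMonoidHom := by
    intro Q hQ
    have hqQ : IsPGroup q Q := (isPGroup_iff_singleton hq Q).mp hQ.1.2.1
    have hQne : Q ≠ ⊥ := by
      intro hb
      have := hQ.2 Q₀ hQ₀.1 (hb ▸ bot_le)
      rw [this, hb, le_bot_iff] at hS'Q₀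
      exact hS'ne hS'Q₀
    have hcop : (Nat.card E).Coprime (Nat.card Q) :=
      Nat.Coprime.coprime_dvd_left (Subgroup.card_dvd_of_le hEA)
        (coprime_of_primesNotDvd (pgroup_primesNotDvd hq hqA hqQ))
    obtain ⟨b, hbE, hb1, hQb⟩ := exists_elt_centralizer_ne_bot p Q E hEc (hEA.trans hQ.1.2.2)
      hEp hcop hEcard hQne
    obtain ⟨hH, hAH, hCH⟩ := th_centralizer_elt hG hEZ hbE hb1
    apply th_conj hG hA hq hqA hQ₀ hQ hH hAH
    · exact ne_bot_of_le_ne_bot hS'ne (le_inf (hS'C.trans hCH) hS'Q₀)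
    · rw [inf_comm]; exact hQb
  intro Q₁ h₁ Q₂ h₂
  obtain ⟨k₁, hk₁, e₁⟩ := key Q₁ h₁
  obtain ⟨k₂, hk₂, e₂⟩ := key Q₂ h₂
  refine ⟨k₂ * k₁⁻¹, Subgroup.mul_mem _ hk₂ (Subgroup.inv_mem _ hk₁), ?_⟩
  rw [e₁, e₂, map_conj_map_conj, inv_mul_cancel_right]

end BG7b

end Cfsg.Agent.Lib.Helper11
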