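import Mathlib

set_option autoImplicit false

namespace Cfsg.Agent.Lib.Helper11

universe u

/-- An injective monoid homomorphism from a group into the endomorphisms of a finite-dimensional
space of dimension at most `n` gives an injective homomorphism into `GL_n(F)` (pad with the
identity on a complement of the right dimension and take matrices in a basis). -/
theorem end_to_gl {F : Type u} [Field F] {W V : Type u} [Group W] [AddCommGroup V] [Module F V]
    [Module.Finite F V] (ρ : W →* Module.End F V) (hρ : Function.Injective ρ) (n : ℕ)
    (hn : Module.finrank F V ≤ n) :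
    ∃ φ : W →* Matrix.GeneralLinearGroup (Fin n) F, Function.Injective φ := by
  classical
  obtain ⟨d, hd⟩ : ∃ d, d = Module.finrank F V := ⟨_, rfl⟩
  have hrank : Module.finrank F (V × (Fin (n - d) → F)) = n := by
    rw [Module.finrank_prod, Module.finrank_fin_fun, ← hd]; omega
  let b : Module.Basis (Fin n) F (V × (Fin (n - d) → F)) :=
    Module.finBasisOfFinrankEq _ _ hrank
  let J : Module.End F V →* Matrix (Fin n) (Fin n) F :=
    { toFun := fun f => LinearMap.toMatrix b b (f.prodMap LinearMap.id)
      map_one' := by
        have h1 : (1 : Module.End F V).prodMap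
            (LinearMap.id : (Fin (n - d) → F) →ₗ[F] (Fin (n - d) → F)) = LinearMap.id := by
          apply LinearMap.ext; rintro ⟨w, k⟩; rfl
        show LinearMap.toMatrix b b _ = 1
        rw [h1, LinearMap.toMatrix_id]
      map_mul' := by
        intro f g
        have h1 : (f * g).prodMap
            (LinearMap.id : (Fin (n - d) → F) →ₗ[F] (Fin (n - d) → F)) =
            (f.prodMap LinearMap.id) ∘ₗ (g.prodMap LinearMap.id) := by
          apply LinearMap.ext; rintro ⟨w, k⟩; rfl
        show LinearMap.toMatrix b b _ = LinearMap.toMatrix b b _ * LinearMap.toMatrix b b _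
        rw [h1, LinearMap.toMatrix_comp b b b] }
  have hJ : Function.Injective J := by
    intro f g hfg
    have h1 : f.prodMap
        (LinearMap.id : (Fin (n - d) → F) →ₗ[F] (Fin (n - d) → F)) =
        g.prodMap LinearMap.id := (LinearMap.toMatrix b b).injective hfg
    apply LinearMap.ext; intro w
    exact congrArg Prod.fst (LinearMap.congr_fun h1 (w, 0))
  refine ⟨(J.comp ρ).toHomUnits, ?_⟩
  intro x y hxy
  have h1 : (J.comp ρ) x = (J.comp ρ) y := by
    have h2 := congrArg Units.val hxy
    rwa [MonoidHom.coe_toHomUnits, MonoidHom.coe_toHomUnits] at h2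
  exact hρ (hJ h1)

end Cfsg.Agent.Lib.Helper11
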