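import Mathlib
import Cfsg.Prelude
import Cfsg.Agent.S0248
import Cfsg.Agent.S0249
import Cfsg.Agent.Lib.Helper10.QS
import Cfsg.Agent.Lib.Helper14.Cores
import Cfsg.Agent.Lib.Helper11.FStarLocal

set_option autoImplicit false

namespace Cfsg.Agent.Lib.Helper11

section glinvol

variable {F : Type*} [Field F] {m : ℕ}

/-- The block matrix `diag(1, A)`. -/
def blk (A : Matrix (Fin m) (Fin m) F) : Matrix (Fin (m + 1)) (Fin (m + 1)) F :=
  Matrix.of fun i j =>
    Fin.cases (Fin.cases 1 (fun _ => 0) j) (fun i' => Fin.cases 0 (fun j' => A i' j') j) i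

@[simp] theorem blk_zero_zero (A : Matrix (Fin m) (Fin m) F) : blk A 0 0 = 1 := rfl
@[simp] theorem blk_zero_succ (A : Matrix (Fin m) (Fin m) F) (j : Fin m) :
    blk A 0 j.succ = 0 := rfl
@[simp] theorem blk_succ_zero (A : Matrix (Fin m) (Fin m) F) (i : Fin m) :
    blk A i.succ 0 = 0 := rfl
@[simp] theorem blk_succ_succ (A : Matrix (Fin m) (Fin m) F) (i j : Fin m) :
    blk A i.succ j.succ = A i j := rfl

theorem blk_mul (A B : Matrix (Fin m) (Fin m) F) : blk (A * B) = blk A * blk B := by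
  ext i j
  refine Fin.cases ?_ (fun i' => ?_) i <;> refine Fin.cases ?_ (fun j' => ?_) j <;>
    simp [Matrix.mul_apply, Fin.sum_univ_succ]

theorem blk_one : blk (1 : Matrix (Fin m) (Fin m) F) = 1 := by
  ext i j
  refine Fin.cases ?_ (fun i' => ?_) i <;> refine Fin.cases ?_ (fun j' => ?_) j <;>
    simp [Matrix.one_apply, (Fin.succ_ne_zero _).symm]

/-- `blk` as a monoid homomorphism. -/
def blkHom : Matrix (Fin m) (Fin m) F →* Matrix (Fin (m + 1)) (Fin (m + 1)) F where
  toFun := blk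
  map_one' := blk_one
  map_mul' := blk_mul

theorem det_of_row_zero (M : Matrix (Fin (m + 1)) (Fin (m + 1)) F)
    (h : ∀ j : Fin m, M 0 j.succ = 0) :
    M.det = M 0 0 * (M.submatrix Fin.succ Fin.succ).det := by
  rw [Matrix.det_succ_row_zero, Fin.sum_univ_succ]
  simp [h]

theorem det_blk (A : Matrix (Fin m) (Fin m) F) : (blk A).det = A.det := by
  rw [det_of_row_zero _ (fun j => blk_zero_succ A j)]
  have : (blk A).submatrix Fin.succ Fin.succ = A := by ext i j; simp
  rw [this]; simp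

/-- The diagonal matrix `diag(-1, 1, …, 1)`. -/
def tMat (F : Type*) [Field F] (m : ℕ) : Matrix (Fin (m + 1)) (Fin (m + 1)) F :=
  Matrix.diagonal (Fin.cons (-1) (fun _ => 1))

theorem tMat_mul_self : tMat F m * tMat F m = 1 := by
  rw [tMat, Matrix.diagonal_mul_diagonal, ← Matrix.diagonal_one]
  congr 1
  funext i
  refine Fin.cases ?_ (fun i' => ?_) i <;> simp

/-- `diag(-1, 1, …, 1)` as an element of the general linear group. -/
def tGL (F : Type*) [Field F] (m : ℕ) : Matrix.GeneralLinearGroup (Fin (m + 1)) F :=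
  ⟨tMat F m, tMat F m, tMat_mul_self, tMat_mul_self⟩

theorem zero_succ_of_comm (h2 : (2 : F) ≠ 0) (M : Matrix (Fin (m + 1)) (Fin (m + 1)) F)
    (hM : M * tMat F m = tMat F m * M) (j : Fin m) : M 0 j.succ = 0 := by
  have h := congrFun (congrFun hM 0) j.succ
  rw [tMat, Matrix.mul_diagonal, Matrix.diagonal_mul] at h
  simp only [Fin.cons_succ, Fin.cons_zero, mul_one] at h
  have : (2 : F) * M 0 j.succ = 0 := by linear_combination h
  exact (mul_eq_zero.mp this).resolve_left h2

theorem succ_zero_of_comm (h2 : (2 : F) ≠ 0) (M : Matrix (Fin (m + 1)) (Fin (m + 1)) F)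
    (hM : M * tMat F m = tMat F m * M) (i : Fin m) : M i.succ 0 = 0 := by
  have h := congrFun (congrFun hM i.succ) 0
  rw [tMat, Matrix.mul_diagonal, Matrix.diagonal_mul] at h
  simp only [Fin.cons_succ, Fin.cons_zero, one_mul] at h
  have : (2 : F) * M i.succ 0 = 0 := by linear_combination -h
  exact (mul_eq_zero.mp this).resolve_left h2

theorem blk_comm_tMat (A : Matrix (Fin m) (Fin m) F) : blk A * tMat F m = tMat F m * blk A := by
  ext i j
  rw [tMat, Matrix.mul_diagonal, Matrix.diagonal_mul]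
  refine Fin.cases ?_ (fun i' => ?_) i <;> refine Fin.cases ?_ (fun j' => ?_) j <;> simp

/-- The block embedding of `SL_m` into `GL_{m+1}`. -/
def blkGL : Matrix.SpecialLinearGroup (Fin m) F →* Matrix.GeneralLinearGroup (Fin (m + 1)) F :=
  (Units.map blkHom).comp Matrix.SpecialLinearGroup.toGL

theorem blkGL_coe (A : Matrix.SpecialLinearGroup (Fin m) F) :
    ((blkGL A : Matrix.GeneralLinearGroup (Fin (m + 1)) F) :
      Matrix (Fin (m + 1)) (Fin (m + 1)) F) = blk (A : Matrix (Fin m) (Fin m) F) := rfl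

theorem mem_centralizer_tGL {g : Matrix.GeneralLinearGroup (Fin (m + 1)) F} :
    g ∈ Subgroup.centralizer ({tGL F m} : Set (Matrix.GeneralLinearGroup (Fin (m + 1)) F)) ↔
      (g : Matrix (Fin (m + 1)) (Fin (m + 1)) F) * tMat F m = tMat F m * g := by
  rw [Subgroup.mem_centralizer_iff]
  constructor
  · intro h
    have h1 := h (tGL F m) rfl
    have h2 := congrArg (fun u : Matrix.GeneralLinearGroup (Fin (m + 1)) F =>
      (u : Matrix (Fin (m + 1)) (Fin (m + 1)) F)) h1
    exact h2.symm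
  · intro h k hk
    rw [Set.mem_singleton_iff] at hk
    subst hk
    apply Units.ext
    exact h.symm

theorem blkGL_mem (A : Matrix.SpecialLinearGroup (Fin m) F) :
    blkGL A ∈ Subgroup.centralizer ({tGL F m} : Set (Matrix.GeneralLinearGroup (Fin (m + 1)) F)) := by
  rw [mem_centralizer_tGL, blkGL_coe]
  exact blk_comm_tMat _

/-- The centralizer of `tGL`. -/
abbrev CtGL (F : Type*) [Field F] (m : ℕ) : Subgroup (Matrix.GeneralLinearGroup (Fin (m + 1)) F) :=
  Subgroup.centralizer ({tGL F m} : Set (Matrix.GeneralLinearGroup (Fin (m + 1)) F))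

/-- The block embedding into the centralizer. -/
def blkC : Matrix.SpecialLinearGroup (Fin m) F →* CtGL F m :=
  blkGL.codRestrict _ blkGL_mem

/-- The `(0,0)` entry is multiplicative on the centralizer. -/
def entryHom (h2 : (2 : F) ≠ 0) : CtGL F m →* F where
  toFun g := ((g : Matrix.GeneralLinearGroup (Fin (m + 1)) F) :
    Matrix (Fin (m + 1)) (Fin (m + 1)) F) 0 0
  map_one' := by simp
  map_mul' := by
    intro g h
    simp only [Subgroup.coe_mul, Matrix.GeneralLinearGroup.coe_mul, Matrix.mul_apply,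
      Fin.sum_univ_succ]
    rw [Finset.sum_eq_zero, add_zero]
    intro k _
    rw [zero_succ_of_comm h2 _ (mem_centralizer_tGL.mp g.2) k, zero_mul]

/-- The determinant on the centralizer. -/
def detC : CtGL F m →* Fˣ := Matrix.GeneralLinearGroup.det.comp (CtGL F m).subtype

theorem range_blkC (h2 : (2 : F) ≠ 0) :
    (blkC : Matrix.SpecialLinearGroup (Fin m) F →* CtGL F m).range =
      (entryHom h2).ker ⊓ (detC : CtGL F m →* Fˣ).ker := by
  ext g
  rw [MonoidHom.mem_range, Subgroup.mem_inf, MonoidHom.mem_ker, MonoidHom.mem_ker]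
  constructor
  · rintro ⟨A, rfl⟩
    refine ⟨rfl, ?_⟩
    apply Units.ext
    show (((blkGL A : Matrix.GeneralLinearGroup (Fin (m + 1)) F) :
      Matrix (Fin (m + 1)) (Fin (m + 1)) F)).det = 1
    rw [blkGL_coe, det_blk]
    exact A.2
  · rintro ⟨h1, h2'⟩
    have hcomm := mem_centralizer_tGL.mp g.2
    have hrow := zero_succ_of_comm h2 _ hcomm
    have hcol := succ_zero_of_comm h2 _ hcomm
    have h00 : ((g : Matrix.GeneralLinearGroup (Fin (m + 1)) F) :
        Matrix (Fin (m + 1)) (Fin (m + 1)) F) 0 0 = 1 := h1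
    have hdet : (((g : Matrix.GeneralLinearGroup (Fin (m + 1)) F) :
        Matrix (Fin (m + 1)) (Fin (m + 1)) F)).det = 1 := congrArg Units.val h2'
    have hsub : ((((g : Matrix.GeneralLinearGroup (Fin (m + 1)) F) :
        Matrix (Fin (m + 1)) (Fin (m + 1)) F)).submatrix Fin.succ Fin.succ).det = 1 := by
      rw [det_of_row_zero _ hrow, h00, one_mul] at hdet
      exact hdet
    refine ⟨⟨_, hsub⟩, ?_⟩
    apply Subtype.ext
    apply Units.ext
    ext i j
    show blk _ i j = ((g : Matrix.GeneralLinearGroup (Fin (m + 1)) F) :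
        Matrix (Fin (m + 1)) (Fin (m + 1)) F) i j
    refine Fin.cases ?_ (fun i' => ?_) i <;> refine Fin.cases ?_ (fun j' => ?_) j
    · simp [h00]
    · simp [hrow]
    · simp [hcol]
    · rfl

theorem range_blkC_normal (h2 : (2 : F) ≠ 0) :
    (blkC : Matrix.SpecialLinearGroup (Fin m) F →* CtGL F m).range.Normal := by
  rw [range_blkC h2]
  infer_instance

theorem exists_sq_ne_one {F : Type*} [Field F] [Fintype F] (hF : 4 ≤ Fintype.card F) :
    ∃ a : F, a ≠ 0 ∧ a ^ 2 ≠ 1 := by
  obtain ⟨x, hx⟩ : IsCyclic Fˣ := by infer_instance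
  refine ⟨x, Units.ne_zero x, fun h ↦ ?_⟩
  have h1 : orderOf x ≤ 2 :=
    orderOf_le_of_pow_eq_one zero_lt_two (Units.ext <| by simpa using h)
  have h2 : orderOf x = Nat.card Fˣ := orderOf_eq_card_of_forall_mem_zpowers hx
  have h3 : Nat.card F = Nat.card Fˣ + 1 := Nat.card_eq_card_units_add_one F
  rw [Nat.card_eq_fintype_card] at h3
  omega

theorem sl_quasisimple {F : Type*} [Field F] [Fintype F] (hF : Odd (Fintype.card F)) (m : ℕ)
    (hm : 2 ≤ m) (h33 : ¬ (m = 2 ∧ Fintype.card F = 3)) :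
    Cfsg.IsQuasisimple (Matrix.SpecialLinearGroup (Fin m) F) := by
  rcases Nat.lt_or_ge m 3 with h | h
  · have hm2 : m = 2 := by omega
    subst hm2
    have hc3 : Fintype.card F ≠ 3 := fun h => h33 ⟨rfl, h⟩
    have hc1 : 1 < Fintype.card F := Fintype.one_lt_card
    have hc4 : 4 ≤ Fintype.card F := by
      rcases hF with ⟨k, hk⟩; omega
    obtain ⟨a, ha, hasq⟩ := exists_sq_ne_one hc4
    refine ⟨⟨Matrix.SL2.commutator_eq_top ha hasq⟩, ?_⟩
    exact Matrix.ProjectiveSpecialLinearGroup.rank_two_simple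
      (by rw [Nat.card_eq_fintype_card]; exact hc4)
  · exact ⟨⟨Cfsg.Agent.S0248.result m h⟩, Cfsg.Agent.S0249.result m h⟩

/-- The diagonal matrix `diag(-1, -1, 1, …, 1)`. -/
def sMat (F : Type*) [Field F] (k : ℕ) : Matrix (Fin (k + 2)) (Fin (k + 2)) F :=
  Matrix.diagonal (Fin.cons (-1) (Fin.cons (-1) (fun _ => 1)))

theorem det_sMat (k : ℕ) : (sMat F k).det = 1 := by
  rw [sMat, Matrix.det_diagonal, Fin.prod_univ_succ, Fin.prod_univ_succ]
  simp

theorem sMat_mul_self (k : ℕ) : sMat F k * sMat F k = 1 := by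
  rw [sMat, Matrix.diagonal_mul_diagonal, ← Matrix.diagonal_one]
  congr 1
  funext i
  refine Fin.cases ?_ (fun i' => ?_) i
  · simp
  · refine Fin.cases ?_ (fun i'' => ?_) i' <;> simp

/-- `diag(-1, -1, 1, …, 1)` as an element of the special linear group. -/
def sSL (F : Type*) [Field F] (k : ℕ) : Matrix.SpecialLinearGroup (Fin (k + 2)) F :=
  ⟨sMat F k, det_sMat k⟩

theorem orderOf_blkC_sSL (h2 : (2 : F) ≠ 0) (k : ℕ) :
    orderOf ((blkC : Matrix.SpecialLinearGroup (Fin (k + 2)) F →* CtGL F (k + 2)) (sSL F k))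
      = 2 := by
  refine orderOf_eq_prime ?_ ?_
  · rw [← map_pow]
    have : sSL F k ^ 2 = 1 := by
      rw [pow_two]
      apply Subtype.ext
      exact sMat_mul_self k
    rw [this, map_one]
  · intro h
    have h1 := congrArg (fun g : CtGL F (k + 2) =>
      ((g : Matrix.GeneralLinearGroup (Fin (k + 2 + 1)) F) :
        Matrix (Fin (k + 2 + 1)) (Fin (k + 2 + 1)) F) (Fin.succ 0) (Fin.succ 0)) h
    have h3 : blk (sMat F k) (Fin.succ 0) (Fin.succ 0) =
        (1 : Matrix (Fin (k + 2 + 1)) (Fin (k + 2 + 1)) F) (Fin.succ 0) (Fin.succ 0) := h1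
    rw [Matrix.one_apply_eq, blk_succ_succ, sMat, Matrix.diagonal_apply_eq, Fin.cons_zero] at h3
    apply h2
    linear_combination -h3

theorem hasComponent_quot_oddCore {C : Type*} [Group C] [Finite C] {L : Type*} [Group L]
    (hL : Cfsg.IsQuasisimple L) (f : L →* C) (hn : f.range.Normal) (s : L)
    (hs : orderOf (f s) = 2) : Cfsg.HasComponent (C ⧸ Cfsg.oddCore C) := by
  let φ : L →* C ⧸ Cfsg.oddCore C := (QuotientGroup.mk' (Cfsg.oddCore C)).comp f
  have hrange : φ.range = f.range.map (QuotientGroup.mk' (Cfsg.oddCore C)) :=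
    (MonoidHom.map_range _ _).symm
  have hnorm : φ.range.Normal := by
    rw [hrange]
    exact Subgroup.Normal.map hn _ (QuotientGroup.mk'_surjective _)
  refine ⟨φ.range, hnorm.isSubnormal, ?_⟩
  refine Cfsg.Agent.Lib.Helper10.qs_of_surjective φ.rangeRestrict φ.rangeRestrict_surjective hL ?_
  intro hker
  have h1 : s ∈ φ.rangeRestrict.ker := by rw [hker]; exact Subgroup.mem_top s
  rw [MonoidHom.mem_ker] at h1
  have h2 : φ s = 1 := congrArg Subtype.val h1
  have h3 : f s ∈ Cfsg.oddCore C := (QuotientGroup.eq_one_iff _).mp h2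
  have hcop := Cfsg.Agent.Lib.Helper14.pPrimeCore_coprime (G := C) 2
  have hdvd : orderOf (f s) ∣ Nat.card (Cfsg.oddCore C) := by
    have := orderOf_dvd_natCard (⟨f s, h3⟩ : Cfsg.oddCore C)
    rwa [← Subgroup.orderOf_coe] at this
  rw [hs] at hdvd
  have h4 := Nat.dvd_gcd hdvd (dvd_refl 2)
  rw [hcop] at h4
  omega

theorem two_ne_zero_of_odd_card {F : Type*} [Field F] [Fintype F] (hF : Odd (Fintype.card F)) :
    (2 : F) ≠ 0 := by
  apply Ring.two_ne_zero
  intro hchar
  have := FiniteField.even_card_of_char_two hchar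
  rcases hF with ⟨k, hk⟩
  omega

theorem gl_invol_component {F : Type*} [Field F] [Fintype F] (hF : Odd (Fintype.card F)) (k : ℕ)
    (h33 : ¬ (k + 2 = 2 ∧ Fintype.card F = 3)) :
    orderOf (tGL F (k + 2)) = 2 ∧
    tGL F (k + 2) ∉ Subgroup.center (Matrix.GeneralLinearGroup (Fin (k + 2 + 1)) F) ∧
    Cfsg.HasComponent
      (↥(Subgroup.centralizer ({tGL F (k + 2)} : Set (Matrix.GeneralLinearGroup (Fin (k + 2 + 1)) F))) ⧸
        Cfsg.oddCore ↥(Subgroup.centralizer
          ({tGL F (k + 2)} : Set (Matrix.GeneralLinearGroup (Fin (k + 2 + 1)) F)))) := by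
  have h2 : (2 : F) ≠ 0 := two_ne_zero_of_odd_card hF
  refine ⟨?_, ?_, ?_⟩
  · refine orderOf_eq_prime ?_ ?_
    · rw [pow_two]
      exact Units.ext tMat_mul_self
    · intro h
      have h1 := congrArg (fun g : Matrix.GeneralLinearGroup (Fin (k + 2 + 1)) F =>
        (g : Matrix (Fin (k + 2 + 1)) (Fin (k + 2 + 1)) F) 0 0) h
      have h3 : tMat F (k + 2) 0 0 = (1 : Matrix (Fin (k + 2 + 1)) (Fin (k + 2 + 1)) F) 0 0 := h1
      rw [Matrix.one_apply_eq, tMat, Matrix.diagonal_apply_eq, Fin.cons_zero] at h3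
      apply h2
      linear_combination -h3
  · intro hc
    rw [Subgroup.mem_center_iff] at hc
    have hne : (0 : Fin (k + 2 + 1)) ≠ Fin.succ (0 : Fin (k + 2)) := (Fin.succ_ne_zero _).symm
    have h1 := hc (Matrix.SpecialLinearGroup.toGL (Matrix.SpecialLinearGroup.transvection hne (1 : F)))
    have h3 : Matrix.transvection (0 : Fin (k + 2 + 1)) (Fin.succ (0 : Fin (k + 2))) (1 : F) *
        tMat F (k + 2) = tMat F (k + 2) *
        Matrix.transvection (0 : Fin (k + 2 + 1)) (Fin.succ (0 : Fin (k + 2))) (1 : F) :=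
      congrArg (fun g : Matrix.GeneralLinearGroup (Fin (k + 2 + 1)) F =>
        (g : Matrix (Fin (k + 2 + 1)) (Fin (k + 2 + 1)) F)) h1
    have h4 := zero_succ_of_comm h2 _ h3 (0 : Fin (k + 2))
    simp [Matrix.transvection] at h4
  · have hqs : Cfsg.IsQuasisimple (Matrix.SpecialLinearGroup (Fin (k + 2)) F) :=
      sl_quasisimple hF (k + 2) (by omega) h33
    exact hasComponent_quot_oddCore hqs
      (blkC : Matrix.SpecialLinearGroup (Fin (k + 2)) F →* CtGL F (k + 2))
      (range_blkC_normal h2) (sSL F k) (orderOf_blkC_sSL h2 k)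

end glinvol

end Cfsg.Agent.Lib.Helper11
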