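import Mathlib
import Cfsg.Agent.Lib.Helper15.GL2Centralizer

set_option autoImplicit false

namespace Cfsg.Agent.Lib.Helper11

/-- `v₂(q^k - 1) = 1` for `q ≡ 3 mod 4` and `k` odd. -/
theorem padic_two_pow_sub_one_odd {q k : ℕ} (hq : q % 4 = 3) (hk : Odd k) :
    padicValNat 2 (q ^ k - 1) = 1 := by
  have h1 : q ^ k % 4 = 3 := by
    obtain ⟨j, rfl⟩ := hk
    have h2 : q ^ 2 % 4 = 1 := by
      rw [pow_two, Nat.mul_mod, hq]
    rw [pow_succ, pow_mul, Nat.mul_mod, Nat.pow_mod, h2, one_pow, hq]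
    norm_num
  obtain ⟨r, hr⟩ : ∃ r, q ^ k - 1 = 2 * (2 * r + 1) := ⟨(q ^ k) / 4, by omega⟩
  rw [hr, padicValNat.mul (by norm_num) (by omega), padicValNat_self,
    padicValNat.eq_zero_of_not_dvd (by omega)]

/-- `v₂(q^(2i) - 1) = v₂(q + 1) + 1 + v₂(i)` for `q ≡ 3 mod 4` and `i ≠ 0`. -/
theorem padic_two_pow_sub_one_even {q i : ℕ} (hq : q % 4 = 3) (hi : i ≠ 0) :
    padicValNat 2 (q ^ (2 * i) - 1) = padicValNat 2 (q + 1) + 1 + padicValNat 2 i := by
  have h := padicValNat.pow_two_sub_one (x := q) (n := 2 * i) (by omega) (by omega) (by omega)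
    (even_two_mul i)
  have h1 : padicValNat 2 (q - 1) = 1 := by
    have := padic_two_pow_sub_one_odd hq (k := 1) odd_one
    simpa using this
  have h2 : padicValNat 2 (2 * i) = 1 + padicValNat 2 i := by
    rw [padicValNat.mul (by norm_num) hi, padicValNat_self]
  omega

/-- The 2-part of `|GL_n(q)|` for `q` odd. -/
theorem padic_card_GL {F : Type*} [Field F] [Fintype F] (hodd : ¬ 2 ∣ Fintype.card F) (n : ℕ) :
    padicValNat 2 (Nat.card (Matrix.GeneralLinearGroup (Fin n) F)) =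
      ∑ j ∈ Finset.range n, padicValNat 2 (Fintype.card F ^ (j + 1) - 1) := by
  classical
  rw [Matrix.card_GL_field]
  obtain ⟨q, hq⟩ : ∃ q, q = Fintype.card F := ⟨_, rfl⟩
  rw [← hq] at hodd ⊢
  have hq1 : 1 < q := by rw [hq]; exact Fintype.one_lt_card
  have hfac : ∀ i : Fin n, q ^ n - q ^ (i : ℕ) = q ^ (i : ℕ) * (q ^ (n - i) - 1) := by
    intro i
    have hi : (i : ℕ) ≤ n := i.2.le
    rw [Nat.mul_sub, mul_one, ← pow_add, Nat.add_sub_cancel' hi]
  have hne : ∀ i : Fin n, q ^ n - q ^ (i : ℕ) ≠ 0 := by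
    intro i
    have : q ^ (i : ℕ) < q ^ n := Nat.pow_lt_pow_right hq1 i.2
    omega
  have hval : ∀ i : Fin n,
      padicValNat 2 (q ^ n - q ^ (i : ℕ)) = padicValNat 2 (q ^ (n - i) - 1) := by
    intro i
    have h0 := hne i
    rw [hfac i] at h0 ⊢
    rw [padicValNat.mul (left_ne_zero_of_mul h0) (right_ne_zero_of_mul h0),
      padicValNat.eq_zero_of_not_dvd
        (fun h => hodd (Nat.Prime.dvd_of_dvd_pow Nat.prime_two h)), zero_add]
  have h1 : padicValNat 2 (∏ i : Fin n, (q ^ n - q ^ (i : ℕ))) =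
      ∑ i : Fin n, padicValNat 2 (q ^ n - q ^ (i : ℕ)) := by
    rw [← Nat.factorization_def _ Nat.prime_two, Nat.factorization_prod (fun i _ => hne i),
      Finsupp.finsetSum_apply]
    exact Finset.sum_congr rfl (fun i _ => Nat.factorization_def _ Nat.prime_two)
  rw [h1, Finset.sum_congr rfl (fun i _ => hval i)]
  rw [Fin.sum_univ_eq_sum_range (fun i => padicValNat 2 (q ^ (n - i) - 1)) n]
  rw [← Finset.sum_range_reflect (fun j => padicValNat 2 (q ^ (j + 1) - 1)) n]
  apply Finset.sum_congr rfl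
  intro j hj
  have hjn : j < n := Finset.mem_range.mp hj
  have e : n - j = n - 1 - j + 1 := by omega
  rw [e]

/-- The 2-part of `|SL_n(q)|` for `q` odd. -/
theorem padic_card_SL {F : Type*} [Field F] [Fintype F] (hodd : ¬ 2 ∣ Fintype.card F) (n : ℕ)
    (hn : 1 ≤ n) :
    padicValNat 2 (Nat.card (Matrix.SpecialLinearGroup (Fin n) F)) +
        padicValNat 2 (Fintype.card F - 1) =
      ∑ j ∈ Finset.range n, padicValNat 2 (Fintype.card F ^ (j + 1) - 1) := by
  rw [← padic_card_GL hodd n, ← Cfsg.Agent.Lib.Helper15.card_SL_mul n hn]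
  have h1 : Nat.card (Matrix.SpecialLinearGroup (Fin n) F) ≠ 0 := Nat.card_pos.ne'
  have h2 : Fintype.card F - 1 ≠ 0 := by
    have := Fintype.one_lt_card (α := F)
    omega
  rw [padicValNat.mul h1 h2]

/-- For `q ≡ 3 mod 4`: `|SL_{2m+1}(q)|₂ = |GL₂(q)|₂^m · (m!)₂`. -/
theorem sl_odd_two_part {F : Type*} [Field F] [Fintype F] (hq : 4 ∣ Fintype.card F + 1) (m : ℕ) :
    (Nat.card (Matrix.SpecialLinearGroup (Fin (2 * m + 1)) F)).factorization 2 =
      m * (Nat.card (Matrix.GeneralLinearGroup (Fin 2) F)).factorization 2 +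
        (m.factorial).factorization 2 := by
  rw [Nat.factorization_def _ Nat.prime_two, Nat.factorization_def _ Nat.prime_two,
    Nat.factorization_def _ Nat.prime_two]
  obtain ⟨q, hqdef⟩ : ∃ q, q = Fintype.card F := ⟨_, rfl⟩
  have hq4 : q % 4 = 3 := by rw [hqdef]; omega
  have hodd : ¬ 2 ∣ Fintype.card F := by rw [← hqdef]; omega
  have ha1 : padicValNat 2 (q ^ (0 + 1) - 1) = 1 :=
    padic_two_pow_sub_one_odd hq4 ⟨0, by norm_num⟩
  have ha2 : padicValNat 2 (q ^ (1 + 1) - 1) = padicValNat 2 (q + 1) + 1 + padicValNat 2 1 :=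
    padic_two_pow_sub_one_even hq4 one_ne_zero
  have hGL2 : padicValNat 2 (Nat.card (Matrix.GeneralLinearGroup (Fin 2) F)) =
      padicValNat 2 (q + 1) + 2 := by
    rw [padic_card_GL hodd 2, ← hqdef, Finset.sum_range_succ, Finset.sum_range_one, ha1, ha2,
      padicValNat_one_right]
    omega
  have hsum : ∀ m : ℕ, ∑ j ∈ Finset.range (2 * m + 1), padicValNat 2 (q ^ (j + 1) - 1) =
      1 + m * (padicValNat 2 (q + 1) + 2) + padicValNat 2 m.factorial := by
    intro m
    induction m with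
    | zero =>
      rw [Nat.mul_zero, Nat.zero_add, Finset.sum_range_one, ha1, Nat.factorial_zero,
        padicValNat_one_right]
      omega
    | succ k ih =>
      have e : 2 * (k + 1) + 1 = (2 * k + 1) + 1 + 1 := by ring
      rw [e, Finset.sum_range_succ, Finset.sum_range_succ, ih]
      have h1 : padicValNat 2 (q ^ (2 * k + 1 + 1) - 1) =
          padicValNat 2 (q + 1) + 1 + padicValNat 2 (k + 1) := by
        have := padic_two_pow_sub_one_even hq4 (i := k + 1) (Nat.succ_ne_zero k)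
        rwa [show 2 * (k + 1) = 2 * k + 1 + 1 by ring] at this
      have h2 : padicValNat 2 (q ^ (2 * k + 1 + 1 + 1) - 1) = 1 :=
        padic_two_pow_sub_one_odd hq4 ⟨k + 1, by ring⟩
      have h3 : padicValNat 2 (k + 1).factorial =
          padicValNat 2 (k + 1) + padicValNat 2 k.factorial := by
        rw [Nat.factorial_succ, padicValNat.mul (Nat.succ_ne_zero k) (Nat.factorial_ne_zero k)]
      rw [h1, h2, h3]
      ring
  have hSL := padic_card_SL hodd (2 * m + 1) (by omega)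
  rw [← hqdef, hsum m] at hSL
  have h1 : padicValNat 2 (q - 1) = 1 := by
    have := padic_two_pow_sub_one_odd hq4 (k := 1) odd_one
    simpa using this
  rw [h1] at hSL
  rw [hGL2]
  omega

end Cfsg.Agent.Lib.Helper11
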