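import Mathlib
import Cfsg.Agent.Lib.Helper11.SLTwoPart

set_option autoImplicit false

namespace Cfsg.Agent.Lib.Helper11

/-- `v₂(q^k - 1) = v₂(q - 1)` for `q` odd and `k` odd. -/
theorem padic_two_pow_sub_one_odd_gen {q k : ℕ} (hq1 : 1 < q) (hq : ¬ 2 ∣ q) (hk : Odd k) :
    padicValNat 2 (q ^ k - 1) = padicValNat 2 (q - 1) := by
  have hk0 : k ≠ 0 := (Odd.pos hk).ne'
  have h2k := padicValNat.pow_two_sub_one (x := q) (n := 2 * k) hq1 hq (by omega)
    (even_two_mul k)
  have hv2k : padicValNat 2 (2 * k) = 1 := by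
    rw [padicValNat.mul (by norm_num) hk0, padicValNat_self,
      padicValNat.eq_zero_of_not_dvd hk.not_two_dvd_nat]
  have hx : 1 < q ^ k := Nat.one_lt_pow hk0 hq1
  have hfac : q ^ (2 * k) - 1 = (q ^ k - 1) * (q ^ k + 1) := by
    obtain ⟨y, hy⟩ := Nat.exists_eq_add_of_le hx.le
    rw [two_mul, pow_add, hy]
    have e : (1 + y) * (1 + y) = 1 + y * (1 + y + 1) := by ring
    rw [e, Nat.add_sub_cancel_left, Nat.add_sub_cancel_left]
  have hmul : padicValNat 2 (q ^ (2 * k) - 1) =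
      padicValNat 2 (q ^ k - 1) + padicValNat 2 (q ^ k + 1) := by
    rw [hfac, padicValNat.mul (by omega) (by omega)]
  have hd1 : q - 1 ∣ q ^ k - 1 := by
    simpa using Nat.sub_dvd_pow_sub_pow (x := q) (y := 1) (n := k)
  have hd2 : q + 1 ∣ q ^ k + 1 := by
    simpa using hk.nat_add_dvd_pow_add_pow q 1
  have ha : padicValNat 2 (q - 1) ≤ padicValNat 2 (q ^ k - 1) :=
    (padicValNat_dvd_iff_le (by omega)).mp (dvd_trans pow_padicValNat_dvd hd1)
  have hb : padicValNat 2 (q + 1) ≤ padicValNat 2 (q ^ k + 1) :=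
    (padicValNat_dvd_iff_le (by omega)).mp (dvd_trans pow_padicValNat_dvd hd2)
  omega

/-- `v₂(q^(2i) - 1) = v₂(q + 1) + v₂(q - 1) + v₂(i)` for `q` odd and `i ≠ 0`. -/
theorem padic_two_pow_sub_one_even_gen {q i : ℕ} (hq1 : 1 < q) (hq : ¬ 2 ∣ q) (hi : i ≠ 0) :
    padicValNat 2 (q ^ (2 * i) - 1) =
      padicValNat 2 (q + 1) + padicValNat 2 (q - 1) + padicValNat 2 i := by
  have h := padicValNat.pow_two_sub_one (x := q) (n := 2 * i) hq1 hq (by omega)
    (even_two_mul i)
  have h2 : padicValNat 2 (2 * i) = 1 + padicValNat 2 i := by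
    rw [padicValNat.mul (by norm_num) hi, padicValNat_self]
  omega

/-- For every odd `q`: `|GL_{2m}(q)|₂ = |GL₂(q)|₂^m · (m!)₂`. -/
theorem gl_even_two_part {F : Type*} [Field F] [Fintype F] (hF : Odd (Fintype.card F)) (m : ℕ) :
    (Nat.card (Matrix.GeneralLinearGroup (Fin (2 * m)) F)).factorization 2 =
      m * (Nat.card (Matrix.GeneralLinearGroup (Fin 2) F)).factorization 2 +
        (m.factorial).factorization 2 := by
  rw [Nat.factorization_def _ Nat.prime_two, Nat.factorization_def _ Nat.prime_two,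
    Nat.factorization_def _ Nat.prime_two]
  have hodd : ¬ 2 ∣ Fintype.card F := hF.not_two_dvd_nat
  obtain ⟨q, hqdef⟩ : ∃ q, q = Fintype.card F := ⟨_, rfl⟩
  have hq1 : 1 < q := by rw [hqdef]; exact Fintype.one_lt_card
  have hq2 : ¬ 2 ∣ q := by rw [hqdef]; exact hodd
  have ha1 : padicValNat 2 (q ^ (0 + 1) - 1) = padicValNat 2 (q - 1) :=
    padic_two_pow_sub_one_odd_gen hq1 hq2 ⟨0, by norm_num⟩
  have ha2 : padicValNat 2 (q ^ (1 + 1) - 1) =
      padicValNat 2 (q + 1) + padicValNat 2 (q - 1) + padicValNat 2 1 :=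
    padic_two_pow_sub_one_even_gen hq1 hq2 one_ne_zero
  have hGL2 : padicValNat 2 (Nat.card (Matrix.GeneralLinearGroup (Fin 2) F)) =
      2 * padicValNat 2 (q - 1) + padicValNat 2 (q + 1) := by
    rw [padic_card_GL hodd 2, ← hqdef, Finset.sum_range_succ, Finset.sum_range_one, ha1, ha2,
      padicValNat_one_right]
    omega
  have hsum : ∀ m : ℕ, ∑ j ∈ Finset.range (2 * m), padicValNat 2 (q ^ (j + 1) - 1) =
      m * (2 * padicValNat 2 (q - 1) + padicValNat 2 (q + 1)) + padicValNat 2 m.factorial := by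
    intro m
    induction m with
    | zero =>
      simp
    | succ k ih =>
      have e : 2 * (k + 1) = (2 * k) + 1 + 1 := by ring
      rw [e, Finset.sum_range_succ, Finset.sum_range_succ, ih]
      have h1 : padicValNat 2 (q ^ (2 * k + 1) - 1) = padicValNat 2 (q - 1) :=
        padic_two_pow_sub_one_odd_gen hq1 hq2 ⟨k, rfl⟩
      have h2 : padicValNat 2 (q ^ (2 * k + 1 + 1) - 1) =
          padicValNat 2 (q + 1) + padicValNat 2 (q - 1) + padicValNat 2 (k + 1) := by
        have := padic_two_pow_sub_one_even_gen hq1 hq2 (i := k + 1) (Nat.succ_ne_zero k)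
        rwa [show 2 * (k + 1) = 2 * k + 1 + 1 by ring] at this
      have h3 : padicValNat 2 (k + 1).factorial =
          padicValNat 2 (k + 1) + padicValNat 2 k.factorial := by
        rw [Nat.factorial_succ, padicValNat.mul (Nat.succ_ne_zero k) (Nat.factorial_ne_zero k)]
      rw [h1, h2, h3]
      ring
  rw [padic_card_GL hodd (2 * m), ← hqdef, hsum m, hGL2]

end Cfsg.Agent.Lib.Helper11
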