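import Mathlib
import Cfsg.Agent.Lib.Helper1.HeGens
set_option autoImplicit false

/-!
The seven generators of the centraliser of a transvection of `SL(5, 2)` (data of
`Cfsg.Agent.Lib.Helper13.HCT`) generate a subgroup of order at least `21504`: a chain of
stabilisers of four vectors with orbit lengths at least `16`, `14`, `12`, `8`.
-/

namespace Cfsg.Agent.Lib.Helper11

open Cfsg.Agent.Lib.Helper13
open Cfsg.Agent.Lib.Helper1.HeGens
open Matrix

/-- one step of a stabiliser chain: a list of elements of `H` on which a right-`K`-invariant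
function takes pairwise different values gives `length * |K| ≤ |H|`. -/
theorem hct_card_step {G : Type*} [Group G] [Finite G] {Y : Type*} (H K : Subgroup G)
    (hKH : K ≤ H) (φ : G → Y) (hφ : ∀ g : G, ∀ k ∈ K, φ (g * k) = φ g)
    (l : List G) (hl : ∀ g ∈ l, g ∈ H) (hd : (l.map φ).Nodup) :
    l.length * Nat.card K ≤ Nat.card H := by
  classical
  have hinj : Function.Injective (fun p : Fin l.length × K =>
      (⟨l.get p.1 * p.2.1, H.mul_mem (hl _ (List.get_mem _ _)) (hKH p.2.2)⟩ : H)) := by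
    rintro ⟨i, k⟩ ⟨j, k'⟩ h
    have h' : l.get i * k.1 = l.get j * k'.1 := congrArg Subtype.val h
    have h1 : φ (l.get i) = φ (l.get j) := by
      rw [← hφ _ _ k.2, ← hφ (l.get j) _ k'.2, h']
    have hij : i = j := by
      have hi : i.1 < (l.map φ).length := by simp
      have hj : j.1 < (l.map φ).length := by simp
      have h2 : (l.map φ)[i.1] = (l.map φ)[j.1] := by
        simpa using h1
      exact Fin.ext ((List.Nodup.getElem_inj_iff hd).mp h2)
    subst hij
    have h3 : k.1 = k'.1 := mul_left_cancel h'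
    exact Prod.ext rfl (Subtype.ext h3)
  have h4 := Nat.card_le_card_of_injective _ hinj
  simpa [Nat.card_prod] using h4

/-- the stabiliser of a vector in `SL(5, 2)`. -/
def hctStab (x : Fin 5 → ZMod 2) : Subgroup (Matrix.SpecialLinearGroup (Fin 5) (ZMod 2)) where
  carrier := {g | (g : Matrix (Fin 5) (Fin 5) (ZMod 2)) *ᵥ x = x}
  mul_mem' := by
    intro a b ha hb
    simp only [Set.mem_setOf_eq] at *
    rw [Matrix.SpecialLinearGroup.coe_mul, ← Matrix.mulVec_mulVec, hb, ha]
  one_mem' := by simp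
  inv_mem' := by
    intro a ha
    simp only [Set.mem_setOf_eq] at *
    have h : ((a⁻¹ : Matrix.SpecialLinearGroup (Fin 5) (ZMod 2)) :
        Matrix (Fin 5) (Fin 5) (ZMod 2)) *ᵥ
        ((a : Matrix (Fin 5) (Fin 5) (ZMod 2)) *ᵥ x) = x := by
      rw [Matrix.mulVec_mulVec, ← Matrix.SpecialLinearGroup.coe_mul, inv_mul_cancel,
        Matrix.SpecialLinearGroup.coe_one, Matrix.one_mulVec]
    rwa [ha] at h

theorem mem_hctStab (x : Fin 5 → ZMod 2) (g : Matrix.SpecialLinearGroup (Fin 5) (ZMod 2)) :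
    g ∈ hctStab x ↔ (g : Matrix (Fin 5) (Fin 5) (ZMod 2)) *ᵥ x = x := Iff.rfl

/-- the group element of a word. -/
def hctW (W : List (Fin 7)) : Matrix.SpecialLinearGroup (Fin 5) (ZMod 2) := (W.map mgen).prod

theorem hctW_mem_closure (W : List (Fin 7)) : hctW W ∈ Subgroup.closure (Set.range mgen) := by
  apply Subgroup.list_prod_mem
  intro g hg
  rw [List.mem_map] at hg
  obtain ⟨i, -, rfl⟩ := hg
  exact Subgroup.subset_closure ⟨i, rfl⟩

theorem hctW_fix {W : List (Fin 7)} {x : Fin 5 → ZMod 2} (h : actN W (enc x) = enc x) :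
    hctW W ∈ hctStab x := by
  rw [mem_hctStab]
  apply enc_inj
  unfold hctW
  rw [coe_prod, enc_word, h]

theorem hct_nodup (L : List (List (Fin 7))) (x : Fin 5 → ZMod 2)
    (h : (L.map (fun W => actN W (enc x))).Nodup) :
    ((L.map hctW).map (fun g : Matrix.SpecialLinearGroup (Fin 5) (ZMod 2) =>
      (g : Matrix (Fin 5) (Fin 5) (ZMod 2)) *ᵥ x)).Nodup := by
  rw [List.map_map]
  have h2 : L.map (fun W => actN W (enc x)) =
      (L.map ((fun g : Matrix.SpecialLinearGroup (Fin 5) (ZMod 2) =>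
        (g : Matrix (Fin 5) (Fin 5) (ZMod 2)) *ᵥ x) ∘ hctW)).map enc := by
    rw [List.map_map]
    apply List.map_congr_left
    intro W _
    simp only [Function.comp, hctW]
    rw [coe_prod, enc_word]
  rw [h2] at h
  exact List.Nodup.of_map _ h

theorem hct_enc0 : enc (HCT.baseV 0) = 2 := by decide
theorem hct_enc1 : enc (HCT.baseV 1) = 6 := by decide
theorem hct_enc2 : enc (HCT.baseV 2) = 10 := by decide
theorem hct_enc3 : enc (HCT.baseV 3) = 18 := by decide

set_option maxRecDepth 100000 in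
theorem hct_nodup0 : (HCT.lv0.map (fun W => actN W 2)).Nodup := by decide
set_option maxRecDepth 100000 in
theorem hct_nodup1 : (HCT.lv1.map (fun W => actN W 6)).Nodup := by decide
set_option maxRecDepth 100000 in
theorem hct_nodup2 : (HCT.lv2.map (fun W => actN W 10)).Nodup := by decide
set_option maxRecDepth 100000 in
theorem hct_nodup3 : (HCT.lv3.map (fun W => actN W 18)).Nodup := by decide

set_option maxRecDepth 100000 in
theorem hct_fix1 : ∀ W ∈ HCT.lv1, actN W 2 = 2 := by decide
set_option maxRecDepth 100000 in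
theorem hct_fix2 : ∀ W ∈ HCT.lv2, actN W 2 = 2 ∧ actN W 6 = 6 := by decide
set_option maxRecDepth 100000 in
theorem hct_fix3 : ∀ W ∈ HCT.lv3, actN W 2 = 2 ∧ actN W 6 = 6 ∧ actN W 10 = 10 := by decide

theorem hct_len0 : HCT.lv0.length = 16 := by decide
theorem hct_len1 : HCT.lv1.length = 14 := by decide
theorem hct_len2 : HCT.lv2.length = 12 := by decide
theorem hct_len3 : HCT.lv3.length = 8 := by decide

theorem hct_phi (x : Fin 5 → ZMod 2) (K : Subgroup (Matrix.SpecialLinearGroup (Fin 5) (ZMod 2)))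
    (hK : K ≤ hctStab x) :
    ∀ g : Matrix.SpecialLinearGroup (Fin 5) (ZMod 2), ∀ k ∈ K,
      ((g * k : Matrix.SpecialLinearGroup (Fin 5) (ZMod 2)) :
        Matrix (Fin 5) (Fin 5) (ZMod 2)) *ᵥ x =
      (g : Matrix (Fin 5) (Fin 5) (ZMod 2)) *ᵥ x := by
  intro g k hk
  have h := (mem_hctStab x k).mp (hK hk)
  rw [Matrix.SpecialLinearGroup.coe_mul, ← Matrix.mulVec_mulVec, h]

/-- the seven generators generate a subgroup of order at least `21504`. -/
theorem card_closure_mgen_ge :
    21504 ≤ Nat.card (Subgroup.closure (Set.range mgen)) := by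
  set H0 := Subgroup.closure (Set.range mgen) with hH0
  set H1 := H0 ⊓ hctStab (HCT.baseV 0) with hH1
  set H2 := H1 ⊓ hctStab (HCT.baseV 1) with hH2
  set H3 := H2 ⊓ hctStab (HCT.baseV 2) with hH3
  set H4 := H3 ⊓ hctStab (HCT.baseV 3) with hH4
  have s0 : HCT.lv0.length * Nat.card H1 ≤ Nat.card H0 := by
    have := hct_card_step H0 H1 inf_le_left
      (fun g => (g : Matrix (Fin 5) (Fin 5) (ZMod 2)) *ᵥ HCT.baseV 0)
      (hct_phi _ H1 inf_le_right) (HCT.lv0.map hctW)
      (by
        intro g hg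
        rw [List.mem_map] at hg
        obtain ⟨W, hW, rfl⟩ := hg
        exact hctW_mem_closure W)
      (hct_nodup _ _ (by rw [hct_enc0]; exact hct_nodup0))
    simpa using this
  have s1 : HCT.lv1.length * Nat.card H2 ≤ Nat.card H1 := by
    have := hct_card_step H1 H2 inf_le_left
      (fun g => (g : Matrix (Fin 5) (Fin 5) (ZMod 2)) *ᵥ HCT.baseV 1)
      (hct_phi _ H2 inf_le_right) (HCT.lv1.map hctW)
      (by
        intro g hg
        rw [List.mem_map] at hg
        obtain ⟨W, hW, rfl⟩ := hg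
        exact ⟨hctW_mem_closure W, hctW_fix (by rw [hct_enc0]; exact hct_fix1 W hW)⟩)
      (hct_nodup _ _ (by rw [hct_enc1]; exact hct_nodup1))
    simpa using this
  have s2 : HCT.lv2.length * Nat.card H3 ≤ Nat.card H2 := by
    have := hct_card_step H2 H3 inf_le_left
      (fun g => (g : Matrix (Fin 5) (Fin 5) (ZMod 2)) *ᵥ HCT.baseV 2)
      (hct_phi _ H3 inf_le_right) (HCT.lv2.map hctW)
      (by
        intro g hg
        rw [List.mem_map] at hg
        obtain ⟨W, hW, rfl⟩ := hg
        exact ⟨⟨hctW_mem_closure W, hctW_fix (by rw [hct_enc0]; exact (hct_fix2 W hW).1)⟩,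
          hctW_fix (by rw [hct_enc1]; exact (hct_fix2 W hW).2)⟩)
      (hct_nodup _ _ (by rw [hct_enc2]; exact hct_nodup2))
    simpa using this
  have s3 : HCT.lv3.length * Nat.card H4 ≤ Nat.card H3 := by
    have := hct_card_step H3 H4 inf_le_left
      (fun g => (g : Matrix (Fin 5) (Fin 5) (ZMod 2)) *ᵥ HCT.baseV 3)
      (hct_phi _ H4 inf_le_right) (HCT.lv3.map hctW)
      (by
        intro g hg
        rw [List.mem_map] at hg
        obtain ⟨W, hW, rfl⟩ := hg
        exact ⟨⟨⟨hctW_mem_closure W, hctW_fix (by rw [hct_enc0]; exact (hct_fix3 W hW).1)⟩,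
          hctW_fix (by rw [hct_enc1]; exact (hct_fix3 W hW).2.1)⟩,
          hctW_fix (by rw [hct_enc2]; exact (hct_fix3 W hW).2.2)⟩)
      (hct_nodup _ _ (by rw [hct_enc3]; exact hct_nodup3))
    simpa using this
  have s4 : 1 ≤ Nat.card H4 := Nat.card_pos
  rw [hct_len0] at s0
  rw [hct_len1] at s1
  rw [hct_len2] at s2
  rw [hct_len3] at s3
  nlinarith [s0, s1, s2, s3, s4]

/-- the same for any seven elements of `SL(5, 2)` with the matrices of the data. -/
theorem card_closure_ge_of_coe (m : Fin 7 → Matrix.SpecialLinearGroup (Fin 5) (ZMod 2))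
    (hm : ∀ i, ((m i : Matrix.SpecialLinearGroup (Fin 5) (ZMod 2)) :
      Matrix (Fin 5) (Fin 5) (ZMod 2)) = HCT.mraw i) :
    21504 ≤ Nat.card (Subgroup.closure (Set.range m)) := by
  have h : m = mgen := funext fun i => Subtype.ext (hm i)
  rw [h]
  exact card_closure_mgen_ge

end Cfsg.Agent.Lib.Helper11
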