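import Mathlib
import Cfsg.Agent.S0012
import Cfsg.Agent.Lib.Helper11.AutRank2
import Cfsg.Agent.Lib.Helper11.OmegaOne
import Cfsg.Agent.Lib.Helper10.Cen

set_option autoImplicit false

namespace Cfsg.Agent.Lib.Helper11

open scoped commutatorElement

section Meta2Aut

variable {X : Type*} [Group X]

/-- a self-map of a finite set whose `r`-th iterate is the identity has a fixed point when `r`
does not divide the cardinality -/
theorem exists_fixed_of_iterate {Ω : Type*} [Finite Ω] (f : Ω → Ω) {r : ℕ} (hr : r.Prime)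
    (hf : ∀ y, f^[r] y = y) (hc : ¬ r ∣ Nat.card Ω) : ∃ y, f y = y := by
  classical
  haveI : Fintype Ω := Fintype.ofFinite Ω
  haveI : Fact r.Prime := ⟨hr⟩
  let F : Function.End Ω := f
  have hpow : ∀ n : ℕ, ∀ y, (F ^ n) y = f^[n] y := by
    intro n
    induction n with
    | zero => intro y; rfl
    | succ n ih =>
      intro y
      rw [pow_succ, Function.iterate_succ_apply]
      exact ih (f y)
  have hF : F ^ r ^ 1 = 1 := by
    rw [pow_one]
    funext y
    rw [hpow r y, hf y]
    rfl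
  have h1 := Equiv.Perm.card_fixedPoints_modEq hF
  by_contra hne
  push_neg at hne
  have h2 : Fintype.card (Function.fixedPoints F) = 0 := by
    rw [Fintype.card_eq_zero_iff]
    exact ⟨fun y => hne y.1 y.2⟩
  rw [h2, ← Nat.card_eq_fintype_card] at h1
  exact hc ((Nat.modEq_zero_iff_dvd).mp h1)

/-- characteristic subgroups are stable under automorphisms -/
theorem char_mem_iff (H : Subgroup X) [hH : H.Characteristic] (γ : MulAut X) (x : X) :
    γ x ∈ H ↔ x ∈ H := by
  have h1 := Subgroup.characteristic_iff_comap_eq.mp hH γ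
  constructor
  · intro h
    rw [← h1]
    exact h
  · intro h
    rw [← h1] at h
    exact h

/-- Burnside: an automorphism of odd prime order of a finite `2`-group acting trivially modulo the
Frattini subgroup is trivial. -/
theorem aut_eq_one_of_frattini [Finite X] (hX : IsPGroup 2 X) {r : ℕ} (hr : r.Prime) (hr2 : r ≠ 2)
    (γ : MulAut X) (hγ : γ ^ r = 1) (h : ∀ x, x⁻¹ * γ x ∈ frattini X) : γ = 1 := by
  classical
  let F : Subgroup X :=
    { carrier := {x | γ x = x}
      mul_mem' := by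
        intro x y hx hy
        show γ (x * y) = x * y
        rw [map_mul, hx, hy]
      one_mem' := map_one γ
      inv_mem' := by
        intro x hx
        show γ x⁻¹ = x⁻¹
        rw [map_inv, hx] }
  have hpowM : ∀ n : ℕ, ∀ x, x⁻¹ * (γ ^ n) x ∈ frattini X := by
    intro n
    induction n with
    | zero => intro x; simp
    | succ n ih =>
      intro x
      rw [pow_succ', MulAut.mul_apply]
      have h1 := ih x
      have h2 : γ (x⁻¹ * (γ ^ n) x) ∈ frattini X := (char_mem_iff _ γ _).mpr h1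
      have h3 := h x
      have e : x⁻¹ * γ ((γ ^ n) x) = x⁻¹ * γ x * γ (x⁻¹ * (γ ^ n) x) := by
        rw [map_mul, map_inv]; group
      rw [e]
      exact mul_mem h3 h2
  have hsup : F ⊔ frattini X = ⊤ := by
    rw [eq_top_iff]
    intro x _
    let Ω := {y : X // x⁻¹ * y ∈ frattini X}
    let f : Ω → Ω := fun y => ⟨γ y.1, by
      have h1 := h y.1
      have e : x⁻¹ * γ y.1 = x⁻¹ * y.1 * (y.1⁻¹ * γ y.1) := by group
      rw [e]
      exact mul_mem y.2 h1⟩
    have hit : ∀ n : ℕ, ∀ y : Ω, ((f^[n] y : Ω) : X) = (γ ^ n) y.1 := by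
      intro n
      induction n with
      | zero => intro y; rfl
      | succ n ih =>
        intro y
        rw [Function.iterate_succ_apply', pow_succ', MulAut.mul_apply]
        show γ ((f^[n] y : Ω) : X) = _
        rw [ih y]
    have hf : ∀ y, f^[r] y = y := by
      intro y
      apply Subtype.ext
      rw [hit r y, hγ]
      rfl
    have hcard : Nat.card Ω = Nat.card (frattini X) := by
      apply Nat.card_congr
      exact
        { toFun := fun y => ⟨x⁻¹ * y.1, y.2⟩
          invFun := fun m => ⟨x * m.1, by simpa using m.2⟩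
          left_inv := fun y => by apply Subtype.ext; simp
          right_inv := fun m => by apply Subtype.ext; simp }
    have hnd : ¬ r ∣ Nat.card Ω := by
      rw [hcard]
      obtain ⟨k, hk⟩ := IsPGroup.iff_card.mp (hX.to_subgroup (frattini X))
      rw [hk]
      intro hdvd
      have := (Nat.prime_dvd_prime_iff_eq hr Nat.prime_two).mp (hr.dvd_of_dvd_pow hdvd)
      exact hr2 this
    obtain ⟨y, hy⟩ := exists_fixed_of_iterate f hr hf hnd
    have hyF : y.1 ∈ F := by
      have := congrArg Subtype.val hy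
      exact this
    have e : x = y.1 * (x⁻¹ * y.1)⁻¹ := by group
    rw [e]
    exact Subgroup.mul_mem_sup hyF (inv_mem y.2)
  have hF : F = ⊤ := frattini_nongenerating hsup
  ext x
  have : x ∈ F := by rw [hF]; trivial
  exact this


/-- The data of a finite metacyclic `2`-group `X = ⟨b⟩⟨a⟩`, `⟨a⟩` normal, with an automorphism
`β` of odd prime order `r`. -/
structure M2Setup (X : Type*) [Group X] (β : MulAut X) (r : ℕ) (a b : X) : Prop where
  h2 : IsPGroup 2 X
  hr : r.Prime
  hr2 : r ≠ 2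
  hβr : β ^ r = 1
  hβ1 : β ≠ 1
  hgen : ∀ x : X, ∃ i j : ℤ, x = b ^ j * a ^ i
  hN : ∀ g x : X, x ∈ Subgroup.zpowers a → g * x * g⁻¹ ∈ Subgroup.zpowers a
  hcomm : commutator X ≤ Subgroup.zpowers a

theorem zpow_split (a : X) (i : ℤ) :
    ∃ ε : ℕ, (ε = 0 ∨ ε = 1) ∧ ∃ u : ℤ, a ^ i = a ^ ε * (a ^ 2) ^ u := by
  have h0 : i = i % 2 + 2 * (i / 2) := (Int.emod_add_mul_ediv i 2).symm
  rcases Int.emod_two_eq_zero_or_one i with h | h
  · refine ⟨0, Or.inl rfl, i / 2, ?_⟩
    rw [h, zero_add] at h0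
    rw [pow_zero, one_mul, ← zpow_natCast, ← zpow_mul]
    norm_num
    rw [← h0]
  · refine ⟨1, Or.inr rfl, i / 2, ?_⟩
    rw [h] at h0
    rw [pow_one, ← zpow_natCast, ← zpow_mul]
    norm_num
    rw [← zpow_one_add, ← h0]

namespace M2Setup

variable [Finite X] {β : MulAut X} {r : ℕ} {a b : X}

theorem sq_mem (S : M2Setup X β r a b) (x : X) : x ^ 2 ∈ frattini X :=
  (Cfsg.Agent.S0012.result 2 S.h2).2 x

theorem zsq_mem (S : M2Setup X β r a b) (x : X) (u : ℤ) : (x ^ 2) ^ u ∈ frattini X :=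
  Subgroup.zpow_mem _ (S.sq_mem x) u

theorem rep (S : M2Setup X β r a b) (x : X) :
    ∃ ε δ : ℕ, (ε = 0 ∨ ε = 1) ∧ (δ = 0 ∨ δ = 1) ∧ (b ^ δ * a ^ ε)⁻¹ * x ∈ frattini X := by
  obtain ⟨i, j, rfl⟩ := S.hgen x
  obtain ⟨ε, hε, u, hu⟩ := zpow_split a i
  obtain ⟨δ, hδ, v, hv⟩ := zpow_split b j
  refine ⟨ε, δ, hε, hδ, ?_⟩
  rw [hu, hv]
  have e : (b ^ δ * a ^ ε)⁻¹ * (b ^ δ * (b ^ 2) ^ v * (a ^ ε * (a ^ 2) ^ u)) =
      (a ^ ε)⁻¹ * (b ^ 2) ^ v * (a ^ ε)⁻¹⁻¹ * (a ^ 2) ^ u := by group
  rw [e]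
  haveI : (frattini X).Normal := inferInstance
  exact mul_mem (Subgroup.Normal.conj_mem inferInstance _ (S.zsq_mem b v) _) (S.zsq_mem a u)

theorem burn (S : M2Setup X β r a b) (h : ∀ x, x⁻¹ * β x ∈ frattini X) : False :=
  S.hβ1 (aut_eq_one_of_frattini S.h2 S.hr S.hr2 β S.hβr h)

theorem not_idx (S : M2Setup X β r a b) (y : X)
    (h : ∀ x, x ∈ frattini X ∨ y⁻¹ * x ∈ frattini X) : False := by
  apply S.burn
  intro x
  rcases h x with hx | hx
  · exact mul_mem (inv_mem hx) ((char_mem_iff _ β x).mpr hx)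
  · have hbx : β x ∉ frattini X → y⁻¹ * β x ∈ frattini X := fun hn => (h (β x)).resolve_left hn
    by_cases hxM : x ∈ frattini X
    · exact mul_mem (inv_mem hxM) ((char_mem_iff _ β x).mpr hxM)
    · have h1 : β x ∉ frattini X := fun hn => hxM ((char_mem_iff _ β x).mp hn)
      have h2 := hbx h1
      have e : x⁻¹ * β x = (y⁻¹ * x)⁻¹ * (y⁻¹ * β x) := by group
      rw [e]
      exact mul_mem (inv_mem hx) h2

theorem a_not_mem (S : M2Setup X β r a b) : a ∉ frattini X := by
  intro ha
  apply S.not_idx b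
  intro x
  obtain ⟨ε, δ, hε, hδ, h⟩ := S.rep x
  have h1 : (b ^ δ)⁻¹ * x ∈ frattini X := by
    have e : (b ^ δ)⁻¹ * x = a ^ ε * ((b ^ δ * a ^ ε)⁻¹ * x) := by group
    rw [e]
    exact mul_mem (pow_mem ha ε) h
  rcases hδ with rfl | rfl
  · left; simpa using h1
  · right; simpa using h1

theorem b_not_mem (S : M2Setup X β r a b) : b ∉ frattini X := by
  intro hb
  apply S.not_idx a
  intro x
  obtain ⟨ε, δ, hε, hδ, h⟩ := S.rep x
  have h1 : (a ^ ε)⁻¹ * x ∈ frattini X := by
    have e : (a ^ ε)⁻¹ * x = (a ^ ε)⁻¹ * b ^ δ * (a ^ ε)⁻¹⁻¹ * ((b ^ δ * a ^ ε)⁻¹ * x) := by group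
    rw [e]
    exact mul_mem (Subgroup.Normal.conj_mem inferInstance _ (pow_mem hb δ) _) h
  rcases hε with rfl | rfl
  · left; simpa using h1
  · right; simpa using h1

theorem ba_not_mem (S : M2Setup X β r a b) : b * a ∉ frattini X := by
  intro hba
  apply S.not_idx a
  intro x
  have hab : a⁻¹ * b ∈ frattini X := by
    have e : a⁻¹ * b = a⁻¹ * (b * a) * a⁻¹⁻¹ * (a ^ 2)⁻¹ := by group
    rw [e]
    exact mul_mem (Subgroup.Normal.conj_mem inferInstance _ hba _) (inv_mem (S.sq_mem a))
  obtain ⟨ε, δ, hε, hδ, h⟩ := S.rep x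
  rcases hε with rfl | rfl <;> rcases hδ with rfl | rfl
  · left; simpa using h
  · right
    have e : a⁻¹ * x = a⁻¹ * b * ((b ^ 1 * a ^ 0)⁻¹ * x) := by group
    rw [e]
    exact mul_mem hab h
  · right; simpa using h
  · left
    have e : x = b * a * ((b ^ 1 * a ^ 1)⁻¹ * x) := by group
    rw [e]
    exact mul_mem hba h

theorem index_le (S : M2Setup X β r a b) : (frattini X).index ≤ 4 := by
  classical
  let f : Fin 2 × Fin 2 → X ⧸ frattini X :=
    fun p => ((b ^ (p.2 : ℕ) * a ^ (p.1 : ℕ) : X) : X ⧸ frattini X)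
  have hf : Function.Surjective f := by
    intro q
    obtain ⟨x, rfl⟩ := QuotientGroup.mk_surjective q
    obtain ⟨ε, δ, hε, hδ, h⟩ := S.rep x
    have hε2 : ε < 2 := by rcases hε with rfl | rfl <;> norm_num
    have hδ2 : δ < 2 := by rcases hδ with rfl | rfl <;> norm_num
    refine ⟨(⟨ε, hε2⟩, ⟨δ, hδ2⟩), ?_⟩
    show ((b ^ δ * a ^ ε : X) : X ⧸ frattini X) = (x : X ⧸ frattini X)
    rw [QuotientGroup.eq]
    exact h
  have h1 := Nat.card_le_card_of_surjective f hf
  have h2 : Nat.card (Fin 2 × Fin 2) = 4 := by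
    rw [Nat.card_prod, Nat.card_fin]
  rw [h2] at h1
  exact h1

/-- irreducibility of the action on the Frattini quotient -/
theorem gen (S : M2Setup X β r a b) (K : Subgroup X) (hK : ∀ x ∈ K, β x ∈ K) (k : X)
    (hk : k ∈ K) (hkM : k ∉ frattini X) : K = ⊤ := by
  classical
  by_contra hKtop
  obtain ⟨L, hL⟩ : ∃ L, L = K ⊔ frattini X := ⟨_, rfl⟩
  have hML : frattini X ≤ L := hL ▸ le_sup_right
  have hKL : K ≤ L := hL ▸ le_sup_left
  have hLtop : L ≠ ⊤ := by
    intro h
    rw [hL] at h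
    exact hKtop (frattini_nongenerating h)
  have hLM : ¬ L ≤ frattini X := fun h => hkM (h (hKL hk))
  have hLmap : L.map β.toMonoidHom ≤ L := by
    rw [hL, Subgroup.map_sup]
    apply sup_le_sup
    · rintro _ ⟨x, hx, rfl⟩
      exact hK x hx
    · rintro _ ⟨x, hx, rfl⟩
      exact (char_mem_iff _ β x).mpr hx
  have hLeq : L.map β.toMonoidHom = L := by
    apply Subgroup.eq_of_le_of_card_ge hLmap
    rw [Subgroup.card_map_of_injective β.injective]
  have hLiff : ∀ x, β x ∈ L ↔ x ∈ L := by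
    intro x
    constructor
    · intro h
      rw [← hLeq] at h
      obtain ⟨l, hl, hlx⟩ := h
      have : l = x := β.injective hlx
      rw [← this]
      exact hl
    · intro h
      exact hLmap ⟨x, h, rfl⟩
  have hidx := Subgroup.relIndex_mul_index hML
  have h4 := S.index_le
  have hi1 : L.index ≠ 1 := fun h => hLtop (Subgroup.index_eq_one.mp h)
  have hi0 : L.index ≠ 0 := Subgroup.index_ne_zero_of_finite
  have hr1 : (frattini X).relIndex L ≠ 1 := fun h => hLM (Subgroup.relIndex_eq_one.mp h)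
  have hr0 : (frattini X).relIndex L ≠ 0 := by
    intro h
    rw [h, zero_mul] at hidx
    exact Subgroup.index_ne_zero_of_finite hidx.symm
  have hboth : L.index = 2 ∧ (frattini X).relIndex L = 2 := by
    rw [← hidx] at h4
    generalize L.index = m at h4 hi1 hi0
    generalize (frattini X).relIndex L = n at h4 hr1 hr0
    have hm : 2 ≤ m := by omega
    have hn : 2 ≤ n := by omega
    have hm3 : m < 3 := by
      by_contra h
      have : 2 * 3 ≤ n * m := Nat.mul_le_mul hn (by omega)
      omega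
    have hn3 : n < 3 := by
      by_contra h
      have : 3 * 2 ≤ n * m := Nat.mul_le_mul (by omega) hm
      omega
    omega
  obtain ⟨hLi, hMr⟩ := hboth
  -- (a)
  have ha : ∀ x, x⁻¹ * β x ∈ L := by
    intro x
    rw [Subgroup.mul_mem_iff_of_index_two hLi, inv_mem_iff, hLiff]
  -- (b)
  have hb : ∀ l ∈ L, l⁻¹ * β l ∈ frattini X := by
    intro l hl
    have hbl : β l ∈ L := (hLiff l).mpr hl
    have h1 := Subgroup.mul_mem_iff_of_index_two (H := (frattini X).subgroupOf L) hMr
      (a := (⟨l, hl⟩ : L)⁻¹) (b := ⟨β l, hbl⟩)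
    rw [inv_mem_iff] at h1
    simp only [Subgroup.mem_subgroupOf] at h1
    have h2 : ((⟨l, hl⟩ : L)⁻¹ * ⟨β l, hbl⟩ : L).1 = l⁻¹ * β l := rfl
    rw [h2] at h1
    rw [h1]
    exact (char_mem_iff _ β l).symm
  -- (c)
  have hc : ∀ x, x⁻¹ * (β ^ 2) x ∈ frattini X := by
    intro x
    have h1 := ha x
    have h2 := hb _ h1
    have e : x⁻¹ * (β ^ 2) x = (x⁻¹ * β x) ^ 2 * ((x⁻¹ * β x)⁻¹ * β (x⁻¹ * β x)) := by
      rw [pow_two β, MulAut.mul_apply, map_mul, map_inv, pow_two (x⁻¹ * β x)]
      group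
    rw [e]
    exact mul_mem (S.sq_mem _) h2
  have h2r : (β ^ 2) ^ r = 1 := by rw [← pow_mul, mul_comm, pow_mul, S.hβr, one_pow]
  have hb2 : β ^ 2 = 1 := aut_eq_one_of_frattini S.h2 S.hr S.hr2 (β ^ 2) h2r hc
  have hodd : Odd r := S.hr.odd_of_ne_two S.hr2
  obtain ⟨q, hq⟩ := hodd
  have h3 := S.hβr
  rw [hq, pow_succ, pow_mul, hb2, one_pow, one_mul] at h3
  exact S.hβ1 h3

/-- `β`-invariant homomorphisms are trivial -/
theorem triv (S : M2Setup X β r a b) {G' : Type*} [Group G'] (f : X →* G')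
    (hf : ∀ x, f (β x) = f x) (x : X) : f x = 1 := by
  by_cases h : ∃ k, k ∈ f.ker ∧ k ∉ frattini X
  · obtain ⟨k, hk, hkM⟩ := h
    have h1 : f.ker = ⊤ := by
      apply S.gen f.ker _ k hk hkM
      intro y hy
      rw [MonoidHom.mem_ker] at hy ⊢
      rw [hf, hy]
    have : x ∈ f.ker := by rw [h1]; trivial
    exact MonoidHom.mem_ker.mp this
  · push_neg at h
    exfalso
    apply S.burn
    intro y
    apply h
    rw [MonoidHom.mem_ker, map_mul, map_inv, hf, inv_mul_cancel]


/-- `β` fixes the (cyclic) commutator subgroup elementwise -/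
theorem fix_comm (S : M2Setup X β r a b) : ∀ t ∈ commutator X, β t = t := by
  classical
  have hinv : ∀ t ∈ commutator X, β t ∈ commutator X :=
    fun t ht => (char_mem_iff _ β t).mpr ht
  haveI hcyc : IsCyclic ↥(commutator X) := by
    have h1 : IsCyclic ↥((commutator X).subgroupOf (Subgroup.zpowers a)) := inferInstance
    exact isCyclic_of_surjective (Subgroup.subgroupOfEquivOfLe S.hcomm).toMonoidHom
      (Subgroup.subgroupOfEquivOfLe S.hcomm).surjective
  obtain ⟨ρ, hρ⟩ : ∃ ρ, ρ = restrictAut β (commutator X) hinv := ⟨_, rfl⟩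
  have hρr : ρ ^ r = 1 := by
    ext t
    rw [hρ, restrictAut_pow, S.hβr]
    rfl
  have hcard := IsCyclic.card_mulAut ↥(commutator X)
  obtain ⟨m, hm⟩ := IsPGroup.iff_card.mp (S.h2.to_subgroup (commutator X))
  have hord1 : orderOf ρ ∣ r := orderOf_dvd_of_pow_eq_one hρr
  have hord2 : orderOf ρ ∣ Nat.card (MulAut ↥(commutator X)) := orderOf_dvd_natCard ρ
  rw [hcard, hm] at hord2
  have htot : Nat.totient (2 ^ m) ∣ 2 ^ m := by
    cases m with
    | zero => simp
    | succ m =>
      rw [Nat.totient_prime_pow_succ Nat.prime_two]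
      exact ⟨2, by rw [pow_succ]; ring⟩
  have hord3 : orderOf ρ ∣ 2 ^ m := hord2.trans htot
  have hcop : Nat.Coprime r (2 ^ m) :=
    Nat.Coprime.pow_right m ((Nat.coprime_primes S.hr Nat.prime_two).mpr S.hr2)
  have h1 : orderOf ρ = 1 := by
    have h := Nat.dvd_gcd hord1 hord3
    rw [Nat.Coprime.gcd_eq_one hcop] at h
    exact Nat.dvd_one.mp h
  have hρ1 : ρ = 1 := orderOf_eq_one_iff.mp h1
  intro t ht
  have h2 : ρ ⟨t, ht⟩ = ⟨t, ht⟩ := by rw [hρ1]; rfl
  have h3 := congrArg Subtype.val h2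
  rw [hρ] at h3
  exact h3

/-- the commutator subgroup is central -/
theorem comm_le_center (S : M2Setup X β r a b) : commutator X ≤ Subgroup.center X := by
  have hfix := S.fix_comm
  obtain ⟨C, hC⟩ : ∃ C, C = Subgroup.centralizer ((commutator X : Subgroup X) : Set X) :=
    ⟨_, rfl⟩
  have hCinv : ∀ y ∈ C, β y ∈ C := by
    intro y hy
    rw [hC, Subgroup.mem_centralizer_iff] at hy ⊢
    intro c hc
    have h1 := hy c hc
    have h2 := congrArg β h1
    rw [map_mul, map_mul, hfix c hc] at h2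
    exact h2
  have hg : ∀ g, g⁻¹ * β g ∈ C := by
    intro g
    rw [hC, Subgroup.mem_centralizer_iff]
    intro c hc
    have hn : g * c * g⁻¹ ∈ commutator X :=
      (inferInstance : (commutator X).Normal).conj_mem c hc g
    have h1 := hfix _ hn
    rw [map_mul, map_mul, map_inv, hfix c hc] at h1
    calc c * (g⁻¹ * β g) = g⁻¹ * (g * c * g⁻¹) * β g := by group
      _ = g⁻¹ * (β g * c * (β g)⁻¹) * β g := by rw [h1]
      _ = g⁻¹ * β g * c := by group
  by_cases h : ∃ k, k ∈ C ∧ k ∉ frattini X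
  · obtain ⟨k, hk, hkM⟩ := h
    have hCtop := S.gen C hCinv k hk hkM
    intro c hc
    rw [Subgroup.mem_center_iff]
    intro g
    have hgC : g ∈ C := by rw [hCtop]; trivial
    rw [hC, Subgroup.mem_centralizer_iff] at hgC
    exact (hgC c hc).symm
  · push_neg at h
    exact (S.burn (fun x => h _ (hg x))).elim

omit [Finite X] in
theorem zpow_even (a : X) (u : ℤ) : a ^ (2 * u) = (a ^ 2) ^ u := by
  rw [zpow_mul]; norm_num

omit [Finite X] in
theorem zpow_odd (a : X) (u : ℤ) : a ^ (2 * u + 1) = (a ^ 2) ^ u * a := by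
  rw [zpow_add, zpow_one, zpow_even]

/-- the abelian case -/
theorem abelian_case (S : M2Setup X β r a b) (hab : ∀ x y : X, x * y = y * x) :
    ∃ n : ℕ, Nonempty (X ≃* Multiplicative (ZMod (2 ^ n)) × Multiplicative (ZMod (2 ^ n))) := by
  classical
  have hex : ∃ n : ℕ, ∀ x : X, x ^ (2 ^ n) = 1 := by
    obtain ⟨k, hk⟩ := IsPGroup.iff_card.mp S.h2
    exact ⟨k, fun x => by rw [← hk]; exact pow_card_eq_one'⟩
  obtain ⟨n, hn, hmin⟩ : ∃ n : ℕ, (∀ x : X, x ^ (2 ^ n) = 1) ∧
      ∀ m < n, ¬ ∀ x : X, x ^ (2 ^ m) = 1 :=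
    ⟨Nat.find hex, Nat.find_spec hex, fun m hm => Nat.find_min hex hm⟩
  have hn0 : n ≠ 0 := by
    intro h0
    apply S.hβ1
    ext x
    have h1 := hn x
    have h2 := hn (β x)
    rw [h0, pow_zero, pow_one] at h1 h2
    show β x = x
    rw [h2, h1]
  obtain ⟨k, hk0⟩ := Nat.exists_eq_succ_of_ne_zero hn0
  have hk : n = k + 1 := hk0
  let φ : X →* X := MonoidHom.mk' (fun x => x ^ (2 ^ k))
    (fun x y => Commute.mul_pow (show Commute x y from hab x y) _)
  have hker : ∀ x, x ^ (2 ^ k) = 1 → x ∈ frattini X := by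
    intro x hx
    by_contra hxM
    have h1 : φ.ker = ⊤ := S.gen φ.ker (by
      intro y hy
      rw [MonoidHom.mem_ker] at hy ⊢
      have hy' : y ^ (2 ^ k) = 1 := hy
      show (β y) ^ (2 ^ k) = 1
      rw [← map_pow, hy', map_one]) x (MonoidHom.mem_ker.mpr hx) hxM
    apply hmin k (by omega)
    intro y
    have : y ∈ φ.ker := by rw [h1]; trivial
    exact MonoidHom.mem_ker.mp this
  have haM := S.a_not_mem
  have hbM := S.b_not_mem
  have hbaM := S.ba_not_mem
  have hpar : ∀ i j : ℤ, b ^ j * a ^ i ∈ frattini X → (2 : ℤ) ∣ i ∧ (2 : ℤ) ∣ j := by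
    intro i j h
    have hi0 : i = 2 * (i / 2) + i % 2 := (Int.mul_ediv_add_emod i 2).symm
    have hj0 : j = 2 * (j / 2) + j % 2 := (Int.mul_ediv_add_emod j 2).symm
    have hmm : (b ^ 2) ^ (j / 2) * (a ^ 2) ^ (i / 2) ∈ frattini X :=
      mul_mem (S.zsq_mem b _) (S.zsq_mem a _)
    rcases Int.emod_two_eq_zero_or_one i with hi | hi <;>
      rcases Int.emod_two_eq_zero_or_one j with hj | hj
    · exact ⟨Int.dvd_of_emod_eq_zero hi, Int.dvd_of_emod_eq_zero hj⟩
    · exfalso
      rw [hi, add_zero] at hi0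
      rw [hj] at hj0
      rw [hi0, hj0, zpow_even, zpow_odd] at h
      apply hbM
      have e0 : (b ^ 2) ^ (j / 2) * b * (a ^ 2) ^ (i / 2) =
          (b ^ 2) ^ (j / 2) * (a ^ 2) ^ (i / 2) * b := by
        rw [mul_assoc, hab b, ← mul_assoc]
      rw [e0] at h
      have e : b = ((b ^ 2) ^ (j / 2) * (a ^ 2) ^ (i / 2))⁻¹ *
          ((b ^ 2) ^ (j / 2) * (a ^ 2) ^ (i / 2) * b) := by
        group
      rw [e]
      exact mul_mem (inv_mem hmm) h
    · exfalso
      rw [hi] at hi0
      rw [hj, add_zero] at hj0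
      rw [hi0, hj0, zpow_even, zpow_odd] at h
      apply haM
      have e : a = ((b ^ 2) ^ (j / 2) * (a ^ 2) ^ (i / 2))⁻¹ *
          ((b ^ 2) ^ (j / 2) * ((a ^ 2) ^ (i / 2) * a)) := by
        group
      rw [e]
      exact mul_mem (inv_mem hmm) h
    · exfalso
      rw [hi] at hi0
      rw [hj] at hj0
      rw [hi0, hj0, zpow_odd, zpow_odd] at h
      apply hbaM
      have e0 : (b ^ 2) ^ (j / 2) * b * ((a ^ 2) ^ (i / 2) * a) =
          (b ^ 2) ^ (j / 2) * (a ^ 2) ^ (i / 2) * (b * a) := by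
        rw [mul_assoc, ← mul_assoc b, hab b, mul_assoc, ← mul_assoc]
      rw [e0] at h
      have e : b * a = ((b ^ 2) ^ (j / 2) * (a ^ 2) ^ (i / 2))⁻¹ *
          ((b ^ 2) ^ (j / 2) * (a ^ 2) ^ (i / 2) * (b * a)) := by
        group
      rw [e]
      exact mul_mem (inv_mem hmm) h
  have ha1 : ¬ a ^ 2 ^ k = 1 := fun h => haM (hker a h)
  have hb1 : ¬ b ^ 2 ^ k = 1 := fun h => hbM (hker b h)
  have hdiv : ∀ m ≤ n, ∀ i j : ℤ, b ^ j * a ^ i = 1 → ((2 : ℤ) ^ m ∣ i) ∧ ((2 : ℤ) ^ m ∣ j) := by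
    intro m
    induction m with
    | zero => intro _ i j _; simp
    | succ m ih =>
      intro hm i j hij
      obtain ⟨⟨i', rfl⟩, ⟨j', rfl⟩⟩ := ih (by omega) i j hij
      have h1 : (b ^ j' * a ^ i') ^ (2 ^ m) = 1 := by
        rw [Commute.mul_pow (show Commute (b ^ j') (a ^ i') from hab _ _)]
        rw [← zpow_natCast, ← zpow_natCast, ← zpow_mul, ← zpow_mul]
        push_cast
        rw [mul_comm j', mul_comm i']
        exact hij
      have h2 : (b ^ j' * a ^ i') ^ (2 ^ k) = 1 := by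
        have : k = m + (k - m) := by omega
        rw [this, pow_add, pow_mul, h1, one_pow]
      obtain ⟨⟨i'', rfl⟩, ⟨j'', rfl⟩⟩ := hpar i' j' (hker _ h2)
      constructor
      · exact ⟨i'', by rw [pow_succ]; ring⟩
      · exact ⟨j'', by rw [pow_succ]; ring⟩
  have hcast : ((2 : ℤ) ^ n) = ((2 ^ n : ℕ) : ℤ) := by push_cast; rfl
  have hind : ∀ i j : ℤ, b ^ j * a ^ i = 1 → a ^ i = 1 ∧ b ^ j = 1 := by
    intro i j hij
    obtain ⟨⟨i', rfl⟩, ⟨j', rfl⟩⟩ := hdiv n le_rfl i j hij
    constructor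
    · rw [hcast, zpow_mul, zpow_natCast, hn a, one_zpow]
    · rw [hcast, zpow_mul, zpow_natCast, hn b, one_zpow]
  let ψ : ↥(Subgroup.zpowers b) × ↥(Subgroup.zpowers a) →* X :=
    { toFun := fun p => (p.1 : X) * (p.2 : X)
      map_one' := by simp
      map_mul' := by
        rintro ⟨u, v⟩ ⟨u', v'⟩
        show ((u : X) * (u' : X)) * ((v : X) * (v' : X)) = ((u : X) * (v : X)) * ((u' : X) * (v' : X))
        rw [mul_assoc, ← mul_assoc (u' : X), hab (u' : X) (v : X), mul_assoc, ← mul_assoc] }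
  have hinj : Function.Injective ψ := by
    rw [injective_iff_map_eq_one]
    rintro ⟨⟨u, hu⟩, ⟨v, hv⟩⟩ h
    obtain ⟨j, rfl⟩ := Subgroup.mem_zpowers_iff.mp hu
    obtain ⟨i, rfl⟩ := Subgroup.mem_zpowers_iff.mp hv
    obtain ⟨h1, h2⟩ := hind i j h
    apply Prod.ext
    · exact Subtype.ext h2
    · exact Subtype.ext h1
  have hsurj : Function.Surjective ψ := by
    intro x
    obtain ⟨i, j, rfl⟩ := S.hgen x
    exact ⟨(⟨b ^ j, Subgroup.zpow_mem_zpowers b j⟩, ⟨a ^ i, Subgroup.zpow_mem_zpowers a i⟩), rfl⟩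
  have e1 : ↥(Subgroup.zpowers b) × ↥(Subgroup.zpowers a) ≃* X :=
    MulEquiv.ofBijective ψ ⟨hinj, hsurj⟩
  have hoa : orderOf a = 2 ^ n := by
    rw [hk]
    exact orderOf_eq_prime_pow ha1 (by rw [← hk]; exact hn a)
  have hob : orderOf b = 2 ^ n := by
    rw [hk]
    exact orderOf_eq_prime_pow hb1 (by rw [← hk]; exact hn b)
  have ea : Multiplicative (ZMod (2 ^ n)) ≃* ↥(Subgroup.zpowers a) := by
    have e := zmodCyclicMulEquiv (inferInstance : IsCyclic ↥(Subgroup.zpowers a))
    rw [Nat.card_zpowers, hoa] at e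
    exact e
  have eb : Multiplicative (ZMod (2 ^ n)) ≃* ↥(Subgroup.zpowers b) := by
    have e := zmodCyclicMulEquiv (inferInstance : IsCyclic ↥(Subgroup.zpowers b))
    rw [Nat.card_zpowers, hob] at e
    exact e
  exact ⟨n, ⟨e1.symm.trans (MulEquiv.prodCongr eb.symm ea.symm)⟩⟩


/-- the nonabelian case -/
theorem nonabelian_case (S : M2Setup X β r a b) (hnab : ¬ ∀ x y : X, x * y = y * x) :
    Nonempty (X ≃* QuaternionGroup 2) := by
  classical
  have hcen := S.comm_le_center
  have hfix := S.fix_comm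
  have haM := S.a_not_mem
  have hXM : commutator X ≤ frattini X := (Cfsg.Agent.S0012.result 2 S.h2).1
  have hcm : ∀ x y : X, ⁅x, y⁆ ∈ commutator X := fun x y =>
    Subgroup.commutator_mem_commutator (Subgroup.mem_top x) (Subgroup.mem_top y)
  have hcz : ∀ d ∈ commutator X, ∀ z : X, d * z = z * d := fun d hd z =>
    (Subgroup.mem_center_iff.mp (hcen hd) z).symm
  have hcc : ∀ x y z : X, ⁅x, y⁆ * z = z * ⁅x, y⁆ := fun x y z => hcz _ (hcm x y) z
  have hne : ∃ d ∈ commutator X, d ≠ 1 := by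
    by_contra h
    push_neg at h
    apply hnab
    intro x y
    exact commutatorElement_eq_one_iff_mul_comm.mp (h _ (hcm x y))
  have hpowers : ∀ d ∈ Subgroup.zpowers a, ∃ s : ℕ, d = a ^ s := by
    intro d hd
    rw [← mem_powers_iff_mem_zpowers] at hd
    obtain ⟨s, hs⟩ := hd
    exact ⟨s, hs.symm⟩
  have hchar : ∀ x, x ∈ commutator X → β x ∈ commutator X :=
    fun x hx => (char_mem_iff _ β x).mpr hx
  by_cases hA : a ^ 2 ∈ commutator X
  · -- all squares lie in the commutator subgroup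
    let K₁ : Subgroup X :=
      { carrier := {x | x ^ 2 ∈ commutator X}
        mul_mem' := by
          intro x y hx hy
          show (x * y) ^ 2 ∈ commutator X
          rw [mul_pow_class_two x y (hcc y x x) (hcc y x y) 2]
          exact mul_mem (mul_mem hx hy) (pow_mem (hcm y x) _)
        one_mem' := by
          show (1 : X) ^ 2 ∈ commutator X
          rw [one_pow]; exact one_mem _
        inv_mem' := by
          intro x hx
          show (x⁻¹) ^ 2 ∈ commutator X
          rw [inv_pow]; exact inv_mem hx }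
    have hK₁ : K₁ = ⊤ := S.gen K₁ (by
      intro y hy
      show (β y) ^ 2 ∈ commutator X
      rw [← map_pow]
      exact hchar _ hy) a hA haM
    have hsq : ∀ x : X, x ^ 2 ∈ commutator X := by
      intro x
      have : x ∈ K₁ := by rw [hK₁]; trivial
      exact this
    have hc2 : ∀ x y : X, ⁅x, y⁆ ^ 2 = 1 := by
      intro x y
      rw [← commElem_pow_left x y (hcc x y x) 2]
      exact commutatorElement_eq_one_iff_mul_comm.mpr (hcz _ (hsq x) y)
    have hexp2 : ∀ d ∈ commutator X, d ^ 2 = 1 := by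
      intro d hd
      have hd' := hd
      rw [commutator_eq_closure] at hd'
      induction hd' using Subgroup.closure_induction with
      | mem u hu =>
        obtain ⟨x, y, rfl⟩ := hu
        exact hc2 x y
      | one => exact one_pow 2
      | mul u v hu hv ihu ihv =>
        have hu' : u ∈ commutator X := by rw [commutator_eq_closure]; exact hu
        have hv' : v ∈ commutator X := by rw [commutator_eq_closure]; exact hv
        rw [Commute.mul_pow (show Commute u v from hcz u hu' v), ihu hu', ihv hv', one_mul]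
      | inv u hu ihu =>
        have hu' : u ∈ commutator X := by rw [commutator_eq_closure]; exact hu
        rw [inv_pow, ihu hu', inv_one]
    have ha2 : ¬ a ^ 2 ^ 1 = 1 := by
      rw [pow_one]
      intro h
      obtain ⟨d, hd, hd1⟩ := hne
      obtain ⟨s, rfl⟩ := hpowers d (S.hcomm hd)
      rcases Nat.even_or_odd' s with ⟨t, rfl | rfl⟩
      · apply hd1
        rw [pow_mul, h, one_pow]
      · apply haM
        apply hXM
        rw [pow_succ, pow_mul, h, one_pow, one_mul] at hd
        exact hd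
    have ha4 : a ^ 2 ^ (1 + 1) = 1 := by
      have := hexp2 _ hA
      rw [← pow_mul] at this
      exact this
    have hoa : orderOf a = 4 := by
      have := orderOf_eq_prime_pow ha2 ha4
      rw [this]
      norm_num
    have hb2 : b ^ 2 ∈ Subgroup.zpowers a := S.hcomm (hsq b)
    have hcoset : ∀ x, x ∉ Subgroup.zpowers a → ∃ c ∈ Subgroup.zpowers a, x = b * c := by
      intro x hx
      obtain ⟨i, j, rfl⟩ := S.hgen x
      obtain ⟨δ, hδ, v, hv⟩ := zpow_split b j
      have hv' : (b ^ 2) ^ v ∈ Subgroup.zpowers a := Subgroup.zpow_mem _ hb2 v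
      rcases hδ with rfl | rfl
      · exfalso
        apply hx
        rw [hv, pow_zero, one_mul]
        exact mul_mem hv' (Subgroup.zpow_mem_zpowers a i)
      · refine ⟨(b ^ 2) ^ v * a ^ i, mul_mem hv' (Subgroup.zpow_mem_zpowers a i), ?_⟩
        rw [hv, pow_one, mul_assoc]
    have hidx2 : ∀ x y, x ∉ Subgroup.zpowers a → y ∉ Subgroup.zpowers a →
        x * y ∈ Subgroup.zpowers a := by
      intro x y hx hy
      obtain ⟨c, hc, rfl⟩ := hcoset x hx
      obtain ⟨c', hc', rfl⟩ := hcoset y hy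
      have e : b * c * (b * c') = b ^ 2 * (b⁻¹ * c * b⁻¹⁻¹) * c' := by group
      rw [e]
      exact mul_mem (mul_mem hb2 (S.hN b⁻¹ c hc)) hc'
    obtain ⟨t, ht⟩ : ∃ t, t = β a := ⟨_, rfl⟩
    have htn : t ∉ Subgroup.zpowers a := by
      intro h
      have h1 : Subgroup.zpowers a = ⊤ := S.gen (Subgroup.zpowers a) (by
        intro y hy
        obtain ⟨i, rfl⟩ := Subgroup.mem_zpowers_iff.mp hy
        rw [map_zpow, ← ht]
        exact Subgroup.zpow_mem _ h i) a (Subgroup.mem_zpowers a) haM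
      apply hnab
      intro x y
      have hx : x ∈ Subgroup.zpowers a := by rw [h1]; trivial
      have hy : y ∈ Subgroup.zpowers a := by rw [h1]; trivial
      obtain ⟨i, rfl⟩ := Subgroup.mem_zpowers_iff.mp hx
      obtain ⟨j, rfl⟩ := Subgroup.mem_zpowers_iff.mp hy
      rw [← zpow_add, ← zpow_add, add_comm]
    have htt : t * t = a * a := by
      rw [ht, ← map_mul, ← pow_two]
      exact hfix _ hA
    have ha1 : a ≠ 1 := by
      intro h
      rw [h, one_pow] at ha2
      exact ha2 rfl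
    have htf : t * a * t⁻¹ = a⁻¹ := by
      obtain ⟨s, hs⟩ := hpowers _ (S.hN t a (Subgroup.mem_zpowers a))
      have hs' : t * a * t⁻¹ = a ^ (s % 4) := by
        rw [hs, ← hoa, pow_mod_orderOf]
      have hlt : s % 4 < 4 := Nat.mod_lt _ (by norm_num)
      interval_cases hq : s % 4
      · exfalso
        apply ha1
        rw [pow_zero] at hs'
        have e : a = t⁻¹ * (t * a * t⁻¹) * t := by group
        rw [e, hs']
        group
      · exfalso
        rw [pow_one] at hs'
        have hta : t * a = a * t := by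
          calc t * a = t * a * t⁻¹ * t := by group
            _ = a * t := by rw [hs']
        obtain ⟨c, hc, hbc⟩ := hcoset t htn
        obtain ⟨i, rfl⟩ := Subgroup.mem_zpowers_iff.mp hc
        have hb : b = t * (a ^ i)⁻¹ := by rw [hbc]; group
        have hba : b * a = a * b := by
          have h1 : Commute t a := hta
          have h2 : Commute (t * (a ^ i)⁻¹) a :=
            h1.mul_left ((Commute.refl a).zpow_left i).inv_left
          rw [hb]
          exact h2
        apply hnab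
        intro x y
        obtain ⟨i₁, j₁, rfl⟩ := S.hgen x
        obtain ⟨i₂, j₂, rfl⟩ := S.hgen y
        have hcba : Commute b a := hba
        have h1 : Commute (b ^ j₁ * a ^ i₁) (b ^ j₂ * a ^ i₂) := by
          apply Commute.mul_left
          · apply Commute.mul_right
            · exact ((Commute.refl b).zpow_left j₁).zpow_right j₂
            · exact (hcba.zpow_left j₁).zpow_right i₂
          · apply Commute.mul_right
            · exact (hcba.symm.zpow_left i₁).zpow_right j₂
            · exact ((Commute.refl a).zpow_left i₁).zpow_right i₂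
        exact h1
      · exfalso
        apply ha1
        have h1 : t⁻¹ * (a ^ 2) * t = a ^ 2 := by
          rw [mul_assoc, hcz _ hA t]
          group
        have e : a = t⁻¹ * (t * a * t⁻¹) * t := by group
        rw [hs', h1] at e
        have e2 : a * 1 = a * a := by rw [mul_one, ← pow_two]; exact e
        exact (mul_left_cancel e2).symm
      · rw [hs']
        apply eq_inv_of_mul_eq_one_left
        rw [← pow_succ]
        have : a ^ 4 = 1 := by rw [← hoa]; exact pow_orderOf_eq_one a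
        exact this
    obtain ⟨Q, ⟨eQ⟩, hQ⟩ := Cfsg.Agent.Lib.Helper10.Cen.exists_quat8 a t hoa htt htf
    have hQtop : Q = ⊤ := by
      rw [eq_top_iff]
      intro g _
      by_cases hg : g ∈ Subgroup.zpowers a
      · exact (hQ g).mpr (Or.inl hg)
      · exact (hQ g).mpr (Or.inr (hidx2 g t hg htn))
    exact ⟨(Subgroup.topEquiv.symm.trans (MulEquiv.subgroupCongr hQtop.symm)).trans eQ⟩
  · exfalso
    -- the commutator subgroup lies in `⟨a⁴⟩`
    obtain ⟨e, he⟩ : ∃ e, orderOf a = 2 ^ e := by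
      obtain ⟨k, hk⟩ := S.h2 a
      obtain ⟨m, _, hm⟩ := (Nat.dvd_prime_pow Nat.prime_two).mp (orderOf_dvd_of_pow_eq_one hk)
      exact ⟨m, hm⟩
    have hA1 : ∀ d ∈ commutator X, ∃ s : ℕ, d = a ^ (4 * s) := by
      intro d hd
      obtain ⟨s, rfl⟩ := hpowers d (S.hcomm hd)
      have hs : s % 4 = 0 := by
        by_contra hs4
        rcases Nat.even_or_odd' s with ⟨t, rfl | rfl⟩
        · -- s = 2 t, t odd
          have ht : Odd t := by
            rcases Nat.even_or_odd t with h | h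
            · exfalso
              obtain ⟨u, rfl⟩ := h
              apply hs4
              omega
            · exact h
          have ho : orderOf (a ^ 2) ∣ 2 ^ e := by
            apply orderOf_dvd_of_pow_eq_one
            rw [← pow_mul, mul_comm, pow_mul, ← he, pow_orderOf_eq_one, one_pow]
          obtain ⟨f, _, hf⟩ := (Nat.dvd_prime_pow Nat.prime_two).mp ho
          have hcop : Nat.Coprime t (orderOf (a ^ 2)) := by
            rw [hf]
            exact Nat.Coprime.pow_right f (Nat.coprime_two_right.mpr ht)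
          obtain ⟨m, hm⟩ := exists_pow_eq_self_of_coprime hcop
          apply hA
          rw [← hm]
          rw [pow_mul] at hd
          exact pow_mem hd m
        · -- s odd
          have hcop : Nat.Coprime (2 * t + 1) (orderOf a) := by
            rw [he]
            exact Nat.Coprime.pow_right e (Nat.coprime_two_right.mpr ⟨t, rfl⟩)
          obtain ⟨m, hm⟩ := exists_pow_eq_self_of_coprime hcop
          apply hA
          have : a ∈ commutator X := by
            rw [← hm]
            exact pow_mem hd m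
          exact pow_mem this 2
      exact ⟨s / 4, by rw [Nat.mul_div_cancel' (Nat.dvd_of_mod_eq_zero hs)]⟩
    obtain ⟨d₀, hd₀, hd₀1⟩ := hne
    -- `e ≥ 3`
    have he3 : 3 ≤ e := by
      by_contra h
      apply hd₀1
      obtain ⟨s, rfl⟩ := hA1 d₀ hd₀
      have h4 : a ^ 4 = 1 := by
        apply orderOf_dvd_iff_pow_eq_one.mp
        rw [he]
        have : e ≤ 2 := by omega
        exact pow_dvd_pow 2 this
      rw [pow_mul, h4, one_pow]
    obtain ⟨k, rfl⟩ : ∃ k, e = k + 2 := ⟨e - 2, by omega⟩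
    -- the involution of `⟨a⟩`
    have hz1 : a ^ 2 ^ (k + 1) ≠ 1 := by
      apply pow_ne_one_of_lt_orderOf (by positivity)
      rw [he]
      exact Nat.pow_lt_pow_right (by norm_num) (by omega)
    have hz2 : a ^ 2 ^ (k + 2) = 1 := by rw [← he]; exact pow_orderOf_eq_one a
    have hzmem : a ^ 2 ^ (k + 1) ∈ commutator X := by
      obtain ⟨f, hf⟩ : ∃ f, orderOf d₀ = 2 ^ f := by
        obtain ⟨k', hk'⟩ := S.h2 d₀
        obtain ⟨m, _, hm⟩ := (Nat.dvd_prime_pow Nat.prime_two).mp (orderOf_dvd_of_pow_eq_one hk')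
        exact ⟨m, hm⟩
      have hf0 : f ≠ 0 := by
        intro h
        rw [h, pow_zero, orderOf_eq_one_iff] at hf
        exact hd₀1 hf
      obtain ⟨f', rfl⟩ := Nat.exists_eq_succ_of_ne_zero hf0
      have hw1 : d₀ ^ 2 ^ f' ≠ 1 := by
        apply pow_ne_one_of_lt_orderOf (by positivity)
        rw [hf]
        exact Nat.pow_lt_pow_right (by norm_num) (by omega)
      have hw2 : (d₀ ^ 2 ^ f') ^ 2 = 1 := by
        rw [← pow_mul, ← pow_succ, ← hf]
        exact pow_orderOf_eq_one d₀
      have hwmem : d₀ ^ 2 ^ f' ∈ commutator X := pow_mem hd₀ _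
      obtain ⟨t, ht⟩ := hpowers _ (S.hcomm hwmem)
      rw [ht] at hw1 hw2 hwmem
      have hdvd : 2 ^ (k + 2) ∣ t * 2 := by
        rw [← he]
        apply orderOf_dvd_of_pow_eq_one
        rw [pow_mul]
        exact hw2
      have hdvd' : 2 ^ (k + 1) ∣ t := by
        rw [pow_succ] at hdvd
        exact Nat.dvd_of_mul_dvd_mul_right (by norm_num) hdvd
      obtain ⟨t', rfl⟩ := hdvd'
      rcases Nat.even_or_odd' t' with ⟨u, rfl | rfl⟩
      · exfalso
        apply hw1
        have e1 : 2 ^ (k + 1) * (2 * u) = 2 ^ (k + 2) * u := by ring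
        rw [e1, pow_mul, hz2, one_pow]
      · have e1 : 2 ^ (k + 1) * (2 * u + 1) = 2 ^ (k + 2) * u + 2 ^ (k + 1) := by ring
        rw [e1, pow_add, pow_mul, hz2, one_pow, one_mul] at hwmem
        exact hwmem
    -- the power map is a homomorphism
    have hdk : ∀ d ∈ commutator X, d ^ 2 ^ k = 1 := by
      intro d hd
      obtain ⟨s, rfl⟩ := hA1 d hd
      have e1 : 4 * s * 2 ^ k = 2 ^ (k + 2) * s := by ring
      rw [← pow_mul, e1, pow_mul, hz2, one_pow]
    let π : X →* X := MonoidHom.mk' (fun x => x ^ 2 ^ (k + 1)) (by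
      intro x y
      show (x * y) ^ 2 ^ (k + 1) = x ^ 2 ^ (k + 1) * y ^ 2 ^ (k + 1)
      rw [mul_pow_class_two x y (hcc y x x) (hcc y x y) (2 ^ (k + 1))]
      have e1 : 2 ^ (k + 1) * (2 ^ (k + 1) - 1) / 2 = 2 ^ k * (2 ^ (k + 1) - 1) := by
        rw [pow_succ 2 k, mul_comm (2 ^ k) 2, mul_assoc,
          Nat.mul_div_cancel_left _ (by norm_num : 0 < 2)]
      rw [e1, pow_mul, hdk _ (hcm y x), one_pow, mul_one])
    have hπ : ∀ x, π x = x ^ 2 ^ (k + 1) := fun x => rfl
    have hKtop : (commutator X).comap π = ⊤ := S.gen ((commutator X).comap π) (by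
      intro y hy
      rw [Subgroup.mem_comap] at hy ⊢
      rw [hπ, ← map_pow]
      exact hchar _ hy) a (by rw [Subgroup.mem_comap]; exact hzmem) haM
    have hall : ∀ x : X, x ^ 2 ^ (k + 1) ∈ commutator X := by
      intro x
      have : x ∈ (commutator X).comap π := by rw [hKtop]; trivial
      exact this
    have hπβ : ∀ x, π (β x) = π x := by
      intro x
      rw [hπ, hπ, ← map_pow]
      exact hfix _ (hall x)
    exact hz1 (S.triv π hπβ a)

end M2Setup

end Meta2Aut

end Cfsg.Agent.Lib.Helper11
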