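import Mathlib
import Cfsg.Prelude.Def_Transfer
import Cfsg.Agent.S1894
import Cfsg.Agent.Lib.Helper2.CyclicMax
import Cfsg.Agent.Lib.Helper2.MaxClass
import Cfsg.Agent.Lib.Helper21.PGroup
import Cfsg.Agent.Lib.Lead.UniqueSubgroup

/-!
A finite `2`-group containing an elementary abelian subgroup of order greater than `4` has a
normal four-subgroup.
-/

set_option autoImplicit false

namespace Cfsg.Agent.Lib.Helper11

universe u

theorem two_pow_mul_cast (k c : ℕ) :
    ((2 ^ k * c : ℕ) : ZMod (2 ^ (k + 1))) = 0 ∨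
      ((2 ^ k * c : ℕ) : ZMod (2 ^ (k + 1))) = ((2 ^ k : ℕ) : ZMod (2 ^ (k + 1))) := by
  have h0 : ((2 ^ k * 2 : ℕ) : ZMod (2 ^ (k + 1))) = 0 := by
    rw [← pow_succ]; exact ZMod.natCast_self _
  rcases Nat.even_or_odd' c with ⟨d, rfl | rfl⟩
  · left
    have : 2 ^ k * (2 * d) = (2 ^ k * 2) * d := by ring
    rw [this, Nat.cast_mul, h0, zero_mul]
  · right
    have : 2 ^ k * (2 * d + 1) = (2 ^ k * 2) * d + 2 ^ k := by ring
    rw [this, Nat.cast_add, Nat.cast_mul, h0, zero_mul, zero_add]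

theorem sqrt_one_zmod (k r : ℕ) (hk : 1 ≤ k) (h : r ^ 2 ≡ 1 [MOD 2 ^ (k + 1)]) :
    (r : ZMod (2 ^ (k + 1))) = 1 ∨
    (r : ZMod (2 ^ (k + 1))) = 1 + ((2 ^ k : ℕ) : ZMod (2 ^ (k + 1))) ∨
    (r : ZMod (2 ^ (k + 1))) = -1 ∨
    (r : ZMod (2 ^ (k + 1))) = -1 + ((2 ^ k : ℕ) : ZMod (2 ^ (k + 1))) := by
  rcases Cfsg.Agent.Lib.Helper2.sq_modEq_one_two_pow k r hk h with ⟨t, rfl, c, hc⟩ | ⟨t, rfl, c, hc⟩
  · have h1 : ((4 * t + 1 : ℕ) : ZMod (2 ^ (k + 1))) = 1 + ((4 * t : ℕ) : ZMod (2 ^ (k + 1))) := by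
      push_cast; ring
    rcases two_pow_mul_cast k c with h0 | h0
    · left; rw [h1, hc, h0, add_zero]
    · right; left; rw [h1, hc, h0]
  · have h1 : ((4 * t + 3 : ℕ) : ZMod (2 ^ (k + 1))) =
        -1 + ((4 * (t + 1) : ℕ) : ZMod (2 ^ (k + 1))) := by
      push_cast; ring
    rcases two_pow_mul_cast k c with h0 | h0
    · right; right; left; rw [h1, hc, h0, add_zero]
    · right; right; right; rw [h1, hc, h0]

theorem zmod_two_aux : ∀ x : ZMod 2, x ^ 2 = 1 → x ≠ 1 → False := by decide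

theorem zmod_four_aux : ∀ x y : ZMod 4, x ^ 2 = 1 → y ^ 2 = 1 → x ≠ 1 → y ≠ 1 → x * y ≠ 1 →
    False := by decide

theorem exists_one_add_half (n r₁ r₂ : ℕ)
    (h1 : r₁ ^ 2 ≡ 1 [MOD 2 ^ n]) (h2 : r₂ ^ 2 ≡ 1 [MOD 2 ^ n])
    (n1 : ¬ r₁ ≡ 1 [MOD 2 ^ n]) (n2 : ¬ r₂ ≡ 1 [MOD 2 ^ n])
    (n12 : ¬ r₁ * r₂ ≡ 1 [MOD 2 ^ n]) :
    ∃ k, n = k + 1 ∧ 2 ≤ k ∧ (r₁ ≡ 1 + 2 ^ k [MOD 2 ^ (k + 1)] ∨
      r₂ ≡ 1 + 2 ^ k [MOD 2 ^ (k + 1)] ∨ r₁ * r₂ ≡ 1 + 2 ^ k [MOD 2 ^ (k + 1)]) := by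
  rcases Nat.eq_zero_or_pos n with rfl | hnpos
  · exfalso; apply n1; rw [pow_zero]; exact Nat.modEq_one
  obtain ⟨k, rfl⟩ := Nat.exists_eq_succ_of_ne_zero hnpos.ne'
  refine ⟨k, rfl, ?_⟩
  have hx2 : ((r₁ : ℕ) : ZMod (2 ^ (k + 1))) ^ 2 = 1 := by
    have := (ZMod.natCast_eq_natCast_iff _ _ _).mpr h1
    push_cast at this; exact this
  have hy2 : ((r₂ : ℕ) : ZMod (2 ^ (k + 1))) ^ 2 = 1 := by
    have := (ZMod.natCast_eq_natCast_iff _ _ _).mpr h2
    push_cast at this; exact this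
  have hx1 : ((r₁ : ℕ) : ZMod (2 ^ (k + 1))) ≠ 1 := by
    intro h; apply n1; apply (ZMod.natCast_eq_natCast_iff _ _ _).mp; push_cast; exact h
  have hy1 : ((r₂ : ℕ) : ZMod (2 ^ (k + 1))) ≠ 1 := by
    intro h; apply n2; apply (ZMod.natCast_eq_natCast_iff _ _ _).mp; push_cast; exact h
  have hxy1 : ((r₁ : ℕ) : ZMod (2 ^ (k + 1))) * ((r₂ : ℕ) : ZMod (2 ^ (k + 1))) ≠ 1 := by
    intro h; apply n12; apply (ZMod.natCast_eq_natCast_iff _ _ _).mp; push_cast; exact h
  have back : ∀ r : ℕ, ((r : ℕ) : ZMod (2 ^ (k + 1))) = 1 + ((2 ^ k : ℕ) : ZMod (2 ^ (k + 1))) →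
      r ≡ 1 + 2 ^ k [MOD 2 ^ (k + 1)] := by
    intro r h; apply (ZMod.natCast_eq_natCast_iff _ _ _).mp; push_cast; push_cast at h; exact h
  rcases Nat.lt_or_ge k 2 with hk | hk
  · exfalso
    obtain rfl | rfl : k = 0 ∨ k = 1 := by omega
    · exact zmod_two_aux _ hx2 hx1
    · exact zmod_four_aux _ _ hx2 hy2 hx1 hy1 hxy1
  refine ⟨hk, ?_⟩
  obtain ⟨m, hm⟩ : ∃ m : ZMod (2 ^ (k + 1)), m = ((2 ^ k : ℕ) : ZMod (2 ^ (k + 1))) := ⟨_, rfl⟩
  have hmm : m + m = 0 := by
    rw [hm, ← Nat.cast_add, ← mul_two, ← pow_succ]; exact ZMod.natCast_self _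
  have hm2 : m * m = 0 := by
    rw [hm, ← Nat.cast_mul]
    have : 2 ^ k * 2 ^ k = 2 ^ (k + 1) * 2 ^ (k - 1) := by
      rw [← pow_add, ← pow_add]; congr 1; omega
    rw [this, Nat.cast_mul, ZMod.natCast_self, zero_mul]
  have hneg : -m = m := by
    have : -m = -m + (m + m) := by rw [hmm, add_zero]
    rw [this]; ring
  have hx := sqrt_one_zmod k r₁ (by omega) h1
  have hy := sqrt_one_zmod k r₂ (by omega) h2
  rw [← hm] at hx hy
  rcases hx with hx | hx | hx | hx
  · exact absurd hx hx1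
  · left; exact back r₁ (by rw [hx, hm])
  · rcases hy with hy | hy | hy | hy
    · exact absurd hy hy1
    · right; left; exact back r₂ (by rw [hy, hm])
    · exfalso; apply hxy1; rw [hx, hy]; ring
    · right; right; apply back; rw [Nat.cast_mul, hx, hy, ← hm]
      have : (-1 : ZMod (2 ^ (k + 1))) * (-1 + m) = 1 + -m := by ring
      rw [this, hneg]
  · rcases hy with hy | hy | hy | hy
    · exact absurd hy hy1
    · right; left; exact back r₂ (by rw [hy, hm])
    · right; right; apply back; rw [Nat.cast_mul, hx, hy, ← hm]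
      have : (-1 + m) * (-1 : ZMod (2 ^ (k + 1))) = 1 + -m := by ring
      rw [this, hneg]
    · exfalso; apply hxy1; rw [hx, hy]
      have : (-1 + m) * (-1 + m) = 1 - (m + m) + m * m := by ring
      rw [this, hmm, hm2]; ring

theorem card_le_four_of_forall {R : Type*} [Group R] (E : Subgroup R) (a b c d : R)
    (h : ∀ x ∈ E, x = a ∨ x = b ∨ x = c ∨ x = d) : Nat.card E ≤ 4 := by
  classical
  have hsub : (E : Set R) ⊆ (({a, b, c, d} : Finset R) : Set R) := by
    intro x hx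
    have := h x hx
    simp only [Finset.coe_insert, Finset.coe_singleton, Set.mem_insert_iff,
      Set.mem_singleton_iff]
    exact this
  have h1 : Nat.card E = (E : Set R).ncard := Nat.card_coe_set_eq _
  rw [h1]
  calc (E : Set R).ncard ≤ ((({a, b, c, d} : Finset R) : Set R)).ncard :=
        Set.ncard_le_ncard hsub (Finset.finite_toSet _)
    _ = ({a, b, c, d} : Finset R).card := Set.ncard_coe_finset _
    _ ≤ 4 := Finset.card_le_four

theorem four_subgroup {R : Type*} [Group R] (z e : R) (hz : z * z = 1) (he : e * e = 1)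
    (hez : e * z = z * e) :
    ∃ V : Subgroup R, (∀ x, x ∈ V ↔ (x = 1 ∨ x = z ∨ x = e ∨ x = e * z)) ∧
      Cfsg.IsElementaryAbelian 2 V := by
  have hze : z * e = e * z := hez.symm
  have hzz' : ∀ x, z * (z * x) = x := fun x => by rw [← mul_assoc, hz, one_mul]
  have hee' : ∀ x, e * (e * x) = x := fun x => by rw [← mul_assoc, he, one_mul]
  have hze' : ∀ x, z * (e * x) = e * (z * x) := fun x => by rw [← mul_assoc, hze, mul_assoc]
  have hsq : ∀ x, (x = 1 ∨ x = z ∨ x = e ∨ x = e * z) → x * x = 1 := by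
    rintro x (h | h | h | h) <;> rw [h] <;> simp [mul_assoc, hz, he, hze, hzz', hee', hze']
  let V : Subgroup R :=
    { carrier := {x | x = 1 ∨ x = z ∨ x = e ∨ x = e * z}
      mul_mem' := by
        intro x y hx hy
        rcases hx with h | h | h | h <;> rcases hy with h' | h' | h' | h' <;>
          simp only [Set.mem_ofPred_eq, h, h'] <;>
          simp [mul_assoc, hz, he, hze, hzz', hee', hze']
      one_mem' := Or.inl rfl
      inv_mem' := by
        intro x hx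
        have := hsq x hx
        rw [Set.mem_ofPred_eq, inv_eq_of_mul_eq_one_left this]
        exact hx }
  refine ⟨V, fun x => Iff.rfl, ?_, ?_⟩
  · refine ⟨⟨fun x y => Subtype.ext ?_⟩⟩
    have hx := hsq x.1 x.2
    have hy := hsq y.1 y.2
    have hxy := hsq (x.1 * y.1) (V.mul_mem x.2 y.2)
    show (x : R) * y = y * x
    rw [eq_inv_of_mul_eq_one_left hxy, mul_inv_rev, inv_eq_of_mul_eq_one_left hx,
      inv_eq_of_mul_eq_one_left hy]
  · intro x hx
    rw [pow_two]; exact hsq x hx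

theorem card_four_subgroup {R : Type*} [Group R] (V : Subgroup R) (z e : R)
    (hV : ∀ x, x ∈ V ↔ (x = 1 ∨ x = z ∨ x = e ∨ x = e * z)) (hz : z * z = 1) (hz1 : z ≠ 1)
    (he1 : e ≠ 1) (hez : e ≠ z) : Nat.card V = 4 := by
  classical
  have hset : (V : Set R) = (({1, z, e, e * z} : Finset R) : Set R) := by
    ext x
    simp only [Finset.coe_insert, Finset.coe_singleton, Set.mem_insert_iff,
      Set.mem_singleton_iff, SetLike.mem_coe]
    exact hV x
  have h1 : Nat.card V = (V : Set R).ncard := Nat.card_coe_set_eq _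
  rw [h1, hset, Set.ncard_coe_finset]
  have n1 : e ∉ ({e * z} : Finset R) := by
    rw [Finset.mem_singleton]
    intro h
    apply hz1
    have : e * z = e * 1 := by rw [mul_one]; exact h.symm
    exact mul_left_cancel this
  have n2 : z ∉ ({e, e * z} : Finset R) := by
    rw [Finset.mem_insert, Finset.mem_singleton]
    rintro (h | h)
    · exact hez h.symm
    · apply he1
      have : e * z = 1 * z := by rw [one_mul]; exact h.symm
      exact mul_right_cancel this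
  have n3 : (1 : R) ∉ ({z, e, e * z} : Finset R) := by
    rw [Finset.mem_insert, Finset.mem_insert, Finset.mem_singleton]
    rintro (h | h | h)
    · exact hz1 h.symm
    · exact he1 h.symm
    · apply hez
      have : e * z = z * z := by rw [hz]; exact h.symm
      exact mul_right_cancel this
  rw [Finset.card_insert_of_notMem n3, Finset.card_insert_of_notMem n2,
    Finset.card_insert_of_notMem n1, Finset.card_singleton]

theorem isCyclic_of_uniqP_two_comm {A : Type u} [Group A] [Finite A] (hA : IsPGroup 2 A)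
    (hU : Cfsg.Agent.Lib.Lead.UniqP 2 A) (hc : ∀ x y : A, x * y = y * x) : IsCyclic A := by
  have : Fact (Nat.Prime 2) := ⟨Nat.prime_two⟩
  rcases Cfsg.Agent.Lib.Lead.uniqP_cyclic_or_quaternion 2 hA hU with h | ⟨-, n, ⟨e⟩⟩
  · exact h
  · rcases Nat.eq_zero_or_pos n with rfl | hn
    · have h1 : IsCyclic (QuaternionGroup (2 ^ 0)) := by
        rw [pow_zero]; exact QuaternionGroup.quaternionGroup_one_isCyclic
      exact isCyclic_of_surjective e.symm e.symm.surjective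
    · exfalso
      have h1 := hc (e.symm (QuaternionGroup.a 1)) (e.symm (QuaternionGroup.xa 0))
      rw [← map_mul, ← map_mul] at h1
      have h2 := e.symm.injective h1
      rw [QuaternionGroup.a_mul_xa, QuaternionGroup.xa_mul_a] at h2
      have h3 : (0 - 1 : ZMod (2 * 2 ^ n)) = 0 + 1 := by injection h2
      have h4 : ((2 : ℕ) : ZMod (2 * 2 ^ n)) = 0 := by
        push_cast; linear_combination (-1 : ZMod (2 * 2 ^ n)) * h3
      have h5 := (ZMod.natCast_eq_zero_iff 2 (2 * 2 ^ n)).mp h4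
      have h6 := Nat.le_of_dvd (by norm_num) h5
      have h7 : 2 ^ 1 ≤ 2 ^ n := Nat.pow_le_pow_right (by norm_num) hn
      omega

theorem exists_normal_four_of_cyclic {R : Type*} [Group R] [Finite R]
    (A : Subgroup R) (hAn : A.Normal) (a : R) (hA : A = Subgroup.zpowers a)
    (hcent : Subgroup.centralizer (A : Set R) = A) (n : ℕ) (hn : orderOf a = 2 ^ n)
    (E : Subgroup R) (hE : Cfsg.IsElementaryAbelian 2 E) (hEc : 4 < Nat.card E) :
    ∃ V : Subgroup R, V.Normal ∧ Cfsg.IsElementaryAbelian 2 V ∧ Nat.card V = 2 ^ 2 := by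
  obtain ⟨hEcomm, hEexp⟩ := hE
  have haA : a ∈ A := by rw [hA]; exact Subgroup.mem_zpowers a
  have hpow : ∀ b ∈ A, ∃ i : ℕ, a ^ i = b := by
    intro b hb
    rw [hA] at hb
    exact (Submonoid.mem_powers_iff _ _).mp (mem_powers_iff_mem_zpowers.mpr hb)
  have hcen : ∀ g : R, g * a * g⁻¹ = a → g ∈ A := by
    intro g hg
    rw [← hcent, Subgroup.mem_centralizer_iff]
    intro h hh
    rw [SetLike.mem_coe, hA] at hh
    obtain ⟨i, rfl⟩ := Subgroup.mem_zpowers_iff.mp hh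
    have hc : Commute a g := (eq_mul_of_mul_inv_eq hg).symm
    exact (hc.zpow_left i).eq
  have hconj : ∀ g : R, ∃ r : ℕ, g * a * g⁻¹ = a ^ r := by
    intro g
    obtain ⟨r, hr⟩ := hpow _ (hAn.conj_mem a haA g)
    exact ⟨r, hr.symm⟩
  have hEsq : ∀ e ∈ E, e * e = 1 := fun e he => by rw [← pow_two]; exact hEexp e he
  have hEinv : ∀ e ∈ E, e⁻¹ = e := fun e he => inv_eq_of_mul_eq_one_left (hEsq e he)
  -- the involution candidates of A
  have hinvA : ∃ z₀ : R, ∀ x ∈ A, x * x = 1 → x = 1 ∨ x = z₀ := by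
    refine ⟨a ^ (2 ^ n / 2), ?_⟩
    intro x hx hxx
    obtain ⟨i, rfl⟩ := hpow x hx
    rw [← pow_add] at hxx
    have hdvd : 2 ^ n ∣ i + i := by rw [← hn]; exact orderOf_dvd_of_pow_eq_one hxx
    rcases Nat.eq_zero_or_pos n with rfl | hnpos
    · left
      have : orderOf a = 1 := by rw [hn, pow_zero]
      rw [orderOf_eq_one_iff.mp this, one_pow]
    · obtain ⟨k, rfl⟩ := Nat.exists_eq_succ_of_ne_zero hnpos.ne'
      have h2 : 2 ^ (k + 1) / 2 = 2 ^ k := by rw [pow_succ]; simp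
      rw [h2]
      have hdvd' : 2 ^ k ∣ i := by
        have : 2 ^ k * 2 ∣ i * 2 := by rw [← pow_succ, mul_two]; exact hdvd
        exact Nat.dvd_of_mul_dvd_mul_right (by norm_num) this
      obtain ⟨c, rfl⟩ := hdvd'
      rw [pow_mul]
      have hz2 : (a ^ 2 ^ k) ^ 2 = 1 := by
        rw [← pow_mul, ← pow_succ, ← hn]; exact pow_orderOf_eq_one a
      rcases Nat.even_or_odd' c with ⟨d, rfl | rfl⟩
      · left; rw [pow_mul, hz2, one_pow]
      · right; rw [pow_succ, pow_mul, hz2, one_pow, one_mul]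
  obtain ⟨z₀, hz₀⟩ := hinvA
  -- two independent elements outside A
  have hex : ∃ e₁ ∈ E, ∃ e₂ ∈ E, e₁ ∉ A ∧ e₂ ∉ A ∧ e₁ * e₂ ∉ A := by
    by_contra hcon
    push Not at hcon
    by_cases hEA : ∀ x ∈ E, x ∈ A
    · have : Nat.card E ≤ 4 := card_le_four_of_forall E 1 z₀ 1 z₀ (fun x hx => by
        rcases hz₀ x (hEA x hx) (hEsq x hx) with h | h
        · exact Or.inl h
        · exact Or.inr (Or.inl h))
      omega
    · push Not at hEA
      obtain ⟨e₁, he₁, he₁A⟩ := hEA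
      have : Nat.card E ≤ 4 := card_le_four_of_forall E 1 z₀ e₁ (e₁ * z₀) (fun x hx => by
        by_cases hxA : x ∈ A
        · rcases hz₀ x hxA (hEsq x hx) with h | h
          · exact Or.inl h
          · exact Or.inr (Or.inl h)
        · have h1 := hcon e₁ he₁ x hx he₁A hxA
          have h2 : (e₁ * x) * (e₁ * x) = 1 := hEsq _ (E.mul_mem he₁ hx)
          rcases hz₀ _ h1 h2 with h | h
          · right; right; left
            rw [← hEinv e₁ he₁]; exact eq_inv_of_mul_eq_one_right h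
          · right; right; right
            rw [← h, ← mul_assoc, hEsq e₁ he₁, one_mul])
      omega
  obtain ⟨e₁, he₁, e₂, he₂, h1A, h2A, h12A⟩ := hex
  obtain ⟨r₁, hr₁⟩ := hconj e₁
  obtain ⟨r₂, hr₂⟩ := hconj e₂
  have hcp : ∀ (g : R) (r s : ℕ), g * a * g⁻¹ = a ^ r → g * a ^ s * g⁻¹ = a ^ (r * s) := by
    intro g r s h
    rw [← conj_pow, h, ← pow_mul]
  have hsqmod : ∀ e ∈ E, ∀ r : ℕ, e * a * e⁻¹ = a ^ r → r ^ 2 ≡ 1 [MOD 2 ^ n] := by
    intro e he r hr
    have h1 : e * a ^ r * e⁻¹ = a ^ (r * r) := hcp e r r hr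
    have h2 : e * a ^ r * e⁻¹ = a := by
      rw [← hr, hEinv e he]
      calc e * (e * a * e) * e = (e * e) * a * (e * e) := by group
        _ = a := by rw [hEsq e he, one_mul, mul_one]
    rw [← hn, ← pow_eq_pow_iff_modEq, pow_one, pow_two, ← h1, h2]
  have hne : ∀ g : R, g ∉ A → ∀ r : ℕ, g * a * g⁻¹ = a ^ r → ¬ r ≡ 1 [MOD 2 ^ n] := by
    intro g hg r hr hmod
    apply hg
    apply hcen
    rw [hr]
    have := (pow_eq_pow_iff_modEq (x := a) (n := r) (m := 1)).mpr (by rw [hn]; exact hmod)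
    exact this.trans (pow_one a)
  have hm1 := hsqmod e₁ he₁ r₁ hr₁
  have hm2 := hsqmod e₂ he₂ r₂ hr₂
  have hn1 := hne e₁ h1A r₁ hr₁
  have hn2 := hne e₂ h2A r₂ hr₂
  have hr12 : (e₁ * e₂) * a * (e₁ * e₂)⁻¹ = a ^ (r₁ * r₂) := by
    rw [mul_inv_rev]
    calc e₁ * e₂ * a * (e₂⁻¹ * e₁⁻¹) = e₁ * (e₂ * a * e₂⁻¹) * e₁⁻¹ := by group
      _ = a ^ (r₁ * r₂) := by rw [hr₂]; exact hcp e₁ r₁ r₂ hr₁
  have hn12 := hne (e₁ * e₂) h12A (r₁ * r₂) hr12
  obtain ⟨k, rfl, hk2, hcase⟩ := exists_one_add_half n r₁ r₂ hm1 hm2 hn1 hn2 hn12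
  -- the special element e
  obtain ⟨e, he, heA, hea⟩ : ∃ e ∈ E, e ∉ A ∧ e * a * e⁻¹ = a ^ (1 + 2 ^ k) := by
    rcases hcase with h | h | h
    · exact ⟨e₁, he₁, h1A, by rw [hr₁]; exact (pow_eq_pow_iff_modEq).mpr (by rw [hn]; exact h)⟩
    · exact ⟨e₂, he₂, h2A, by rw [hr₂]; exact (pow_eq_pow_iff_modEq).mpr (by rw [hn]; exact h)⟩
    · exact ⟨e₁ * e₂, E.mul_mem he₁ he₂, h12A, by
        rw [hr12]; exact (pow_eq_pow_iff_modEq).mpr (by rw [hn]; exact h)⟩
  obtain ⟨z, hzdef⟩ : ∃ z, z = a ^ (2 ^ k) := ⟨_, rfl⟩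
  have hzA : z ∈ A := by rw [hzdef]; exact A.pow_mem haA _
  have hzz : z * z = 1 := by
    rw [hzdef, ← pow_add, ← two_mul, ← pow_succ', ← hn]; exact pow_orderOf_eq_one a
  have hz1 : z ≠ 1 := by
    rw [hzdef]
    apply pow_ne_one_of_lt_orderOf (by positivity)
    rw [hn]; exact Nat.pow_lt_pow_right (by norm_num) (by omega)
  have hea' : e * a * e⁻¹ = a * z := by rw [hea, pow_add, pow_one, hzdef]
  have hee : e * e = 1 := hEsq e he
  have heinv : e⁻¹ = e := hEinv e he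
  have hinv : ∀ x ∈ A, x * x = 1 → x = 1 ∨ x = z := by
    intro x hx hxx
    rcases hz₀ z hzA hzz with h | h
    · exact absurd h hz1
    · rw [h]; exact hz₀ x hx hxx
  have hzc : ∀ g : R, g * z * g⁻¹ = z := by
    intro g
    have h1 : g * z * g⁻¹ ∈ A := hAn.conj_mem z hzA g
    have h2 : (g * z * g⁻¹) * (g * z * g⁻¹) = 1 := by
      rw [conj_mul, hzz, mul_one, mul_inv_cancel]
    rcases hinv _ h1 h2 with h | h
    · exfalso; apply hz1
      have : z = g⁻¹ * (g * z * g⁻¹) * g := by group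
      rw [this, h]; group
    · exact h
  have hzcomm : ∀ g : R, g * z = z * g := fun g => eq_mul_of_mul_inv_eq (hzc g)
  have hzpow : ∀ s : ℕ, z ^ s = 1 ∨ z ^ s = z := by
    intro s
    have hz2 : z ^ 2 = 1 := by rw [pow_two]; exact hzz
    rcases Nat.even_or_odd' s with ⟨d, rfl | rfl⟩
    · left; rw [pow_mul, hz2, one_pow]
    · right; rw [pow_succ, pow_mul, hz2, one_pow, one_mul]
  have haz : Commute a z := hzcomm a
  have heapow : ∀ s : ℕ, e * a ^ s * e⁻¹ = a ^ s * z ^ s := by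
    intro s
    rw [← conj_pow, hea', haz.mul_pow]
  -- conjugates of e
  have hconj_e : ∀ g : R, g * e * g⁻¹ = e ∨ g * e * g⁻¹ = e * z := by
    intro g
    obtain ⟨s, hs⟩ := hpow _ (hAn.conj_mem a haA g⁻¹)
    rw [inv_inv] at hs
    have h1 : (g * e * g⁻¹) * a * (g * e * g⁻¹)⁻¹ = a * z ^ s := by
      have : (g * e * g⁻¹) * a * (g * e * g⁻¹)⁻¹ = g * (e * (g⁻¹ * a * g) * e⁻¹) * g⁻¹ := by
        group
      rw [this, ← hs, heapow s, hs]
      have hzs : g * z ^ s * g⁻¹ = z ^ s := by rw [← conj_pow, hzc]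
      calc g * (g⁻¹ * a * g * z ^ s) * g⁻¹ = a * (g * z ^ s * g⁻¹) := by group
        _ = a * z ^ s := by rw [hzs]
    have h2 : (g * e * g⁻¹) * a * (g * e * g⁻¹)⁻¹ = a * z := by
      rcases hzpow s with h | h
      · exfalso
        rw [h, mul_one] at h1
        have h3 := hcen _ h1
        apply heA
        have : e = g⁻¹ * (g * e * g⁻¹) * g⁻¹⁻¹ := by group
        rw [this]
        exact hAn.conj_mem _ h3 g⁻¹
      · rw [h1, h]
    obtain ⟨c, hc⟩ : ∃ c, c = g * e * g⁻¹ := ⟨_, rfl⟩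
    rw [← hc] at h2 ⊢
    have hcc : c * c = 1 := by rw [hc, conj_mul, hee, mul_one, mul_inv_cancel]
    have hbA : e * c ∈ A := by
      apply hcen
      have h3 : e * c * a * (e * c)⁻¹ = e * (c * a * c⁻¹) * e⁻¹ := by group
      rw [h3, h2]
      have h4 : e * (a * z) * e⁻¹ = (e * a * e⁻¹) * (e * z * e⁻¹) := by group
      rw [h4, hea', hzc e, mul_assoc, hzz, mul_one]
    obtain ⟨i, hi⟩ := hpow _ hbA
    have hcb : c = e * a ^ i := by rw [hi, ← mul_assoc, hee, one_mul]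
    have h3 : a ^ i * a ^ i * z ^ i = 1 := by
      have h4 : e * a ^ i * e = a ^ i * z ^ i := by
        have := heapow i; rwa [heinv] at this
      have hzic : a ^ i * z ^ i = z ^ i * a ^ i := (haz.pow_pow i i).eq
      calc a ^ i * a ^ i * z ^ i = a ^ i * (a ^ i * z ^ i) := mul_assoc _ _ _
        _ = a ^ i * (z ^ i * a ^ i) := by rw [hzic]
        _ = a ^ i * z ^ i * a ^ i := (mul_assoc _ _ _).symm
        _ = (e * a ^ i * e) * a ^ i := by rw [h4]
        _ = (e * a ^ i) * (e * a ^ i) := by group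
        _ = 1 := by rw [← hcb]; exact hcc
    rcases Nat.even_or_odd' i with ⟨d, hd | hd⟩
    · have hzi : z ^ i = 1 := by rw [hd, pow_mul, pow_two, hzz, one_pow]
      rw [hzi, mul_one] at h3
      rcases hinv _ (A.pow_mem haA i) h3 with h | h
      · left; rw [hcb, h, mul_one]
      · right; rw [hcb, h]
    · exfalso
      have hzi : z ^ i = z := by rw [hd, pow_succ, pow_mul, pow_two, hzz, one_pow, one_mul]
      rw [hzi] at h3
      have h5 : a ^ (i + i) = a ^ (2 ^ k) := by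
        rw [pow_add, ← hzdef]
        have : a ^ i * a ^ i = z⁻¹ := eq_inv_of_mul_eq_one_left h3
        rw [this]; exact inv_eq_of_mul_eq_one_left hzz
      have h6 : i + i ≡ 2 ^ k [MOD 2 ^ (k + 1)] := by
        rw [← hn]; exact pow_eq_pow_iff_modEq.mp h5
      have h7 : i + i ≡ 2 ^ k [MOD 4] := h6.of_dvd (by
        have : (4 : ℕ) = 2 ^ 2 := by norm_num
        rw [this]; exact pow_dvd_pow 2 (by omega))
      have h8 : 2 ^ k % 4 = 0 := by
        apply Nat.mod_eq_zero_of_dvd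
        have : (4 : ℕ) = 2 ^ 2 := by norm_num
        rw [this]; exact pow_dvd_pow 2 hk2
      unfold Nat.ModEq at h7
      rw [h8] at h7
      omega
  obtain ⟨V, hV, hVea⟩ := four_subgroup z e hzz hee (hzcomm e)
  refine ⟨V, ?_, hVea, ?_⟩
  · constructor
    intro x hx g
    rw [hV] at hx ⊢
    rcases hx with h | h | h | h
    · left; rw [h]; group
    · right; left; rw [h]; exact hzc g
    · rw [h]
      rcases hconj_e g with h' | h'
      · right; right; left; exact h'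
      · right; right; right; exact h'
    · have h3 : g * (e * z) * g⁻¹ = (g * e * g⁻¹) * (g * z * g⁻¹) := by group
      rw [h, h3, hzc g]
      rcases hconj_e g with h' | h'
      · right; right; right; rw [h']
      · right; right; left; rw [h', mul_assoc, hzz, mul_one]
  · have he1 : e ≠ 1 := fun h => heA (h ▸ A.one_mem)
    have hez : e ≠ z := fun h => heA (h ▸ hzA)
    rw [card_four_subgroup V z e hV hzz hz1 he1 hez]; norm_num

/-- A finite `2`-group with an elementary abelian subgroup of order greater than `4` has a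
normal four-subgroup. -/
theorem exists_normal_four {R : Type u} [Group R] [Finite R] (hR : IsPGroup 2 R)
    (E : Subgroup R) (hE : Cfsg.IsElementaryAbelian 2 E) (hEc : 4 < Nat.card E) :
    ∃ V : Subgroup R, V.Normal ∧ Cfsg.IsElementaryAbelian 2 V ∧ Nat.card V = 2 ^ 2 := by
  have hp : Fact (Nat.Prime 2) := ⟨Nat.prime_two⟩
  have hnil : Group.IsNilpotent R := hR.isNilpotent
  have hbot : IsMulCommutative (⊥ : Subgroup R) :=
    ⟨⟨fun a b => Subtype.ext (by
      rw [Subgroup.coe_mul, Subgroup.coe_mul, Subgroup.mem_bot.mp a.2, Subgroup.mem_bot.mp b.2])⟩⟩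
  obtain ⟨A, hAn, -, -, -, hAC⟩ := Cfsg.Agent.S1894.result hR ⊤ ⊥ bot_le hbot
  have hcent : Subgroup.centralizer (A : Set R) = A := by rwa [top_inf_eq] at hAC
  have hAcomm : ∀ x ∈ A, ∀ y ∈ A, x * y = y * x := by
    intro x hx y hy
    have : y ∈ Subgroup.centralizer (A : Set R) := by rw [hcent]; exact hy
    exact Subgroup.mem_centralizer_iff.mp this x hx
  by_cases hU : Cfsg.Agent.Lib.Lead.UniqP 2 A
  · have hAc : IsCyclic A := isCyclic_of_uniqP_two_comm (hR.to_subgroup A) hU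
      (fun x y => Subtype.ext (hAcomm x x.2 y y.2))
    obtain ⟨a', ha'⟩ := hAc.exists_generator
    have hA : A = Subgroup.zpowers (a' : R) := by
      apply le_antisymm
      · intro m hm
        obtain ⟨i, hi⟩ := Subgroup.mem_zpowers_iff.mp (ha' ⟨m, hm⟩)
        exact Subgroup.mem_zpowers_iff.mpr ⟨i, by simpa using congrArg Subtype.val hi⟩
      · exact Subgroup.zpowers_le.mpr a'.2
    obtain ⟨n, hn⟩ : ∃ n, orderOf (a' : R) = 2 ^ n := by
      obtain ⟨j, hj⟩ := hR (a' : R)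
      obtain ⟨m, -, hm⟩ := (Nat.dvd_prime_pow Nat.prime_two).mp (orderOf_dvd_of_pow_eq_one hj)
      exact ⟨m, hm⟩
    exact exists_normal_four_of_cyclic A hAn a' hA hcent n hn E hE hEc
  · unfold Cfsg.Agent.Lib.Lead.UniqP at hU
    push Not at hU
    obtain ⟨x, y, hx, hy, hx1, hyx⟩ := hU
    let Ω : Subgroup R :=
      { carrier := {x | x ∈ A ∧ x ^ 2 = 1}
        mul_mem' := by
          rintro a b ⟨ha, hap⟩ ⟨hb, hbp⟩
          refine ⟨A.mul_mem ha hb, ?_⟩
          have hc : Commute a b := hAcomm a ha b hb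
          rw [hc.mul_pow, hap, hbp, one_mul]
        one_mem' := ⟨A.one_mem, one_pow 2⟩
        inv_mem' := by
          rintro a ⟨ha, hap⟩
          exact ⟨A.inv_mem ha, by rw [inv_pow, hap, inv_one]⟩ }
    have hΩmem : ∀ a, a ∈ Ω ↔ a ∈ A ∧ a ^ 2 = 1 := fun a => Iff.rfl
    have hΩn : Ω.Normal := by
      constructor
      intro a ha g
      exact ⟨hAn.conj_mem a ha.1 g, by rw [conj_pow, ha.2, mul_one, mul_inv_cancel]⟩
    have hxΩ : (x : R) ∈ Ω := ⟨x.2, by simpa using congrArg Subtype.val hx⟩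
    have hyΩ : (y : R) ∈ Ω := ⟨y.2, by simpa using congrArg Subtype.val hy⟩
    have hΩne : Ω ≠ ⊥ := by
      intro h
      rw [h, Subgroup.mem_bot] at hxΩ
      exact hx1 (Subtype.ext hxΩ)
    obtain ⟨z, hzΩ, hzc, hz1⟩ := Cfsg.Agent.Lib.Helper21.exists_mem_center_of_normal hR Ω hΩne
    have hzo : orderOf z = 2 := orderOf_eq_prime hzΩ.2 hz1
    have hZn : (Subgroup.zpowers z).Normal := by
      constructor
      intro n hn g
      have : g * n * g⁻¹ = n := by
        have hc := Subgroup.mem_center_iff.mp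
          ((Subgroup.zpowers_le.mpr hzc) hn) g
        rw [hc, mul_inv_cancel_right]
      rw [this]; exact hn
    have hΩZ : ¬ Ω ≤ Subgroup.zpowers z := by
      intro hle
      apply hyx
      have hxz : Subgroup.zpowers (x : R) = Subgroup.zpowers z := by
        apply Subgroup.eq_of_le_of_card_ge (Subgroup.zpowers_le.mpr (hle hxΩ))
        rw [Nat.card_zpowers, Nat.card_zpowers, hzo,
          orderOf_eq_prime hxΩ.2 (fun h => hx1 (Subtype.ext h))]
      have hyz : (y : R) ∈ Subgroup.zpowers (x : R) := by rw [hxz]; exact hle hyΩ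
      obtain ⟨i, hi⟩ := Subgroup.mem_zpowers_iff.mp hyz
      exact Subgroup.mem_zpowers_iff.mpr ⟨i, Subtype.ext (by simpa using hi)⟩
    obtain ⟨w, hwΩ, hwZ, hwc⟩ :=
      Cfsg.Agent.S1894.exists_mem_not_mem_comm Ω (Subgroup.zpowers z) hΩZ
    refine ⟨Subgroup.zpowers z ⊔ Subgroup.zpowers w,
      Cfsg.Agent.Lib.Helper2.normal_sup_of_commutator_le _ _ hwc, ?_, ?_⟩
    · have hle : Subgroup.zpowers z ⊔ Subgroup.zpowers w ≤ Ω :=
        sup_le (Subgroup.zpowers_le.mpr hzΩ) (Subgroup.zpowers_le.mpr hwΩ)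
      exact ⟨⟨⟨fun a b => Subtype.ext (hAcomm _ (hle a.2).1 _ (hle b.2).1)⟩⟩,
        fun a ha => (hle ha).2⟩
    · rw [Cfsg.Agent.Lib.Helper2.card_sup_zpowers_of_pow_mem (Subgroup.zpowers z) w 2 hwZ
        (by rw [hwΩ.2]; exact Subgroup.one_mem _), Nat.card_zpowers, hzo, sq]

end Cfsg.Agent.Lib.Helper11
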