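import Mathlib
import Cfsg.Agent.S0242
import Cfsg.Agent.Lib.Helper2.CharBurnside
import Cfsg.Agent.Lib.Helper11.PCores
import Cfsg.Agent.Lib.Helper11.FStarLocal
import Cfsg.Agent.Lib.Helper11.PConstrained

set_option autoImplicit false

namespace Cfsg.Agent.Lib.Helper11

section SL23

/-- The group `SL(2,3)`. -/
abbrev G3 := Matrix.SpecialLinearGroup (Fin 2) (ZMod 3)

theorem sl23_det (y : G3) : y 0 0 * y 1 1 - y 0 1 * y 1 0 = 1 := by
  have := y.det_coe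
  rwa [Matrix.det_fin_two] at this

theorem sl23_ext (y z : G3) (h00 : y 0 0 = z 0 0) (h01 : y 0 1 = z 0 1) (h10 : y 1 0 = z 1 0)
    (h11 : y 1 1 = z 1 1) : y = z := by
  ext i j; fin_cases i <;> fin_cases j <;> assumption

theorem sl23_mul (y z : G3) : (y * z) 0 0 = y 0 0 * z 0 0 + y 0 1 * z 1 0 ∧
    (y * z) 0 1 = y 0 0 * z 0 1 + y 0 1 * z 1 1 ∧
    (y * z) 1 0 = y 1 0 * z 0 0 + y 1 1 * z 1 0 ∧
    (y * z) 1 1 = y 1 0 * z 0 1 + y 1 1 * z 1 1 := by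
  simp [Matrix.SpecialLinearGroup.coe_mul, Matrix.mul_apply, Fin.sum_univ_two]

theorem sl23_one : (1 : G3) 0 0 = 1 ∧ (1 : G3) 0 1 = 0 ∧ (1 : G3) 1 0 = 0 ∧ (1 : G3) 1 1 = 1 := by
  simp

theorem sl23_neg_one :
    (-1 : G3) 0 0 = 2 ∧ (-1 : G3) 0 1 = 0 ∧ (-1 : G3) 1 0 = 0 ∧ (-1 : G3) 1 1 = 2 := by
  simp [Matrix.SpecialLinearGroup.coe_neg]
  decide

theorem sl23_neg_one_ne_one : (-1 : G3) ≠ 1 := by
  intro h
  have h1 := congrArg (fun y : G3 => y 0 0) h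
  simp only [sl23_neg_one.1, sl23_one.1] at h1
  exact absurd h1 (by decide)

/-- the element with given entries -/
def sl23mk (a b c d : ZMod 3) (h : a * d - b * c = 1) : G3 :=
  ⟨!![a, b; c, d], by rw [Matrix.det_fin_two_of]; exact h⟩

theorem sl23mk_apply (a b c d : ZMod 3) (h : a * d - b * c = 1) :
    sl23mk a b c d h 0 0 = a ∧ sl23mk a b c d h 0 1 = b ∧ sl23mk a b c d h 1 0 = c ∧
      sl23mk a b c d h 1 1 = d := by
  refine ⟨rfl, rfl, rfl, rfl⟩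

theorem zmod3_tr0 : ∀ a b c d : ZMod 3, a * d - b * c = 1 → a + d = 0 →
    (a * a + b * c = 2 ∧ a * b + b * d = 0 ∧ c * a + d * c = 0 ∧ c * b + d * d = 2) := by decide

theorem zmod3_tr1 : ∀ a b c d : ZMod 3, a * d - b * c = 1 → a + d = 1 →
    ((a * a + b * c) * a + (a * b + b * d) * c = 2 ∧ (a * a + b * c) * b + (a * b + b * d) * d = 0 ∧
      (c * a + d * c) * a + (c * b + d * d) * c = 0 ∧
      (c * a + d * c) * b + (c * b + d * d) * d = 2) := by decide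

theorem zmod3_cases : ∀ t : ZMod 3, t = 0 ∨ t = 1 ∨ t = 2 := by decide

/-- an element of odd order of `SL(2,3)` has trace `2` -/
theorem sl23_trace_of_odd (y : G3) (hy : Odd (orderOf y)) : y 0 0 + y 1 1 = 2 := by
  have hdet := sl23_det y
  have hneg : ∀ z : G3, z = -1 → z ^ orderOf y ≠ 1 := by
    intro z hz
    rw [hz, Odd.neg_one_pow hy]
    exact sl23_neg_one_ne_one
  rcases zmod3_cases (y 0 0 + y 1 1) with h | h | h
  · exfalso
    have h2 : y * y = -1 := by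
      obtain ⟨e1, e2, e3, e4⟩ := zmod3_tr0 _ _ _ _ hdet h
      obtain ⟨m1, m2, m3, m4⟩ := sl23_mul y y
      obtain ⟨n1, n2, n3, n4⟩ := sl23_neg_one
      apply sl23_ext
      · rw [m1, n1, e1]
      · rw [m2, n2, e2]
      · rw [m3, n3, e3]
      · rw [m4, n4, e4]
    apply hneg _ h2
    rw [← pow_two, ← pow_mul, mul_comm, pow_mul, pow_orderOf_eq_one, one_pow]
  · exfalso
    have h2 : y * y * y = -1 := by
      obtain ⟨e1, e2, e3, e4⟩ := zmod3_tr1 _ _ _ _ hdet h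
      obtain ⟨m1, m2, m3, m4⟩ := sl23_mul (y * y) y
      obtain ⟨k1, k2, k3, k4⟩ := sl23_mul y y
      obtain ⟨n1, n2, n3, n4⟩ := sl23_neg_one
      apply sl23_ext
      · rw [m1, k1, k2, n1, e1]
      · rw [m2, k1, k2, n2, e2]
      · rw [m3, k3, k4, n3, e3]
      · rw [m4, k3, k4, n4, e4]
    apply hneg _ h2
    have h3 : y * y * y = y ^ 3 := by rw [pow_succ, pow_two]
    rw [h3, ← pow_mul, mul_comm, pow_mul, pow_orderOf_eq_one, one_pow]
  · exact h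

theorem card_sl23 : Nat.card G3 = 24 := by
  have h1 := Cfsg.Agent.S0242.result (F := ZMod 3) (q := 3) (ZMod.card 3) 2 (by norm_num)
  rw [Fin.prod_univ_two] at h1
  have h2 : (3 - 1) * Nat.card G3 = (3 ^ 2 - 3 ^ 0) * (3 ^ 2 - 3 ^ 1) := h1
  omega

theorem sl23_solvable : Group.IsSolvable G3 :=
  Cfsg.Agent.Lib.Helper2.burnside_paqb 2 3 3 1 Nat.prime_two Nat.prime_three
    (by rw [card_sl23]; norm_num)

theorem zmod3_symp : ∀ a b c d : ZMod 3, a * d - b * c = 1 →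
    ((a * 0 + c * 2) * a + (a * 1 + c * 0) * c = 0 ∧ (a * 0 + c * 2) * b + (a * 1 + c * 0) * d = 1 ∧
      (b * 0 + d * 2) * a + (b * 1 + d * 0) * c = 2 ∧
      (b * 0 + d * 2) * b + (b * 1 + d * 0) * d = 0) := by decide

theorem zmod3_fin : ∀ a b c d : ZMod 3, a * d - b * c = 1 → a + d = 2 →
    a * a + b * b + (c * c + d * d) = 2 → a = 1 ∧ b = 0 ∧ c = 0 ∧ d = 1 := by decide

theorem zmod3_inv : ∀ a b c d : ZMod 3, a * d - b * c = 1 → a * a + b * c = 1 →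
    a * b + b * d = 0 → c * a + d * c = 0 → c * b + d * d = 1 →
    (a = 1 ∧ b = 0 ∧ c = 0 ∧ d = 1) ∨ (a = 2 ∧ b = 0 ∧ c = 0 ∧ d = 2) := by decide

/-- `O(SL(2,3)) = 1`. -/
theorem sl23_pPrimeCore : Cfsg.pPrimeCore 2 G3 = ⊥ := by
  rw [eq_bot_iff]
  intro x hx
  rw [Subgroup.mem_bot]
  have hOn := pPrimeCore_normal' (G := G3) 2
  have hodd : ∀ y ∈ Cfsg.pPrimeCore 2 G3, Odd (orderOf y) := by
    intro y hy
    have h1 : orderOf y ∣ Nat.card (Cfsg.pPrimeCore 2 G3) := by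
      have := orderOf_dvd_natCard (⟨y, hy⟩ : Cfsg.pPrimeCore 2 G3)
      rwa [Subgroup.orderOf_mk] at this
    exact Odd.of_dvd_nat (Nat.Coprime.odd_of_right (pPrimeCore_card_coprime (G := G3) 2)) h1
  have hdet := sl23_det x
  obtain ⟨w, hw⟩ : ∃ w : G3, w = sl23mk 0 1 2 0 (by decide) := ⟨_, rfl⟩
  obtain ⟨w1, w2, w3, w4⟩ := sl23mk_apply 0 1 2 0 (by decide)
  rw [← hw] at w1 w2 w3 w4
  have hdetT : x 0 0 * x 1 1 - x 1 0 * x 0 1 = 1 := by rw [mul_comm (x 1 0)]; exact hdet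
  obtain ⟨xT, hxT⟩ : ∃ xT : G3, xT = sl23mk (x 0 0) (x 1 0) (x 0 1) (x 1 1) hdetT := ⟨_, rfl⟩
  obtain ⟨t1, t2, t3, t4⟩ := sl23mk_apply (x 0 0) (x 1 0) (x 0 1) (x 1 1) hdetT
  rw [← hxT] at t1 t2 t3 t4
  have hsymp : xT * w * x = w := by
    obtain ⟨e1, e2, e3, e4⟩ := zmod3_symp _ _ _ _ hdet
    obtain ⟨m1, m2, m3, m4⟩ := sl23_mul (xT * w) x
    obtain ⟨k1, k2, k3, k4⟩ := sl23_mul xT w
    apply sl23_ext
    · rw [m1, k1, k2, t1, t2, w1, w2, w3, w4, e1]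
    · rw [m2, k1, k2, t1, t2, w1, w2, w3, w4, e2]
    · rw [m3, k3, k4, t3, t4, w1, w2, w3, w4, e3]
    · rw [m4, k3, k4, t3, t4, w1, w2, w3, w4, e4]
  have hxTO : xT ∈ Cfsg.pPrimeCore 2 G3 := by
    have h1 : xT = w * x⁻¹ * w⁻¹ := by
      rw [eq_mul_inv_iff_mul_eq, eq_mul_inv_iff_mul_eq]
      exact hsymp
    rw [h1]
    exact hOn.conj_mem _ (Subgroup.inv_mem _ hx) w
  have hs := sl23_trace_of_odd (x * xT) (hodd _ (Subgroup.mul_mem _ hx hxTO))
  obtain ⟨s1, -, -, s4⟩ := sl23_mul x xT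
  rw [s1, s4, t1, t2, t3, t4] at hs
  obtain ⟨f1, f2, f3, f4⟩ := zmod3_fin _ _ _ _ hdet (sl23_trace_of_odd x (hodd x hx)) hs
  obtain ⟨o1, o2, o3, o4⟩ := sl23_one
  apply sl23_ext
  · rw [f1, o1]
  · rw [f2, o2]
  · rw [f3, o3]
  · rw [f4, o4]

/-- every involution of `SL(2,3)` is central -/
theorem sl23_involution_central (t : G3) (ht : orderOf t = 2) : t ∈ Subgroup.center G3 := by
  have h1 : t * t = 1 := by
    have := pow_orderOf_eq_one t
    rw [ht, pow_two] at this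
    exact this
  have h2 : t ≠ 1 := by
    intro h
    rw [h, orderOf_one] at ht
    exact absurd ht (by norm_num)
  obtain ⟨o1, o2, o3, o4⟩ := sl23_one
  obtain ⟨n1, n2, n3, n4⟩ := sl23_neg_one
  have h3 : t = -1 := by
    obtain ⟨m1, m2, m3, m4⟩ := sl23_mul t t
    rw [h1] at m1 m2 m3 m4
    rw [o1] at m1
    rw [o2] at m2
    rw [o3] at m3
    rw [o4] at m4
    rcases zmod3_inv _ _ _ _ (sl23_det t) m1.symm m2.symm m3.symm m4.symm with
      ⟨e1, e2, e3, e4⟩ | ⟨e1, e2, e3, e4⟩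
    · exfalso
      apply h2
      apply sl23_ext
      · rw [e1, o1]
      · rw [e2, o2]
      · rw [e3, o3]
      · rw [e4, o4]
    · apply sl23_ext
      · rw [e1, n1]
      · rw [e2, n2]
      · rw [e3, n3]
      · rw [e4, n4]
  rw [h3, Subgroup.mem_center_iff]
  intro g
  rw [mul_neg, neg_mul, mul_one, one_mul]

/-- `SL(2,3)` is `2`-constrained -/
theorem sl23_constrained : Cfsg.IsPConstrained 2 G3 := by
  have : Fact (Nat.Prime 2) := ⟨Nat.prime_two⟩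
  rw [isPConstrained_iff_pLayer_eq_bot, pLayer_eq_bot_iff, eq_bot_iff]
  apply sSup_le
  intro K hK
  exfalso
  have hsol := sl23_solvable
  have h1 : Group.IsSolvable (G3 ⧸ Cfsg.pPrimeCore 2 G3) :=
    Group.isSolvable_of_surjective (QuotientGroup.mk'_surjective _)
  have h2 : Group.IsSolvable K := Group.isSolvable_of_isSolvable_injective K.subtype_injective
  exact qs_not_solvable hK.2 h2

/-- an element of order `3` -/
theorem sl23_exists_order_three : ∃ u : G3, orderOf u = 3 := by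
  obtain ⟨u, hu⟩ : ∃ u : G3, u = sl23mk 1 1 0 1 (by decide) := ⟨_, rfl⟩
  obtain ⟨u1, u2, u3, u4⟩ := sl23mk_apply 1 1 0 1 (by decide)
  rw [← hu] at u1 u2 u3 u4
  obtain ⟨o1, o2, o3, o4⟩ := sl23_one
  refine ⟨u, ?_⟩
  have : Fact (Nat.Prime 3) := ⟨Nat.prime_three⟩
  apply orderOf_eq_prime
  · have h3 : u ^ 3 = u * u * u := by rw [pow_succ, pow_two]
    rw [h3]
    obtain ⟨m1, m2, m3, m4⟩ := sl23_mul (u * u) u
    obtain ⟨k1, k2, k3, k4⟩ := sl23_mul u u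
    apply sl23_ext
    · rw [m1, k1, k2, u1, u2, u3, u4, o1]; decide
    · rw [m2, k1, k2, u1, u2, u3, u4, o2]; decide
    · rw [m3, k3, k4, u1, u2, u3, u4, o3]; decide
    · rw [m4, k3, k4, u1, u2, u3, u4, o4]; decide
  · intro h
    have h1 := congrArg (fun y : G3 => y 0 1) h
    simp only [u2, o2] at h1
    exact absurd h1 (by decide)

end SL23

end Cfsg.Agent.Lib.Helper11
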