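import Mathlib
import Cfsg.Agent.Lib.Helper2.SL23Sec
import Cfsg.Agent.Lib.Helper11.SL23

set_option autoImplicit false

/-!
A finite group with a normal quaternion subgroup of order 8 containing its centralizer, and
which is not a 2-group, has a normal subgroup isomorphic to `SL(2,3)`.
-/

namespace Cfsg.Agent.Lib.Helper11

open QuaternionGroup

theorem q8n_L1 : ∀ x y : QuaternionGroup 2, x ^ 2 ≠ 1 → y ^ 2 ≠ 1 → y ≠ x → y ≠ x⁻¹ →
    y * y = x ^ 2 ∧ x * y = y * x⁻¹ ∧ x ^ 4 = 1 := by decide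

theorem q8n_L2 : ∀ x y c : QuaternionGroup 2, x ^ 2 ≠ 1 → y ^ 2 ≠ 1 → y ≠ x → y ≠ x⁻¹ →
    c * x = x * c → c * y = y * c → c = 1 ∨ c = x ^ 2 := by decide

theorem q8n_L3 : ∀ x y w : QuaternionGroup 2, x ^ 2 ≠ 1 → y ^ 2 ≠ 1 → y ≠ x → y ≠ x⁻¹ →
    w ^ 2 ≠ 1 → w ≠ x → w ≠ x⁻¹ → w ≠ y → w ≠ y⁻¹ →
    (w = y * x ^ 3 ∨ w⁻¹ = y⁻¹ * x⁻¹ ^ 3) := by decide

set_option maxRecDepth 100000 in
set_option synthInstance.maxSize 4000 in
set_option synthInstance.maxHeartbeats 400000 in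
theorem q8n_L4 : ∀ x y w v : QuaternionGroup 2, x ^ 2 ≠ 1 → y ^ 2 ≠ 1 → y ≠ x → y ≠ x⁻¹ →
    w ^ 2 ≠ 1 → w ≠ x → w ≠ x⁻¹ → w ≠ y → w ≠ y⁻¹ → v ^ 2 ≠ 1 → v ≠ w → v ≠ w⁻¹ → v ≠ y →
    v ≠ y⁻¹ → (v = x ∨ v = x⁻¹) := by decide

theorem q8n_L5 : ∀ x : QuaternionGroup 2, x ^ 2 = 1 → x = 1 ∨ x = (a 1) ^ 2 := by decide

theorem q8n_a1 : (a 1 : QuaternionGroup 2) ^ 2 ≠ 1 := by decide

theorem q8n_L6 : ∀ x y c : QuaternionGroup 2, x ^ 2 ≠ 1 → y ^ 2 ≠ 1 → y ≠ x → y ≠ x⁻¹ →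
    (c = 1 ∨ c = x ∨ c = x ^ 2 ∨ c = x ^ 3 ∨ c = y ∨ c = y * x ∨ c = y * x ^ 2 ∨
      c = y * x ^ 3) := by decide

/-- Pairs of generators of the quaternion group. -/
def q8nPairs : Finset (QuaternionGroup 2 × QuaternionGroup 2) :=
  Finset.univ.filter fun p => p.1 ^ 2 ≠ 1 ∧ p.2 ^ 2 ≠ 1 ∧ p.2 ≠ p.1 ∧ p.2 ≠ p.1⁻¹

theorem q8n_card_pairs : q8nPairs.card = 24 := by decide

section transfer

variable {Γ : Type*} [Group Γ] (e : Γ ≃* QuaternionGroup 2)

include e

theorem q8n_t1 (x y : Γ) (hx : x ^ 2 ≠ 1) (hy : y ^ 2 ≠ 1) (h1 : y ≠ x) (h2 : y ≠ x⁻¹) :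
    y * y = x ^ 2 ∧ x * y = y * x⁻¹ ∧ x ^ 4 = 1 := by
  have key := q8n_L1 (e x) (e y)
  simp only [← map_pow e, ← map_mul e, ← map_inv e, ← map_one e, e.injective.eq_iff,
    ne_eq] at key
  exact key hx hy h1 h2

theorem q8n_t2 (x y c : Γ) (hx : x ^ 2 ≠ 1) (hy : y ^ 2 ≠ 1) (h1 : y ≠ x) (h2 : y ≠ x⁻¹)
    (hcx : c * x = x * c) (hcy : c * y = y * c) : c = 1 ∨ c = x ^ 2 := by
  have key := q8n_L2 (e x) (e y) (e c)
  simp only [← map_pow e, ← map_mul e, ← map_inv e, ← map_one e, e.injective.eq_iff,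
    ne_eq] at key
  exact key hx hy h1 h2 hcx hcy

theorem q8n_t3 (x y w : Γ) (hx : x ^ 2 ≠ 1) (hy : y ^ 2 ≠ 1) (h1 : y ≠ x) (h2 : y ≠ x⁻¹)
    (hw : w ^ 2 ≠ 1) (hw1 : w ≠ x) (hw2 : w ≠ x⁻¹) (hw3 : w ≠ y) (hw4 : w ≠ y⁻¹) :
    w = y * x ^ 3 ∨ w⁻¹ = y⁻¹ * x⁻¹ ^ 3 := by
  have key := q8n_L3 (e x) (e y) (e w)
  simp only [← map_pow e, ← map_mul e, ← map_inv e, ← map_one e, e.injective.eq_iff,
    ne_eq] at key
  exact key hx hy h1 h2 hw hw1 hw2 hw3 hw4

theorem q8n_t4 (x y w v : Γ) (hx : x ^ 2 ≠ 1) (hy : y ^ 2 ≠ 1) (h1 : y ≠ x) (h2 : y ≠ x⁻¹)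
    (hw : w ^ 2 ≠ 1) (hw1 : w ≠ x) (hw2 : w ≠ x⁻¹) (hw3 : w ≠ y) (hw4 : w ≠ y⁻¹)
    (hv : v ^ 2 ≠ 1) (hv1 : v ≠ w) (hv2 : v ≠ w⁻¹) (hv3 : v ≠ y) (hv4 : v ≠ y⁻¹) :
    v = x ∨ v = x⁻¹ := by
  have key := q8n_L4 (e x) (e y) (e w) (e v)
  simp only [← map_pow e, ← map_mul e, ← map_inv e, ← map_one e, e.injective.eq_iff,
    ne_eq] at key
  exact key hx hy h1 h2 hw hw1 hw2 hw3 hw4 hv hv1 hv2 hv3 hv4

theorem q8n_t5 (x : Γ) (hx : x ^ 2 = 1) : x = 1 ∨ x = (e.symm (a 1)) ^ 2 := by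
  rcases q8n_L5 (e x) (by rw [← map_pow, hx, map_one]) with h | h
  · left
    exact (map_eq_one_iff e e.injective).mp h
  · right
    apply e.injective
    rw [h, map_pow, MulEquiv.apply_symm_apply]

theorem q8n_t5' : (e.symm (a 1)) ^ 2 ≠ 1 := by
  intro h
  apply q8n_a1
  have := congrArg e h
  rwa [map_pow, MulEquiv.apply_symm_apply, map_one] at this

theorem q8n_t6 (x y c : Γ) (hx : x ^ 2 ≠ 1) (hy : y ^ 2 ≠ 1) (h1 : y ≠ x) (h2 : y ≠ x⁻¹) :
    c = 1 ∨ c = x ∨ c = x ^ 2 ∨ c = x ^ 3 ∨ c = y ∨ c = y * x ∨ c = y * x ^ 2 ∨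
      c = y * x ^ 3 := by
  have key := q8n_L6 (e x) (e y) (e c)
  simp only [← map_pow e, ← map_mul e, ← map_inv e, ← map_one e, e.injective.eq_iff,
    ne_eq] at key
  exact key hx hy h1 h2

end transfer

theorem q8n_pow_fix {Γ : Type*} [Group Γ] (ψ : MulAut Γ) (x : Γ) (h : ψ x = x) (m : ℕ) :
    (ψ ^ m) x = x := by
  induction m with
  | zero => simp
  | succ k ih => rw [pow_succ, MulAut.mul_apply, h, ih]

theorem q8n_exists_odd_prime {G : Type*} [Group G] [Finite G] (hG2 : ¬ IsPGroup 2 G) :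
    ∃ q : ℕ, q.Prime ∧ q ≠ 2 ∧ ∃ g : G, orderOf g = q := by
  by_contra hcon
  push_neg at hcon
  apply hG2
  haveI : Fact (Nat.Prime 2) := ⟨Nat.prime_two⟩
  rw [IsPGroup.iff_card]
  refine ⟨_, Nat.eq_prime_pow_of_unique_prime_dvd Nat.card_pos.ne' ?_⟩
  intro d hd hdvd
  by_contra hd2
  haveI : Fact d.Prime := ⟨hd⟩
  obtain ⟨x, hx⟩ := exists_prime_orderOf_dvd_card' d hdvd
  exact hcon d hd hd2 x hx

set_option maxHeartbeats 1600000 in
/-- A normal `Q₈` containing its centralizer in a group that is not a 2-group gives a normal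
`SL(2,3)`. -/
theorem q8n_exists_normal_sl23 {G : Type*} [Group G] [Finite G] (Q : Subgroup G)
    [hQn : Q.Normal] (e : ↥Q ≃* QuaternionGroup 2)
    (hCQ : Subgroup.centralizer (Q : Set G) ≤ Q) (hG2 : ¬ IsPGroup 2 G) :
    ∃ U : Subgroup G, U.Normal ∧
      Nonempty (↥U ≃* Matrix.SpecialLinearGroup (Fin 2) (ZMod 3)) := by
  classical
  have hF2 : Fact (Nat.Prime 2) := ⟨Nat.prime_two⟩
  have hQcard : Nat.card ↥Q = 8 := by
    rw [Nat.card_congr e.toEquiv]; exact Cfsg.Agent.Lib.Helper2.card_quat_two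
  have hQp : IsPGroup 2 ↥Q := IsPGroup.of_card (n := 3) (by rw [hQcard]; norm_num)
  obtain ⟨q, hqp, hq2, g, hg⟩ := q8n_exists_odd_prime hG2
  have hgQ : g ∉ Q := by
    intro hgQ
    obtain ⟨k, hk⟩ := (IsPGroup.iff_orderOf.mp hQp) ⟨g, hgQ⟩
    rw [Subgroup.orderOf_mk, hg] at hk
    have hk0 : k ≠ 0 := by
      rintro rfl
      rw [pow_zero] at hk
      exact hqp.one_lt.ne' hk
    have h2q : 2 ∣ q := by rw [hk]; exact dvd_pow_self 2 hk0
    exact hq2 ((Nat.prime_dvd_prime_iff_eq Nat.prime_two hqp).mp h2q).symm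
  set φ : MulAut ↥Q := MulAut.conjNormal (H := Q) g with hφ
  have hφapp : ∀ x : ↥Q, ((φ x : ↥Q) : G) = g * x * g⁻¹ :=
    fun x => MulAut.conjNormal_apply g x
  have hcop : ∀ n : ℕ, Nat.Coprime n q → ∀ x : ↥Q, (φ ^ n) x = x → φ x = x := by
    intro n hn x hx
    obtain ⟨m, hm⟩ := exists_pow_eq_self_of_coprime (x := g) (by rw [hg]; exact hn)
    have hφm : φ = (φ ^ n) ^ m := by
      rw [hφ, ← map_pow, ← map_pow, hm]
    rw [hφm]
    exact q8n_pow_fix _ x hx m
  have hodd2 : Nat.Coprime 2 q := (Nat.coprime_primes Nat.prime_two hqp).mpr (Ne.symm hq2)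
  have hodd4 : Nat.Coprime 4 q := by
    have h := Nat.Coprime.pow_left 2 hodd2
    simpa using h
  have hφ1 : φ ≠ 1 := by
    intro h1
    apply hgQ
    apply hCQ
    rw [Subgroup.mem_centralizer_iff]
    intro c hc
    have h := hφapp ⟨c, hc⟩
    rw [h1, MulAut.one_apply] at h
    simp only [Subgroup.coe_mk] at h
    calc c * g = (g * c * g⁻¹) * g := by rw [← h]
      _ = g * c := by group
  obtain ⟨i, hi2, hji, hji'⟩ : ∃ i : ↥Q, i ^ 2 ≠ 1 ∧ φ i ≠ i ∧ φ i ≠ i⁻¹ := by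
    by_contra hcon
    push_neg at hcon
    have h4 : ∀ c : ↥Q, c ^ 2 ≠ 1 → φ c = c := by
      intro c hc2
      apply hcop 2 hodd2
      rw [pow_two, MulAut.mul_apply]
      by_cases h : φ c = c
      · rw [h, h]
      · rw [hcon c hc2 h, map_inv, hcon c hc2 h, inv_inv]
    apply hφ1
    refine MulEquiv.ext fun c => ?_
    rw [MulAut.one_apply]
    by_cases hc2 : c ^ 2 = 1
    · rcases q8n_t5 e c hc2 with h | h
      · rw [h, map_one]
      · rw [h, map_pow, h4 _ (q8n_t5' e)]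
    · exact h4 c hc2
  have hinj : Function.Injective φ := φ.injective
  have hj2 : (φ i) ^ 2 ≠ 1 := by
    intro h
    apply hi2
    apply hinj
    rw [map_pow, map_one]; exact h
  have hw2 : (φ (φ i)) ^ 2 ≠ 1 := by
    intro h
    apply hj2
    apply hinj
    rw [map_pow, map_one]; exact h
  have hv2 : (φ (φ (φ i))) ^ 2 ≠ 1 := by
    intro h
    apply hw2
    apply hinj
    rw [map_pow, map_one]; exact h
  have hwj : φ (φ i) ≠ φ i := fun h => hji (hinj h)
  have hwj' : φ (φ i) ≠ (φ i)⁻¹ := by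
    intro h
    apply hji'
    apply hinj
    rw [map_inv]; exact h
  have hwi : φ (φ i) ≠ i := by
    intro h
    apply hji
    apply hcop 2 hodd2
    rw [pow_two, MulAut.mul_apply]; exact h
  have hwi' : φ (φ i) ≠ i⁻¹ := by
    intro h
    apply hji
    apply hcop 4 hodd4
    have h2 : (φ ^ 2) i = i⁻¹ := by rw [pow_two, MulAut.mul_apply]; exact h
    have h4 : (φ ^ 4) i = (φ ^ 2) ((φ ^ 2) i) := by
      rw [← MulAut.mul_apply, ← pow_add]
    rw [h4, h2, map_inv, h2, inv_inv]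
  have hvw : φ (φ (φ i)) ≠ φ (φ i) := fun h => hwj (hinj h)
  have hvw' : φ (φ (φ i)) ≠ (φ (φ i))⁻¹ := by
    intro h
    apply hwj'
    apply hinj
    rw [map_inv]; exact h
  have hvj : φ (φ (φ i)) ≠ φ i := fun h => hwi (hinj h)
  have hvj' : φ (φ (φ i)) ≠ (φ i)⁻¹ := by
    intro h
    apply hwi'
    apply hinj
    rw [map_inv]; exact h
  have hv3 : (φ ^ 3) i = φ (φ (φ i)) := by
    rw [pow_succ, MulAut.mul_apply, pow_two, MulAut.mul_apply]
  have hq3 : q = 3 := by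
    by_contra hq3
    apply hji
    have hc6 : Nat.Coprime 6 q := by
      have h3 : Nat.Coprime 3 q :=
        (Nat.coprime_primes Nat.prime_three hqp).mpr (Ne.symm hq3)
      have h := Nat.Coprime.mul_left hodd2 h3
      simpa using h
    apply hcop 6 hc6
    have h6 : (φ ^ 6) i = (φ ^ 3) ((φ ^ 3) i) := by
      rw [← MulAut.mul_apply, ← pow_add]
    rw [h6, hv3]
    rcases q8n_t4 e i (φ i) (φ (φ i)) (φ (φ (φ i))) hi2 hj2 hji hji' hw2 hwi hwi' hwj hwj'
      hv2 hvw hvw' hvj hvj' with h | h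
    · rw [h, hv3, h]
    · rw [h, map_inv, hv3, h, inv_inv]
  subst hq3
  have hw34 := q8n_t3 e i (φ i) (φ (φ i)) hi2 hj2 hji hji' hw2 hwi hwi' hwj hwj'
  obtain ⟨t1, t2, t3⟩ := q8n_t1 e i (φ i) hi2 hj2 hji hji'
  -- the subgroup L
  set L : Subgroup G := Q ⊔ Subgroup.zpowers g with hL
  have hQL : Q ≤ L := le_sup_left
  have hgL : g ∈ L := (le_sup_right : Subgroup.zpowers g ≤ L) (Subgroup.mem_zpowers g)
  have hLcard : Nat.card ↥L ≤ 24 := by
    have h := Set.natCard_mul_le (s := (Q : Set G)) (t := (Subgroup.zpowers g : Set G))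
    rw [← Subgroup.normal_mul] at h
    have h3 : Nat.card ↥(Subgroup.zpowers g) = 3 := by rw [Nat.card_zpowers, hg]
    calc Nat.card ↥L ≤ Nat.card ↥Q * Nat.card ↥(Subgroup.zpowers g) := h
      _ = 24 := by rw [hQcard, h3]
  let ι : ↥Q →* ↥L := Subgroup.inclusion hQL
  have hιinj : Function.Injective ι := Subgroup.inclusion_injective hQL
  let Gg : ↥L := ⟨g, hgL⟩
  have hconjL : ∀ x : ↥Q, Gg * ι x * Gg⁻¹ = ι (φ x) := by
    intro x
    apply Subtype.ext
    show (g * (x : G) * g⁻¹ : G) = ((φ x : ↥Q) : G)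
    exact (hφapp x).symm
  have hI2 : (ι i) ^ 2 ≠ 1 := by
    intro h
    apply hi2
    apply hιinj
    rw [map_pow, map_one]; exact h
  have hI4 : (ι i) ^ 4 = 1 := by rw [← map_pow, t3, map_one]
  have hIord : orderOf (ι i) = 4 := by
    have h := orderOf_eq_prime_pow (p := 2) (n := 1) (x := ι i) (by simpa using hI2)
      (by simpa using hI4)
    simpa using h
  have hJJ : ι (φ i) * ι (φ i) = (ι i) ^ 2 := by rw [← map_mul, ← map_pow, t1]
  have hIJ : ι i * ι (φ i) = ι (φ i) * (ι i)⁻¹ := by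
    rw [← map_mul, ← map_inv, ← map_mul, t2]
  have hJI : ι (φ i) ∉ Subgroup.zpowers (ι i) := by
    intro hmem
    obtain ⟨k, hk⟩ := Subgroup.mem_zpowers_iff.mp hmem
    have hc : Commute (ι i) (ι (φ i)) := by
      rw [← hk]; exact (Commute.refl (ι i)).zpow_right k
    have h1 : ι (φ i) * ι i = ι (φ i) * (ι i)⁻¹ := by rw [← hIJ]; exact hc.eq.symm
    have h2 : ι i = (ι i)⁻¹ := mul_left_cancel h1
    apply hI2
    calc (ι i) ^ 2 = ι i * ι i := pow_two _
      _ = ι i * (ι i)⁻¹ := by rw [← h2]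
      _ = 1 := mul_inv_cancel _
  have h5 : Gg * ι i * Gg⁻¹ = ι (φ i) := hconjL i
  have h6 : Gg * ι (φ i) * Gg⁻¹ = ι (φ (φ i)) := hconjL (φ i)
  have hGord : orderOf Gg = 3 := by
    show orderOf (⟨g, hgL⟩ : ↥L) = 3
    rw [Subgroup.orderOf_mk, hg]
  have hsec : ∃ (H K : Subgroup ↥L) (hK : (K.subgroupOf H).Normal),
      Nonempty ((H ⧸ K.subgroupOf H) ≃* Matrix.SpecialLinearGroup (Fin 2) (ZMod 3)) := by
    rcases hw34 with h | h
    · refine Cfsg.Agent.Lib.Helper2.exists_sl23_section (ι i) (ι (φ i)) Gg hIord hJJ hIJ hJI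
        h5 ?_ ?_
      · rw [h6, h, map_mul, map_pow]
      · rw [hGord]; decide
    · refine Cfsg.Agent.Lib.Helper2.exists_sl23_section (ι i)⁻¹ (ι (φ i))⁻¹ Gg ?_ ?_ ?_ ?_
        ?_ ?_ ?_
      · rw [orderOf_inv]; exact hIord
      · rw [← mul_inv_rev, hJJ, inv_pow]
      · rw [inv_inv]
        calc (ι i)⁻¹ * (ι (φ i))⁻¹
            = (ι (φ i))⁻¹ * (ι (φ i) * (ι i)⁻¹) * (ι (φ i))⁻¹ := by group
          _ = (ι (φ i))⁻¹ * (ι i * ι (φ i)) * (ι (φ i))⁻¹ := by rw [hIJ]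
          _ = (ι (φ i))⁻¹ * ι i := by group
      · rw [Subgroup.zpowers_inv]
        intro h'
        exact hJI ((Subgroup.inv_mem_iff _).mp h')
      · rw [← h5]; group
      · have h7 : Gg * (ι (φ i))⁻¹ * Gg⁻¹ = (ι (φ (φ i)))⁻¹ := by rw [← h6]; group
        rw [h7, ← map_inv ι (φ (φ i)), h, map_mul, map_inv, map_pow, map_inv]
      · rw [hGord]; decide
  obtain ⟨H, K, hK, ⟨f⟩⟩ := hsec
  let F : ↥H →* Matrix.SpecialLinearGroup (Fin 2) (ZMod 3) :=
    f.toMonoidHom.comp (QuotientGroup.mk' (K.subgroupOf H))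
  have hFsurj : Function.Surjective F :=
    f.surjective.comp (QuotientGroup.mk'_surjective _)
  have hcardSL : Nat.card (Matrix.SpecialLinearGroup (Fin 2) (ZMod 3)) = 24 := card_sl23
  have hHle : Nat.card ↥H ≤ 24 := (Subgroup.card_le_card_group H).trans hLcard
  have hFbij : Function.Bijective F :=
    hFsurj.bijective_of_nat_card_le (by rw [hcardSL]; exact hHle)
  have hHcard : Nat.card ↥H = 24 := by
    rw [← hcardSL]; exact Nat.card_congr (Equiv.ofBijective F hFbij)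
  set U : Subgroup G := H.map L.subtype with hU
  have hUcard : Nat.card ↥U = 24 := by
    rw [hU, Subgroup.card_map_of_injective (Subgroup.subtype_injective L)]
    exact hHcard
  have eU : ↥U ≃* Matrix.SpecialLinearGroup (Fin 2) (ZMod 3) :=
    (H.equivMapOfInjective L.subtype (Subgroup.subtype_injective L)).symm.trans
      (MulEquiv.ofBijective F hFbij)
  -- the order of G is at most 48
  have hG48 : Nat.card G ≤ 48 := by
    set C : Subgroup G := Subgroup.centralizer (Q : Set G) with hC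
    have hC2 : Nat.card ↥C ≤ 2 := by
      have hsub : (C : Set G) ⊆ {1, ((i ^ 2 : ↥Q) : G)} := by
        intro c hc
        have hcQ : c ∈ Q := hCQ hc
        have hcomm := Subgroup.mem_centralizer_iff.mp hc
        have h1 : (⟨c, hcQ⟩ : ↥Q) * i = i * ⟨c, hcQ⟩ := Subtype.ext (hcomm i i.2).symm
        have h2 : (⟨c, hcQ⟩ : ↥Q) * φ i = φ i * ⟨c, hcQ⟩ :=
          Subtype.ext (hcomm (φ i) (φ i).2).symm
        rcases q8n_t2 e i (φ i) ⟨c, hcQ⟩ hi2 hj2 hji hji' h1 h2 with h | h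
        · left; exact congrArg Subtype.val h
        · right; exact congrArg Subtype.val h
      calc Nat.card ↥C = (C : Set G).ncard := Nat.card_coe_set_eq _
        _ ≤ ({1, ((i ^ 2 : ↥Q) : G)} : Set G).ncard :=
            Set.ncard_le_ncard hsub (Set.toFinite _)
        _ ≤ 2 := by
            refine (Set.ncard_insert_le _ _).trans ?_
            rw [Set.ncard_singleton]
    have hker : ∀ c ∈ C, MulAut.conjNormal (H := Q) c = 1 := by
      intro c hc
      refine MulEquiv.ext fun x => ?_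
      apply Subtype.ext
      rw [MulAut.conjNormal_apply, MulAut.one_apply]
      have h := Subgroup.mem_centralizer_iff.mp hc x x.2
      rw [← h]; group
    have hker' : ∀ c : G, MulAut.conjNormal (H := Q) c i = i →
        MulAut.conjNormal (H := Q) c (φ i) = φ i → c ∈ C := by
      intro c h1 h2
      have hall : ∀ x : ↥Q, MulAut.conjNormal (H := Q) c x = x := by
        intro x
        rcases q8n_t6 e i (φ i) x hi2 hj2 hji hji' with h | h | h | h | h | h | h | h <;>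
          rw [h] <;> simp only [map_one, map_mul, map_pow, h1, h2]
      rw [hC, Subgroup.mem_centralizer_iff]
      intro x hx
      have h := congrArg Subtype.val (hall ⟨x, hx⟩)
      rw [MulAut.conjNormal_apply] at h
      simp only [Subgroup.coe_mk] at h
      calc x * c = (c * x * c⁻¹) * c := by rw [h]
        _ = c * x := by group
    have hψP : ∀ x : G, (e (MulAut.conjNormal (H := Q) x i),
        e (MulAut.conjNormal (H := Q) x (φ i))) ∈ q8nPairs := by
      intro x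
      rw [q8nPairs, Finset.mem_filter]
      refine ⟨Finset.mem_univ _, ?_, ?_, ?_, ?_⟩
      · show (e (MulAut.conjNormal (H := Q) x i)) ^ 2 ≠ 1
        rw [← map_pow, ← map_pow]
        intro h
        apply hi2
        have h' := (map_eq_one_iff e e.injective).mp h
        exact (map_eq_one_iff _ (MulAut.conjNormal (H := Q) x).injective).mp h'
      · show (e (MulAut.conjNormal (H := Q) x (φ i))) ^ 2 ≠ 1
        rw [← map_pow, ← map_pow]
        intro h
        apply hj2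
        have h' := (map_eq_one_iff e e.injective).mp h
        exact (map_eq_one_iff _ (MulAut.conjNormal (H := Q) x).injective).mp h'
      · show e (MulAut.conjNormal (H := Q) x (φ i)) ≠ e (MulAut.conjNormal (H := Q) x i)
        intro h
        exact hji ((MulAut.conjNormal (H := Q) x).injective (e.injective h))
      · show e (MulAut.conjNormal (H := Q) x (φ i)) ≠ (e (MulAut.conjNormal (H := Q) x i))⁻¹
        rw [← map_inv, ← map_inv]
        intro h
        exact hji' ((MulAut.conjNormal (H := Q) x).injective (e.injective h))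
    let Ψ : G ⧸ C → {p // p ∈ q8nPairs} := fun qq =>
      Quotient.liftOn' qq
        (fun x => (⟨(e (MulAut.conjNormal (H := Q) x i),
          e (MulAut.conjNormal (H := Q) x (φ i))), hψP x⟩ : {p // p ∈ q8nPairs}))
        (by
          intro a b hab
          have hab' : a⁻¹ * b ∈ C := QuotientGroup.leftRel_apply.mp hab
          have hb : MulAut.conjNormal (H := Q) b = MulAut.conjNormal (H := Q) a := by
            have hb' : b = a * (a⁻¹ * b) := by group
            rw [hb', map_mul, hker _ hab', mul_one]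
          apply Subtype.ext
          show (e (MulAut.conjNormal (H := Q) a i), e (MulAut.conjNormal (H := Q) a (φ i))) =
            (e (MulAut.conjNormal (H := Q) b i), e (MulAut.conjNormal (H := Q) b (φ i)))
          rw [hb])
    have hΨinj : Function.Injective Ψ := by
      rintro ⟨a⟩ ⟨b⟩ h
      have h' : (e (MulAut.conjNormal (H := Q) a i), e (MulAut.conjNormal (H := Q) a (φ i))) =
          (e (MulAut.conjNormal (H := Q) b i), e (MulAut.conjNormal (H := Q) b (φ i))) :=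
        congrArg Subtype.val h
      rw [Prod.mk.injEq] at h'
      have h1 := e.injective h'.1
      have h2 := e.injective h'.2
      show (QuotientGroup.mk a : G ⧸ C) = QuotientGroup.mk b
      rw [QuotientGroup.eq]
      apply hker'
      · rw [map_mul, map_inv, MulAut.mul_apply, ← h1, MulAut.inv_apply_self]
      · rw [map_mul, map_inv, MulAut.mul_apply, ← h2, MulAut.inv_apply_self]
    have hidx : C.index ≤ 24 := by
      rw [Subgroup.index_eq_card]
      calc Nat.card (G ⧸ C) ≤ Nat.card {p // p ∈ q8nPairs} :=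
            Nat.card_le_card_of_injective Ψ hΨinj
        _ = 24 := by rw [Nat.card_eq_fintype_card, Fintype.card_coe, q8n_card_pairs]
    calc Nat.card G = Nat.card ↥C * C.index := (Subgroup.card_mul_index C).symm
      _ ≤ 2 * 24 := Nat.mul_le_mul hC2 hidx
      _ = 48 := by norm_num
  refine ⟨U, ?_, ⟨eU⟩⟩
  have hidx : U.index ≤ 2 := by
    have h := Subgroup.card_mul_index U
    rw [hUcard] at h
    by_contra hlt
    push_neg at hlt
    have h3 : 24 * 3 ≤ 24 * U.index := Nat.mul_le_mul_left 24 hlt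
    omega
  have hidx0 : U.index ≠ 0 := Subgroup.index_ne_zero_of_finite
  have h12 : U.index = 1 ∨ U.index = 2 := by omega
  rcases h12 with h | h
  · rw [Subgroup.index_eq_one.mp h]; infer_instance
  · exact Subgroup.normal_of_index_eq_two h

end Cfsg.Agent.Lib.Helper11
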