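import Mathlib
import Cfsg.Prelude.Def_Local
import Cfsg.Prelude.Def_CaseTheorems
import Cfsg.Prelude.Def_TwoFusion
import Cfsg.Agent.Lib.Helper17.OmegaUnique
import Cfsg.Agent.Lib.Helper10.ZS7
import Cfsg.Agent.Lib.Helper11.PCores

/-!
A finite group whose Sylow 2-subgroup is `Q × R` with `Q` generalized quaternion and all
involutions of `R` central in `R` is not simple: the product of the `N(S)`-orbit of the involution
of `Q` is an isolated involution, so the `Z*`-theorem applies.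
-/

set_option autoImplicit false
set_option linter.style.haveILetI false

namespace Cfsg.Agent.Lib.Helper11

section QuatFacts

theorem quat_facts_aux (m : ℕ) [NeZero m] (hm : 2 ≤ m) :
    ∃ z a : QuaternionGroup m, z ≠ 1 ∧ a ^ 2 = z ∧ z ^ 2 = 1 ∧
      (∀ q : QuaternionGroup m, q ^ 2 = 1 → q = 1 ∨ q = z) ∧
      (∀ q : QuaternionGroup m, (∀ x : QuaternionGroup m, x * q = q * x) → q ^ 2 = 1) := by
  refine ⟨QuaternionGroup.a (m : ZMod (2 * m)), QuaternionGroup.xa 0, ?_, ?_, ?_, ?_, ?_⟩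
  · intro h
    rw [QuaternionGroup.one_def] at h
    have h1 : ((m : ℕ) : ZMod (2 * m)) = 0 := QuaternionGroup.a.inj h
    rw [ZMod.natCast_eq_zero_iff] at h1
    have := Nat.le_of_dvd (by omega) h1
    omega
  · exact QuaternionGroup.xa_sq 0
  · rw [← QuaternionGroup.xa_sq (0 : ZMod (2 * m)), ← pow_mul]
    exact QuaternionGroup.xa_pow_four 0
  · intro q hq
    exact Cfsg.Agent.Lib.Helper17.quaternion_sq_eq_one q hq
  · intro q hq
    cases q with
    | a i =>
      have h := hq (QuaternionGroup.xa 0)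
      rw [QuaternionGroup.xa_mul_a, QuaternionGroup.a_mul_xa] at h
      have h1 : (0 : ZMod (2 * m)) + i = 0 - i := QuaternionGroup.xa.inj h
      rw [sq, QuaternionGroup.a_mul_a, QuaternionGroup.one_def]
      congr 1
      linear_combination h1
    | xa i =>
      exfalso
      have h := hq (QuaternionGroup.a 1)
      rw [QuaternionGroup.a_mul_xa, QuaternionGroup.xa_mul_a] at h
      have h1 : i - 1 = i + 1 := QuaternionGroup.xa.inj h
      have h2 : ((2 : ℕ) : ZMod (2 * m)) = 0 := by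
        push_cast
        linear_combination (-1 : ZMod (2 * m)) * h1
      rw [ZMod.natCast_eq_zero_iff] at h2
      have := Nat.le_of_dvd (by norm_num) h2
      omega

/-- The properties of a generalized quaternion group used below: a unique involution `z`,
which is a square, and every central element has square one. -/
theorem quat_facts {Q₀ : Type*} [Group Q₀] (n : ℕ) (hn : 1 ≤ n)
    (e : Q₀ ≃* QuaternionGroup (2 ^ n)) :
    ∃ z a : Q₀, z ≠ 1 ∧ a ^ 2 = z ∧ z ^ 2 = 1 ∧ (∀ q : Q₀, q ^ 2 = 1 → q = 1 ∨ q = z) ∧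
      (∀ q : Q₀, (∀ x : Q₀, x * q = q * x) → q ^ 2 = 1) := by
  have hm : 2 ≤ 2 ^ n := by
    calc 2 = 2 ^ 1 := by norm_num
      _ ≤ 2 ^ n := Nat.pow_le_pow_right (by norm_num) hn
  haveI : NeZero (2 ^ n) := ⟨by positivity⟩
  obtain ⟨z₀, a₀, h1, h2, h3, h4, h5⟩ := quat_facts_aux (2 ^ n) hm
  refine ⟨e.symm z₀, e.symm a₀, ?_, ?_, ?_, ?_, ?_⟩
  · intro h
    apply h1
    have := congrArg e h
    simpa using this
  · rw [← map_pow, h2]
  · rw [← map_pow, h3, map_one]
  · intro q hq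
    have hq' : (e q) ^ 2 = 1 := by rw [← map_pow, hq, map_one]
    rcases h4 (e q) hq' with h | h
    · left
      have := congrArg e.symm h
      simpa using this
    · right
      have := congrArg e.symm h
      simpa using this
  · intro q hq
    have hq' : ∀ y : QuaternionGroup (2 ^ n), y * e q = e q * y := by
      intro y
      have := congrArg e (hq (e.symm y))
      simpa using this
    have h6 := h5 (e q) hq'
    rw [← map_pow] at h6
    have h7 := congrArg e.symm h6
    simpa using h7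

end QuatFacts

section QuatDirect

variable {G : Type*} [Group G]

/-- Elements of `Q ⊔ R` are products when `Q` and `R` commute elementwise. -/
theorem mem_sup_of_commute {Q R : Subgroup G} (hc : ∀ a ∈ Q, ∀ b ∈ R, a * b = b * a) {x : G}
    (hx : x ∈ Q ⊔ R) : ∃ q ∈ Q, ∃ r ∈ R, x = q * r := by
  rw [Subgroup.sup_eq_closure] at hx
  induction hx using Subgroup.closure_induction with
  | mem y hy =>
    rcases hy with hy | hy
    · exact ⟨y, hy, 1, R.one_mem, (mul_one y).symm⟩
    · exact ⟨1, Q.one_mem, y, hy, (one_mul y).symm⟩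
  | one => exact ⟨1, Q.one_mem, 1, R.one_mem, (mul_one 1).symm⟩
  | mul y y' _ _ ihy ihy' =>
    obtain ⟨q, hq, r, hr, rfl⟩ := ihy
    obtain ⟨q', hq', r', hr', rfl⟩ := ihy'
    refine ⟨q * q', Q.mul_mem hq hq', r * r', R.mul_mem hr hr', ?_⟩
    have h := hc q' hq' r hr
    calc q * r * (q' * r') = q * (r * q') * r' := by group
      _ = q * (q' * r) * r' := by rw [h]
      _ = q * q' * (r * r') := by group
  | inv y _ ihy =>
    obtain ⟨q, hq, r, hr, rfl⟩ := ihy
    refine ⟨q⁻¹, Q.inv_mem hq, r⁻¹, R.inv_mem hr, ?_⟩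
    have h := hc q hq r hr
    have h2 : q * r * (q⁻¹ * r⁻¹) = 1 := by
      calc q * r * (q⁻¹ * r⁻¹) = (q * r) * q⁻¹ * r⁻¹ := by group
        _ = (r * q) * q⁻¹ * r⁻¹ := by rw [h]
        _ = 1 := by group
    exact inv_eq_of_mul_eq_one_right h2

/-- The centre of `S`, as a subgroup of the ambient group. -/
def cenSub (S : Subgroup G) : Subgroup G := S ⊓ Subgroup.centralizer (S : Set G)

theorem mem_cenSub {S : Subgroup G} {x : G} :
    x ∈ cenSub S ↔ x ∈ S ∧ x ∈ Subgroup.centralizer (S : Set G) := Subgroup.mem_inf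

instance cenSubCommGroup (S : Subgroup G) : CommGroup ↥(cenSub S) :=
  { (inferInstance : Group ↥(cenSub S)) with
    mul_comm := fun x y => Subtype.ext
      ((Subgroup.mem_centralizer_iff.mp (mem_cenSub.mp x.2).2 (y : G) (mem_cenSub.mp y.2).1).symm) }

/-- The orbit of `z` under conjugation by `N`, as a type. -/
abbrev ConjOrbit (N : Subgroup G) (z : G) : Type _ := {u : G // ∃ g ∈ N, u = g * z * g⁻¹}

/-- The product of the `N`-orbit of an involution `z` of `Z(S)`, all of whose other members lie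
in a subgroup `R` not containing `z`, is an `N`-invariant involution. -/
theorem exists_orbit_prod [Finite G] (S N R : Subgroup G)
    (hNS : ∀ g ∈ N, ∀ x ∈ cenSub S, g * x * g⁻¹ ∈ cenSub S) (z : G) (hzZ : z ∈ cenSub S)
    (hz2 : z ^ 2 = 1) (hzR : z ∉ R)
    (hkey : ∀ g ∈ N, g * z * g⁻¹ ≠ z → g * z * g⁻¹ ∈ R) :
    ∃ w ∈ cenSub S, w ≠ 1 ∧ w ^ 2 = 1 ∧ ∀ g ∈ N, g * w * g⁻¹ = w := by
  classical
  haveI : Fintype (ConjOrbit N z) := Fintype.ofFinite _
  have hOmem : ∀ u : ConjOrbit N z, (u : G) ∈ cenSub S := by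
    intro u
    obtain ⟨g, hg, hu⟩ := u.2
    rw [hu]
    exact hNS g hg z hzZ
  obtain ⟨ι, hι⟩ : ∃ ι : ConjOrbit N z → ↥(cenSub S), ∀ u, (ι u : G) = (u : G) :=
    ⟨fun u => ⟨u.1, hOmem u⟩, fun u => rfl⟩
  obtain ⟨w, hw⟩ : ∃ w : ↥(cenSub S), w = ∏ u : ConjOrbit N z, ι u := ⟨_, rfl⟩
  obtain ⟨a₀, ha₀⟩ : ∃ a₀ : ConjOrbit N z, (a₀ : G) = z :=
    ⟨⟨z, 1, N.one_mem, by group⟩, rfl⟩
  refine ⟨(w : G), w.2, ?_, ?_, ?_⟩
  · intro hw1
    have hw1' : w = 1 := Subtype.ext hw1
    have hprod : (QuotientGroup.mk' (R.subgroupOf (cenSub S))) w =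
        (QuotientGroup.mk' (R.subgroupOf (cenSub S))) (ι a₀) := by
      rw [hw, map_prod]
      refine Fintype.prod_eq_single a₀ ?_
      intro u hu
      rw [QuotientGroup.mk'_apply, QuotientGroup.eq_one_iff]
      show (ι u : G) ∈ R
      rw [hι]
      obtain ⟨g, hg, hug⟩ := u.2
      rw [hug]
      apply hkey g hg
      intro h
      apply hu
      apply Subtype.ext
      rw [hug, ha₀]; exact h
    rw [hw1', map_one] at hprod
    have h1 := hprod.symm
    rw [QuotientGroup.mk'_apply, QuotientGroup.eq_one_iff] at h1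
    have h2 : (ι a₀ : G) ∈ R := h1
    rw [hι, ha₀] at h2
    exact hzR h2
  · have h1 : w ^ 2 = 1 := by
      rw [hw, ← Finset.prod_pow]
      apply Finset.prod_eq_one
      intro u _
      apply Subtype.ext
      show (ι u : G) ^ 2 = 1
      rw [hι]
      obtain ⟨g, hg, hug⟩ := u.2
      rw [hug, conj_pow, hz2]; group
    have h2 := congrArg Subtype.val h1
    exact h2
  · intro g hg
    obtain ⟨cg, hcgdef⟩ : ∃ cg : ↥(cenSub S) →* ↥(cenSub S), ∀ x, (cg x : G) = g * x * g⁻¹ :=
      ⟨MonoidHom.mk' (fun x => ⟨g * x * g⁻¹, hNS g hg x x.2⟩)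
        (fun x y => Subtype.ext (by
          show g * ((x : G) * (y : G)) * g⁻¹ = g * (x : G) * g⁻¹ * (g * (y : G) * g⁻¹)
          group)), fun x => rfl⟩
    obtain ⟨σ, hσ⟩ : ∃ σ : ConjOrbit N z ≃ ConjOrbit N z, ∀ u, (σ u : G) = g * u * g⁻¹ :=
      ⟨{ toFun := fun u => ⟨g * u.1 * g⁻¹, by
            obtain ⟨h, hh, hu⟩ := u.2
            exact ⟨g * h, N.mul_mem hg hh, by rw [hu]; group⟩⟩
         invFun := fun u => ⟨g⁻¹ * u.1 * g, by
            obtain ⟨h, hh, hu⟩ := u.2
            exact ⟨g⁻¹ * h, N.mul_mem (N.inv_mem hg) hh, by rw [hu]; group⟩⟩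
         left_inv := fun u => Subtype.ext (by
            show g⁻¹ * (g * u.1 * g⁻¹) * g = u.1
            group)
         right_inv := fun u => Subtype.ext (by
            show g * (g⁻¹ * u.1 * g) * g⁻¹ = u.1
            group) }, fun u => rfl⟩
    have hcg : cg w = w :=
      calc cg w = ∏ u : ConjOrbit N z, cg (ι u) := by rw [hw, map_prod]
        _ = ∏ u : ConjOrbit N z, ι (σ u) :=
            Finset.prod_congr rfl (fun u _ => Subtype.ext (by rw [hcgdef, hι, hι, hσ]))
        _ = ∏ u : ConjOrbit N z, ι u := Equiv.prod_comp σ ι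
        _ = w := hw.symm
    have h2 := congrArg Subtype.val hcg
    rw [hcgdef] at h2
    exact h2

/-- A finite group whose Sylow 2-subgroup is `Q × R`, `Q` generalized quaternion and the
involutions of `R` central in `R`, is not simple. -/
theorem not_simple_of_quat_direct [Finite G] (S : Sylow 2 G) (Q R : Subgroup G)
    (hQS : Q ≤ (S : Subgroup G)) (hRS : R ≤ (S : Subgroup G))
    (hcomm : ∀ a ∈ Q, ∀ b ∈ R, a * b = b * a) (hdisj : Q ⊓ R = ⊥)
    (hsup : Q ⊔ R = (S : Subgroup G)) (n : ℕ) (hn : 1 ≤ n)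
    (eQ : ↥Q ≃* QuaternionGroup (2 ^ n))
    (hR : ∀ r ∈ R, orderOf r = 2 → ∀ s ∈ R, r * s = s * r) : ¬ IsSimpleGroup G := by
  classical
  intro hsimple
  haveI : Fact (Nat.Prime 2) := ⟨Nat.prime_two⟩
  obtain ⟨z', a', hz1', ha', hz2', huniq', hcen'⟩ := quat_facts n hn eQ
  obtain ⟨z, hzdef⟩ : ∃ z : G, z = (z' : G) := ⟨_, rfl⟩
  obtain ⟨a, hadef⟩ : ∃ a : G, a = (a' : G) := ⟨_, rfl⟩
  have hzQ : z ∈ Q := by rw [hzdef]; exact z'.2
  have haQ : a ∈ Q := by rw [hadef]; exact a'.2
  have hz1 : z ≠ 1 := by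
    intro h
    apply hz1'
    apply Subtype.ext
    rw [← hzdef, h]; rfl
  have haz : a ^ 2 = z := by
    have h := congrArg Subtype.val ha'
    rw [hadef, hzdef]
    simpa using h
  have hz2 : z ^ 2 = 1 := by
    have h := congrArg Subtype.val hz2'
    rw [hzdef]
    simpa using h
  have huniq : ∀ q ∈ Q, q ^ 2 = 1 → q = 1 ∨ q = z := by
    intro q hq hq2
    have hq2' : (⟨q, hq⟩ : ↥Q) ^ 2 = 1 := Subtype.ext (by simpa using hq2)
    rcases huniq' ⟨q, hq⟩ hq2' with h | h
    · left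
      have h2 := congrArg Subtype.val h
      simpa using h2
    · right
      have h2 := congrArg Subtype.val h
      rw [hzdef]
      exact h2
  have hcen : ∀ q ∈ Q, (∀ x ∈ Q, x * q = q * x) → q ^ 2 = 1 := by
    intro q hq hqc
    have h := hcen' ⟨q, hq⟩ (fun x => Subtype.ext (hqc x x.2))
    have h2 := congrArg Subtype.val h
    simpa using h2
  have hdec : ∀ s ∈ (S : Subgroup G), ∃ q ∈ Q, ∃ r ∈ R, s = q * r := by
    intro s hs
    rw [← hsup] at hs
    exact mem_sup_of_commute hcomm hs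
  have hzc : ∀ x ∈ Q, x * z = z * x := by
    intro x hx
    have h1 : (x * z * x⁻¹) ^ 2 = 1 := by rw [conj_pow, hz2]; group
    rcases huniq (x * z * x⁻¹) (Q.mul_mem (Q.mul_mem hx hzQ) (Q.inv_mem hx)) h1 with h | h
    · exfalso
      apply hz1
      have h3 : z = x⁻¹ * (x * z * x⁻¹) * x := by group
      rw [h3, h]; group
    · calc x * z = (x * z * x⁻¹) * x := by group
        _ = z * x := by rw [h]
  have hinvc : ∀ s ∈ (S : Subgroup G), s ^ 2 = 1 → ∀ t ∈ (S : Subgroup G), s * t = t * s := by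
    intro s hs hs2 t ht
    obtain ⟨q, hq, r, hr, rfl⟩ := hdec s hs
    obtain ⟨q', hq', r', hr', rfl⟩ := hdec t ht
    have hqr := hcomm q hq r hr
    have h2 : q ^ 2 * r ^ 2 = 1 := by
      rw [← hs2, sq, sq, sq]
      calc q * q * (r * r) = q * (q * r) * r := by group
        _ = q * (r * q) * r := by rw [hqr]
        _ = q * r * (q * r) := by group
    have hq2 : q ^ 2 = 1 := by
      have hmem : q ^ 2 ∈ Q ⊓ R := by
        refine Subgroup.mem_inf.mpr ⟨Q.pow_mem hq 2, ?_⟩
        have h3 : q ^ 2 = (r ^ 2)⁻¹ := eq_inv_of_mul_eq_one_left h2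
        rw [h3]; exact R.inv_mem (R.pow_mem hr 2)
      rw [hdisj] at hmem
      exact Subgroup.mem_bot.mp hmem
    have hr2 : r ^ 2 = 1 := by rw [hq2, one_mul] at h2; exact h2
    have hqc : ∀ x ∈ Q, x * q = q * x := by
      intro x hx
      rcases huniq q hq hq2 with h | h
      · rw [h, mul_one, one_mul]
      · rw [h]; exact hzc x hx
    have hrc : ∀ y ∈ R, r * y = y * r := by
      intro y hy
      by_cases hr1 : r = 1
      · rw [hr1, mul_one, one_mul]
      · exact hR r hr (orderOf_eq_prime hr2 hr1) y hy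
    have e1 := hqc q' hq'
    have e2 := hrc r' hr'
    have e3 := hcomm q hq r' hr'
    have e4 := hcomm q' hq' r hr
    calc q * r * (q' * r') = q * (r * q') * r' := by group
      _ = q * (q' * r) * r' := by rw [e4]
      _ = (q * q') * (r * r') := by group
      _ = (q' * q) * (r' * r) := by rw [e1, e2]
      _ = q' * (q * r') * r := by group
      _ = q' * (r' * q) * r := by rw [e3]
      _ = q' * r' * (q * r) := by group
  have hSQ : ∀ s ∈ (S : Subgroup G), ∀ x ∈ Q, s * x * s⁻¹ ∈ Q := by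
    intro s hs x hx
    obtain ⟨q, hq, r, hr, rfl⟩ := hdec s hs
    have h := hcomm x hx r hr
    have h3 : q * r * x * (q * r)⁻¹ = q * x * q⁻¹ := by
      calc q * r * x * (q * r)⁻¹ = q * (r * x) * r⁻¹ * q⁻¹ := by group
        _ = q * (x * r) * r⁻¹ * q⁻¹ := by rw [h]
        _ = q * x * q⁻¹ := by group
    rw [h3]
    exact Q.mul_mem (Q.mul_mem hq hx) (Q.inv_mem hq)
  obtain ⟨N, hNdef⟩ : ∃ N : Subgroup G, N = Subgroup.normalizer ((S : Subgroup G) : Set G) :=
    ⟨_, rfl⟩
  have hNS : ∀ g ∈ N, ∀ s ∈ (S : Subgroup G), g * s * g⁻¹ ∈ (S : Subgroup G) := by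
    intro g hg s hs
    rw [hNdef] at hg
    exact (Subgroup.mem_normalizer_iff.mp hg s).mp hs
  have hNS' : ∀ g ∈ N, ∀ s ∈ (S : Subgroup G), g⁻¹ * s * g ∈ (S : Subgroup G) := by
    intro g hg s hs
    have h := hNS g⁻¹ (N.inv_mem hg) s hs
    rwa [inv_inv] at h
  have hcenmem : ∀ v ∈ (S : Subgroup G), v ^ 2 = 1 → v ∈ cenSub (S : Subgroup G) := by
    intro v hv hv2
    refine mem_cenSub.mpr ⟨hv, ?_⟩
    rw [Subgroup.mem_centralizer_iff]
    intro h hh
    exact (hinvc v hv hv2 h hh).symm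
  have hzS : z ∈ (S : Subgroup G) := hQS hzQ
  have hkey : ∀ g ∈ N, g * z * g⁻¹ ≠ z → g * z * g⁻¹ ∈ R := by
    intro g hg hne
    obtain ⟨au, hau⟩ : ∃ au : G, au = g * a * g⁻¹ := ⟨_, rfl⟩
    have hauS : au ∈ (S : Subgroup G) := by rw [hau]; exact hNS g hg a (hQS haQ)
    have hau2 : au ^ 2 = g * z * g⁻¹ := by rw [hau, conj_pow, haz]
    have haucomm : ∀ x ∈ Q, au * x = x * au := by
      intro x hx
      by_contra hne'
      obtain ⟨c, hc⟩ : ∃ c : G, c = au * x * au⁻¹ * x⁻¹ := ⟨_, rfl⟩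
      have hc1 : c ≠ 1 := by
        intro h
        apply hne'
        have h3 : au * x = c * x * au := by rw [hc]; group
        rw [h3, h, one_mul]
      have hcQ : c ∈ Q := by
        rw [hc]
        exact Q.mul_mem (hSQ au hauS x hx) (Q.inv_mem hx)
      have hcQu : g⁻¹ * c * g ∈ Q := by
        have h1 : g⁻¹ * c * g = a * ((g⁻¹ * x * g) * a⁻¹ * (g⁻¹ * x * g)⁻¹) := by
          rw [hc, hau]; group
        rw [h1]
        exact Q.mul_mem haQ (hSQ _ (hNS' g hg x (hQS hx)) _ (Q.inv_mem haQ))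
      obtain ⟨k, hk⟩ := (IsPGroup.iff_orderOf.mp S.isPGroup') ⟨c, hQS hcQ⟩
      rw [Subgroup.orderOf_mk] at hk
      have hk0 : k ≠ 0 := by
        intro h
        rw [h, pow_zero, orderOf_eq_one_iff] at hk
        exact hc1 hk
      obtain ⟨v, hv⟩ : ∃ v : G, v = c ^ (2 ^ (k - 1)) := ⟨_, rfl⟩
      have hv2 : v ^ 2 = 1 := by
        rw [hv, ← pow_mul, ← pow_succ, Nat.sub_add_cancel (Nat.one_le_iff_ne_zero.mpr hk0), ← hk]
        exact pow_orderOf_eq_one c
      have hv1 : v ≠ 1 := by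
        rw [hv]
        apply pow_ne_one_of_lt_orderOf (by positivity)
        rw [hk]
        exact Nat.pow_lt_pow_right (by norm_num) (by omega)
      have hvz : v = z := by
        rcases huniq v (by rw [hv]; exact Q.pow_mem hcQ _) hv2 with h | h
        · exact absurd h hv1
        · exact h
      have hv' : g⁻¹ * v * g = z := by
        have h1 : g⁻¹ * v * g = (g⁻¹ * c * g) ^ (2 ^ (k - 1)) := by
          have h4 := conj_pow (i := 2 ^ (k - 1)) (a := g⁻¹) (b := c)
          rw [inv_inv] at h4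
          rw [hv]
          exact h4.symm
        have h2 : (g⁻¹ * v * g) ^ 2 = 1 := by
          have h4 := conj_pow (i := 2) (a := g⁻¹) (b := v)
          rw [inv_inv] at h4
          rw [h4, hv2]; group
        have h3 : g⁻¹ * v * g ≠ 1 := by
          intro h
          apply hv1
          have h5 : v = g * (g⁻¹ * v * g) * g⁻¹ := by group
          rw [h5, h]; group
        rcases huniq _ (by rw [h1]; exact Q.pow_mem hcQu _) h2 with h | h
        · exact absurd h h3
        · exact h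
      apply hne
      rw [hvz] at hv'
      calc g * z * g⁻¹ = g * (g⁻¹ * z * g) * g⁻¹ := by rw [hv']
        _ = z := by group
    obtain ⟨q, hq, r, hr, hqr⟩ := hdec au hauS
    have hqcen : ∀ x ∈ Q, x * q = q * x := by
      intro x hx
      have h1 := haucomm x hx
      rw [hqr] at h1
      have h2 := hcomm x hx r hr
      have h3 : q * x * r = x * q * r := by
        calc q * x * r = q * (x * r) := by group
          _ = q * (r * x) := by rw [h2]
          _ = q * r * x := by group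
          _ = x * (q * r) := h1
          _ = x * q * r := by group
      exact (mul_right_cancel h3).symm
    have hq2 := hcen q hq hqcen
    have h5 : g * z * g⁻¹ = r ^ 2 := by
      rw [← hau2, hqr]
      have h4 := hcomm q hq r hr
      calc (q * r) ^ 2 = q * (r * q) * r := by rw [sq]; group
        _ = q * (q * r) * r := by rw [h4]
        _ = q ^ 2 * r ^ 2 := by rw [sq, sq]; group
        _ = r ^ 2 := by rw [hq2, one_mul]
    rw [h5]
    exact R.pow_mem hr 2
  have hNZ : ∀ g ∈ N, ∀ x ∈ cenSub (S : Subgroup G), g * x * g⁻¹ ∈ cenSub (S : Subgroup G) := by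
    intro g hg x hx
    obtain ⟨hx1, hx2⟩ := mem_cenSub.mp hx
    refine mem_cenSub.mpr ⟨hNS g hg x hx1, ?_⟩
    rw [Subgroup.mem_centralizer_iff]
    intro h hh
    have h1 := Subgroup.mem_centralizer_iff.mp hx2 (g⁻¹ * h * g) (hNS' g hg h hh)
    calc h * (g * x * g⁻¹) = g * (g⁻¹ * h * g * x) * g⁻¹ := by group
      _ = g * (x * (g⁻¹ * h * g)) * g⁻¹ := by rw [h1]
      _ = g * x * g⁻¹ * h := by group
  have hzR : z ∉ R := by
    intro h
    have hmem : z ∈ Q ⊓ R := Subgroup.mem_inf.mpr ⟨hzQ, h⟩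
    rw [hdisj] at hmem
    exact hz1 (Subgroup.mem_bot.mp hmem)
  obtain ⟨w, hwZ, hw1, hw2, hwN⟩ := exists_orbit_prod (S : Subgroup G) N R hNZ z
    (hcenmem z hzS hz2) hz2 hzR hkey
  obtain ⟨hwS, hwC⟩ := mem_cenSub.mp hwZ
  have hwo : orderOf w = 2 := orderOf_eq_prime hw2 hw1
  -- `w` is isolated
  have hiso : Cfsg.IsIsolatedInvolution w := by
    refine ⟨hwo, ?_⟩
    intro g hcm
    obtain ⟨w', hw'⟩ : ∃ w' : G, w' = g * w * g⁻¹ := ⟨_, rfl⟩
    rw [← hw'] at hcm ⊢
    have hw'2 : w' ^ 2 = 1 := by rw [hw', conj_pow, hw2]; group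
    have hP1 : IsPGroup 2 ↥(Subgroup.zpowers w) :=
      IsPGroup.of_card (n := 1) (by rw [Nat.card_zpowers, hwo, pow_one])
    have hP2 : IsPGroup 2 ↥(Subgroup.zpowers w') := by
      by_cases h1 : w' = 1
      · apply IsPGroup.of_card (n := 0)
        rw [Nat.card_zpowers, h1, orderOf_one, pow_zero]
      · exact IsPGroup.of_card (n := 1)
          (by rw [Nat.card_zpowers, orderOf_eq_prime hw'2 h1, pow_one])
    have hnorm : Subgroup.zpowers w ≤ Subgroup.normalizer ((Subgroup.zpowers w' : Subgroup G) : Set G) := by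
      rw [Subgroup.zpowers_le]
      apply Subgroup.centralizer_le_normalizer
      rw [Subgroup.mem_centralizer_iff]
      intro h hh
      obtain ⟨i, hi⟩ := Subgroup.mem_zpowers_iff.mp hh
      rw [← hi]
      exact (hcm.zpow_right i).eq.symm
    have hH := IsPGroup.to_sup_of_normal_right' hP1 hP2 hnorm
    obtain ⟨P, hP⟩ := hH.exists_le_sylow
    obtain ⟨h, hh⟩ := MulAction.exists_smul_eq G S P
    have hmem : ∀ x ∈ Subgroup.zpowers w ⊔ Subgroup.zpowers w', h⁻¹ * x * h ∈ (S : Subgroup G) := by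
      intro x hx
      have h1 : x ∈ ((h • S : Sylow 2 G) : Subgroup G) := by rw [hh]; exact hP hx
      rw [Sylow.coe_subgroup_smul, Subgroup.mem_pointwise_smul_iff_inv_smul_mem,
        MulAut.smul_def, MulAut.conj_inv_apply] at h1
      exact h1
    have hx1 : h⁻¹ * w * h ∈ (S : Subgroup G) :=
      hmem w (le_sup_left (a := Subgroup.zpowers w) (Subgroup.mem_zpowers w))
    have hx2 : h⁻¹ * w' * h ∈ (S : Subgroup G) :=
      hmem w' (le_sup_right (b := Subgroup.zpowers w') (Subgroup.mem_zpowers w'))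
    have hsq : ∀ y : G, y ^ 2 = 1 → (h⁻¹ * y * h) ^ 2 = 1 := by
      intro y hy
      have h4 := conj_pow (i := 2) (a := h⁻¹) (b := y)
      rw [inv_inv] at h4
      rw [h4, hy]; group
    have hc1 : h⁻¹ * w * h ∈ Subgroup.centralizer ((S : Subgroup G) : Set G) :=
      (mem_cenSub.mp (hcenmem _ hx1 (hsq w hw2))).2
    have hc2 : h⁻¹ * w' * h ∈ Subgroup.centralizer ((S : Subgroup G) : Set G) :=
      (mem_cenSub.mp (hcenmem _ hx2 (hsq w' hw'2))).2
    have hfix : ∀ m ∈ Subgroup.normalizer ((S : Subgroup G) : Set G), m⁻¹ * w * m = w := by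
      intro m hm
      have h5 := hwN m⁻¹ (by rw [hNdef]; exact Subgroup.inv_mem _ hm)
      rwa [inv_inv] at h5
    obtain ⟨n₁, hn₁, he₁⟩ := Sylow.conj_eq_normalizer_conj_of_mem_centralizer S w h hwC hc1
    rw [hfix n₁ hn₁] at he₁
    have hc2' : (g⁻¹ * h)⁻¹ * w * (g⁻¹ * h) ∈ Subgroup.centralizer ((S : Subgroup G) : Set G) := by
      have h6 : (g⁻¹ * h)⁻¹ * w * (g⁻¹ * h) = h⁻¹ * w' * h := by rw [hw']; group
      rw [h6]; exact hc2
    obtain ⟨n₂, hn₂, he₂⟩ :=
      Sylow.conj_eq_normalizer_conj_of_mem_centralizer S w (g⁻¹ * h) hwC hc2'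
    rw [hfix n₂ hn₂] at he₂
    have h7 : h⁻¹ * w' * h = w := by
      have h6 : (g⁻¹ * h)⁻¹ * w * (g⁻¹ * h) = h⁻¹ * w' * h := by rw [hw']; group
      rw [← h6]; exact he₂
    calc w' = h * (h⁻¹ * w' * h) * h⁻¹ := by group
      _ = h * (h⁻¹ * w * h) * h⁻¹ := by rw [h7, he₁]
      _ = w := by group
  have hZ := Cfsg.Agent.Lib.Helper10.ZS.zstar w hiso
  have hO : Cfsg.pPrimeCore 2 G = ⊥ := by
    rcases hsimple.eq_bot_or_eq_top_of_normal (Cfsg.pPrimeCore 2 G) inferInstance with h | h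
    · exact h
    · exfalso
      have hcop := pPrimeCore_card_coprime (G := G) 2
      rw [h, Subgroup.card_top] at hcop
      have h2 : 2 ∣ Nat.card G := by
        have h3 := orderOf_dvd_natCard w
        rwa [hwo] at h3
      exact absurd (Nat.Coprime.eq_one_of_dvd hcop.symm h2) (by norm_num)
  have hwc : ∀ g : G, w * g = g * w := by
    intro g
    have h1 : w * g * w⁻¹ * g⁻¹ ∈ Cfsg.pPrimeCore 2 G := hZ g
    rw [hO, Subgroup.mem_bot] at h1
    calc w * g = (w * g * w⁻¹ * g⁻¹) * g * w := by group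
      _ = g * w := by rw [h1, one_mul]
  have hcenter : Subgroup.center G = ⊤ := by
    rcases hsimple.eq_bot_or_eq_top_of_normal (Subgroup.center G) inferInstance with h | h
    · exfalso
      have h1 : w ∈ Subgroup.center G := Subgroup.mem_center_iff.mpr (fun g => (hwc g).symm)
      rw [h, Subgroup.mem_bot] at h1
      exact hw1 h1
    · exact h
  have ha1 : a ^ 2 = 1 := hcen a haQ (fun x _ => by
    have h1 : a ∈ Subgroup.center G := by rw [hcenter]; trivial
    exact Subgroup.mem_center_iff.mp h1 x)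
  rw [haz] at ha1
  exact hz1 ha1

end QuatDirect

end Cfsg.Agent.Lib.Helper11
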