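import Mathlib
import Cfsg.Agent.Lib.Helper11.GLTwoPart

set_option autoImplicit false

namespace Cfsg.Agent.Lib.Helper11

/-- For every odd `q` and `m ≥ 1`: `|SL_{2m}(q)|₂ · (q - 1)₂ = |GL₂(q)|₂^m · (m!)₂`. -/
theorem sl_even_two_part {F : Type*} [Field F] [Fintype F] (hF : Odd (Fintype.card F)) (m : ℕ)
    (hm : 1 ≤ m) :
    (Nat.card (Matrix.SpecialLinearGroup (Fin (2 * m)) F)).factorization 2 +
        (Fintype.card F - 1).factorization 2 =
      m * (Nat.card (Matrix.GeneralLinearGroup (Fin 2) F)).factorization 2 +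
        (m.factorial).factorization 2 := by
  rw [← gl_even_two_part hF m, ← Cfsg.Agent.Lib.Helper15.card_SL_mul (2 * m) (by omega)]
  have h1 : Nat.card (Matrix.SpecialLinearGroup (Fin (2 * m)) F) ≠ 0 := Nat.card_pos.ne'
  have h2 : Fintype.card F - 1 ≠ 0 := by
    have := Fintype.one_lt_card (α := F)
    omega
  rw [Nat.factorization_mul h1 h2, Finsupp.add_apply]

end Cfsg.Agent.Lib.Helper11
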