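import Mathlib
import Cfsg.Prelude
import Cfsg.Agent.Lib.Helper14.Cores
import Cfsg.Agent.Lib.Helper11.Components
import Cfsg.Agent.Lib.Helper11.PConstrained

set_option autoImplicit false

namespace Cfsg.Agent.Lib.Helper11

open scoped commutatorElement

universe u

theorem eq_bot_of_perfect_of_solvable {G : Type*} [Group G] {E : Subgroup G}
    (hperf : ⁅E, E⁆ = E) (hsolv : Group.IsSolvable E) : E = ⊥ := by
  by_contra hne
  have hnt : Nontrivial E := (Subgroup.nontrivial_iff_ne_bot _).mpr hne
  have h1 := Group.IsSolvable.commutator_lt_top_of_nontrivial E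
  have h2 : ⁅E, E⁆ = (commutator E).map E.subtype := by
    rw [commutator_def, Subgroup.map_commutator, ← MonoidHom.range_eq_map, Subgroup.range_subtype]
  rw [h2] at hperf
  apply h1.ne
  rw [eq_top_iff]
  intro x _
  have hx : (x : G) ∈ (commutator E).map E.subtype := by rw [hperf]; exact x.2
  obtain ⟨y, hy, hyx⟩ := hx
  have : y = x := Subtype.ext hyx
  rw [← this]; exact hy

/-- If a finite group has a normal self-centralizing `2`-subgroup, then `F*(Y) = O_2(Y)`. -/
theorem genFitting_eq_pCore_of_self_centralizing {Y : Type u} [Group Y] [Finite Y]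
    (Q : Subgroup Y) (hQn : Q.Normal) (hQ : IsPGroup 2 Q)
    (hC : Subgroup.centralizer (Q : Set Y) ≤ Q) :
    Cfsg.generalizedFittingSubgroup Y = Cfsg.pCore 2 Y := by
  have : Fact (Nat.Prime 2) := ⟨Nat.prime_two⟩
  have hQle : Q ≤ Cfsg.pCore 2 Y := Cfsg.Agent.Lib.Helper14.le_pCore 2 hQn hQ
  have hO : Cfsg.pPrimeCore 2 Y = ⊥ := by
    have hOn : (Cfsg.pPrimeCore 2 Y).Normal := inferInstance
    have hcop := Cfsg.Agent.Lib.Helper14.pPrimeCore_coprime (G := Y) 2
    have hinf : Cfsg.pPrimeCore 2 Y ⊓ Q = ⊥ := by
      obtain ⟨k, hk⟩ := IsPGroup.iff_card.mp hQ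
      apply disjoint_iff.mp
      apply Subgroup.disjoint_of_coprime_natCard
      rw [hk]
      exact Nat.Coprime.pow_right k hcop
    have hcomm : ⁅Cfsg.pPrimeCore 2 Y, Q⁆ = ⊥ := by
      apply le_bot_iff.mp
      rw [← hinf]
      exact Subgroup.commutator_le_inf _ _
    have h1 : Cfsg.pPrimeCore 2 Y ≤ Subgroup.centralizer (Q : Set Y) :=
      Subgroup.commutator_eq_bot_iff_le_centralizer.mp hcomm
    apply le_bot_iff.mp
    rw [← hinf]
    exact le_inf le_rfl (h1.trans hC)
  have hF : Cfsg.fittingSubgroup Y = Cfsg.pCore 2 Y :=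
    fitting_eq_pCore_of_pPrimeCore_eq_bot 2 hO
  have hE : Cfsg.layer Y = ⊥ := by
    have h1 : ⁅Cfsg.layer Y, Cfsg.fittingSubgroup Y⁆ = ⊥ := layer_comm_fitting
    have h2 : Cfsg.layer Y ≤ Subgroup.centralizer (Cfsg.fittingSubgroup Y : Set Y) :=
      Subgroup.commutator_eq_bot_iff_le_centralizer.mp h1
    have h3 : Cfsg.layer Y ≤ Q := by
      refine (h2.trans ?_).trans hC
      apply Subgroup.centralizer_le
      rw [hF]
      exact hQle
    have hp : IsPGroup 2 (Cfsg.layer Y) := hQ.to_le h3
    have hnil : Group.IsNilpotent (Cfsg.layer Y) := hp.isNilpotent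
    exact eq_bot_of_perfect_of_solvable layer_perfect inferInstance
  rw [Cfsg.generalizedFittingSubgroup, hE, hF, bot_sup_eq]

section sltransv

variable {F : Type*} [Field F] {n : ℕ}

theorem comm_single_col (M : Matrix (Fin n) (Fin n) F) (i j : Fin n)
    (h : M * Matrix.single i j (1 : F) = Matrix.single i j (1 : F) * M) (k : Fin n)
    (hk : k ≠ i) : M k i = 0 := by
  have h1 := congrFun (congrFun h k) j
  rw [Matrix.mul_single_apply_same, Matrix.single_mul_apply_of_ne (h := hk), mul_one] at h1
  exact h1

theorem comm_single_row (M : Matrix (Fin n) (Fin n) F) (i j : Fin n)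
    (h : M * Matrix.single i j (1 : F) = Matrix.single i j (1 : F) * M) (l : Fin n)
    (hl : l ≠ j) : M j l = 0 := by
  have h1 := congrFun (congrFun h i) l
  rw [Matrix.mul_single_apply_of_ne (hbj := hl), Matrix.single_mul_apply_same, one_mul] at h1
  exact h1.symm

theorem comm_single_diag (M : Matrix (Fin n) (Fin n) F) (i j : Fin n)
    (h : M * Matrix.single i j (1 : F) = Matrix.single i j (1 : F) * M) : M i i = M j j := by
  have h1 := congrFun (congrFun h i) j
  rw [Matrix.mul_single_apply_same, Matrix.single_mul_apply_same, mul_one, one_mul] at h1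
  exact h1

/-- Replace row `i` and column `j` of `M` by those of the identity. -/
def qm (i j : Fin n) (M : Matrix (Fin n) (Fin n) F) : Matrix (Fin n) (Fin n) F :=
  Matrix.of fun k l => if k = i ∨ l = j then (1 : Matrix (Fin n) (Fin n) F) k l else M k l

theorem qm_one (i j : Fin n) : qm i j (1 : Matrix (Fin n) (Fin n) F) = 1 := by
  ext k l
  simp [qm]

theorem qm_mul {i j : Fin n} (hij : i ≠ j) (M N : Matrix (Fin n) (Fin n) F)
    (hM : M * Matrix.single i j (1 : F) = Matrix.single i j (1 : F) * M)
    (hN : N * Matrix.single i j (1 : F) = Matrix.single i j (1 : F) * N) :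
    qm i j (M * N) = qm i j M * qm i j N := by
  ext k l
  rw [Matrix.mul_apply]
  by_cases hk : k = i
  · subst hk
    simp only [qm, Matrix.of_apply, true_or, if_true]
    rw [Finset.sum_eq_single k]
    · simp
    · intro x _ hx
      rw [Matrix.one_apply_ne (Ne.symm hx), zero_mul]
    · simp
  · by_cases hl : l = j
    · subst hl
      simp only [qm, Matrix.of_apply, or_true, if_true]
      rw [Finset.sum_eq_single l]
      · simp
      · intro x _ hx
        rw [Matrix.one_apply_ne hx, mul_zero]
      · simp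
    · simp only [qm, Matrix.of_apply, hk, hl, false_or, or_false, if_false, Matrix.mul_apply]
      apply Finset.sum_congr rfl
      intro x _
      by_cases hxj : x = j
      · subst hxj
        have h0 : N x l = 0 := comm_single_row N i x hN l hl
        have hxi : x ≠ i := Ne.symm hij
        simp [h0, hxi]
      · by_cases hxi : x = i
        · subst hxi
          have h0 : M k x = 0 := comm_single_col M x j hM k hk
          simp [h0, hxj]
        · simp [hxj, hxi]

theorem comm_of_mem_centralizer {i j : Fin n} {t : Matrix.SpecialLinearGroup (Fin n) F}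
    (ht : (t : Matrix (Fin n) (Fin n) F) = Matrix.transvection i j 1)
    {g : Matrix.SpecialLinearGroup (Fin n) F}
    (hg : g ∈ Subgroup.centralizer ({t} : Set (Matrix.SpecialLinearGroup (Fin n) F))) :
    (g : Matrix (Fin n) (Fin n) F) * Matrix.single i j (1 : F) =
      Matrix.single i j (1 : F) * (g : Matrix (Fin n) (Fin n) F) := by
  have h1 := Subgroup.mem_centralizer_iff.mp hg t rfl
  have h2 := congrArg (fun u : Matrix.SpecialLinearGroup (Fin n) F =>
    (u : Matrix (Fin n) (Fin n) F)) h1
  simp only [Matrix.SpecialLinearGroup.coe_mul, ht, Matrix.transvection] at h2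
  rw [add_mul, mul_add, one_mul, mul_one] at h2
  exact (add_left_cancel h2).symm

/-- The homomorphism whose kernel is the unipotent radical. -/
def qHom {i j : Fin n} (hij : i ≠ j) (t : Matrix.SpecialLinearGroup (Fin n) F)
    (ht : (t : Matrix (Fin n) (Fin n) F) = Matrix.transvection i j 1) :
    ↥(Subgroup.centralizer ({t} : Set (Matrix.SpecialLinearGroup (Fin n) F))) →*
      Matrix (Fin n) (Fin n) F where
  toFun g := qm i j ((g : Matrix.SpecialLinearGroup (Fin n) F) : Matrix (Fin n) (Fin n) F)
  map_one' := by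
    simp only [OneMemClass.coe_one, Matrix.SpecialLinearGroup.coe_one]
    exact qm_one i j
  map_mul' := by
    intro g h
    simp only [Subgroup.coe_mul, Matrix.SpecialLinearGroup.coe_mul]
    exact qm_mul hij _ _ (comm_of_mem_centralizer ht g.2) (comm_of_mem_centralizer ht h.2)

theorem mem_ker_qHom {i j : Fin n} (hij : i ≠ j) (t : Matrix.SpecialLinearGroup (Fin n) F)
    (ht : (t : Matrix (Fin n) (Fin n) F) = Matrix.transvection i j 1)
    (g : ↥(Subgroup.centralizer ({t} : Set (Matrix.SpecialLinearGroup (Fin n) F)))) :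
    g ∈ (qHom hij t ht).ker ↔ ∀ k l, k ≠ i → l ≠ j →
      ((g : Matrix.SpecialLinearGroup (Fin n) F) : Matrix (Fin n) (Fin n) F) k l =
        (1 : Matrix (Fin n) (Fin n) F) k l := by
  rw [MonoidHom.mem_ker]
  constructor
  · intro h k l hk hl
    have h1 := congrFun (congrFun h k) l
    simp only [qHom, MonoidHom.coe_mk, OneHom.coe_mk, qm, Matrix.of_apply, hk, hl, or_self,
      if_false] at h1
    exact h1
  · intro h
    ext k l
    simp only [qHom, MonoidHom.coe_mk, OneHom.coe_mk, qm, Matrix.of_apply]
    split_ifs with hkl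
    · rfl
    · push Not at hkl
      exact h k l hkl.1 hkl.2

theorem eq_zero_or_one_of_card_two [Fintype F] (hF : Fintype.card F = 2) (a : F) :
    a = 0 ∨ a = 1 := by
  classical
  by_contra h
  push Not at h
  have h1 : ({0, 1, a} : Finset F).card ≤ Fintype.card F := Finset.card_le_univ _
  rw [Finset.card_insert_of_notMem (by simp [Ne.symm h.1]),
    Finset.card_insert_of_notMem (by simp [Ne.symm h.2]), Finset.card_singleton, hF] at h1
  omega

theorem add_self_of_card_two [Fintype F] (hF : Fintype.card F = 2) (a : F) : a + a = 0 := by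
  rcases eq_zero_or_one_of_card_two hF a with rfl | rfl
  · simp
  · rcases eq_zero_or_one_of_card_two hF ((1 : F) + 1) with h | h
    · exact h
    · exfalso
      have : (1 : F) = 0 := by linear_combination h
      exact one_ne_zero this

theorem mat_add_self_of_card_two [Fintype F] (hF : Fintype.card F = 2)
    (M : Matrix (Fin n) (Fin n) F) : M + M = 0 := by
  ext k l
  simp [add_self_of_card_two hF]

theorem diag_eq_one_of_mem_centralizer [Fintype F] (hF : Fintype.card F = 2) {i j : Fin n}
    {t : Matrix.SpecialLinearGroup (Fin n) F}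
    (ht : (t : Matrix (Fin n) (Fin n) F) = Matrix.transvection i j 1)
    {g : Matrix.SpecialLinearGroup (Fin n) F}
    (hg : g ∈ Subgroup.centralizer ({t} : Set (Matrix.SpecialLinearGroup (Fin n) F))) :
    (g : Matrix (Fin n) (Fin n) F) i i = 1 := by
  have hcomm := comm_of_mem_centralizer ht hg
  rcases eq_zero_or_one_of_card_two hF ((g : Matrix (Fin n) (Fin n) F) i i) with h | h
  · exfalso
    have hdet : (g : Matrix (Fin n) (Fin n) F).det = 0 := by
      apply Matrix.det_eq_zero_of_column_eq_zero i
      intro k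
      by_cases hk : k = i
      · subst hk; exact h
      · exact comm_single_col _ i j hcomm k hk
    rw [g.2] at hdet
    exact one_ne_zero hdet
  · exact h

theorem nil_cube {i j : Fin n} (N : Matrix (Fin n) (Fin n) F)
    (hN1 : ∀ k l, k ≠ i → l ≠ j → N k l = 0) (hN2 : ∀ k, N k i = 0) (hN3 : ∀ l, N j l = 0) :
    N * N * N = 0 := by
  have hNN : ∀ k l, (k ≠ i ∨ l ≠ j) → (N * N) k l = 0 := by
    intro k l hkl
    rw [Matrix.mul_apply]
    apply Finset.sum_eq_zero
    intro x _
    rcases hkl with hk | hl
    · by_cases hxj : x = j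
      · subst hxj; rw [hN3, mul_zero]
      · rw [hN1 k x hk hxj, zero_mul]
    · by_cases hxi : x = i
      · subst hxi; rw [hN2, zero_mul]
      · rw [hN1 x l hxi hl, mul_zero]
  ext k l
  rw [Matrix.mul_apply]
  apply Finset.sum_eq_zero
  intro x _
  by_cases hxj : x = j
  · subst hxj; rw [hN3, mul_zero]
  · rw [hNN k x (Or.inr hxj), zero_mul]

theorem pow_four_eq_one_of_nil [Fintype F] (hF : Fintype.card F = 2)
    (M : Matrix (Fin n) (Fin n) F) (h : (M - 1) * (M - 1) * (M - 1) = 0) :
    M * M * (M * M) = 1 := by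
  obtain ⟨N, hN⟩ : ∃ N, N = M - 1 := ⟨_, rfl⟩
  have hM : M = 1 + N := by rw [hN]; abel
  rw [← hN] at h
  have h1 : M * M = 1 + N * N := by
    rw [hM]
    calc (1 + N) * (1 + N) = 1 + (N + N) + N * N := by noncomm_ring
      _ = 1 + N * N := by rw [mat_add_self_of_card_two hF, add_zero]
  rw [h1]
  calc (1 + N * N) * (1 + N * N) = 1 + (N * N + N * N) + N * N * N * N := by noncomm_ring
    _ = 1 := by rw [mat_add_self_of_card_two hF, h, zero_mul, add_zero, add_zero]

theorem ker_qHom_isPGroup [Fintype F] (hF : Fintype.card F = 2) {i j : Fin n} (hij : i ≠ j)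
    (t : Matrix.SpecialLinearGroup (Fin n) F)
    (ht : (t : Matrix (Fin n) (Fin n) F) = Matrix.transvection i j 1) :
    IsPGroup 2 ↥(qHom hij t ht).ker := by
  intro g
  refine ⟨2, ?_⟩
  have hgC := (g : ↥(Subgroup.centralizer ({t} : Set (Matrix.SpecialLinearGroup (Fin n) F)))).2
  have hcomm := comm_of_mem_centralizer ht hgC
  have hker := (mem_ker_qHom hij t ht _).mp g.2
  have hii := diag_eq_one_of_mem_centralizer hF ht hgC
  have hjj : (((g : ↥(Subgroup.centralizer ({t} : Set (Matrix.SpecialLinearGroup (Fin n) F)))) :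
      Matrix.SpecialLinearGroup (Fin n) F) : Matrix (Fin n) (Fin n) F) j j = 1 := by
    rw [← comm_single_diag _ i j hcomm]; exact hii
  have hnil := nil_cube (i := i) (j := j)
    ((((g : ↥(Subgroup.centralizer ({t} : Set (Matrix.SpecialLinearGroup (Fin n) F)))) :
      Matrix.SpecialLinearGroup (Fin n) F) : Matrix (Fin n) (Fin n) F) - 1)
    (by
      intro k l hk hl
      rw [Matrix.sub_apply, hker k l hk hl, sub_self])
    (by
      intro k
      rw [Matrix.sub_apply]
      by_cases hk : k = i
      · subst hk; rw [hii, Matrix.one_apply_eq, sub_self]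
      · rw [comm_single_col _ i j hcomm k hk, Matrix.one_apply_ne hk, sub_self])
    (by
      intro l
      rw [Matrix.sub_apply]
      by_cases hl : l = j
      · subst hl; rw [hjj, Matrix.one_apply_eq, sub_self]
      · rw [comm_single_row _ i j hcomm l hl, Matrix.one_apply_ne (Ne.symm hl), sub_self])
  have h4 := pow_four_eq_one_of_nil hF _ hnil
  apply Subtype.ext
  apply Subtype.ext
  apply Subtype.ext
  have e : g ^ 2 ^ 2 = g * g * (g * g) := by
    rw [show (2 : ℕ) ^ 2 = 2 + 2 from rfl, pow_add, pow_two]
  rw [e]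
  exact h4

theorem centralizer_ker_qHom_le [Fintype F] (hF : Fintype.card F = 2) {i j : Fin n}
    (hij : i ≠ j) (t : Matrix.SpecialLinearGroup (Fin n) F)
    (ht : (t : Matrix (Fin n) (Fin n) F) = Matrix.transvection i j 1) :
    Subgroup.centralizer ((qHom hij t ht).ker :
      Set ↥(Subgroup.centralizer ({t} : Set (Matrix.SpecialLinearGroup (Fin n) F)))) ≤
      (qHom hij t ht).ker := by
  intro g hg
  have hgC := g.2
  have hcomm := comm_of_mem_centralizer ht hgC
  have hii := diag_eq_one_of_mem_centralizer hF ht hgC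
  rw [mem_ker_qHom]
  -- rows outside `i`, `j`
  have hrow : ∀ x : Fin n, x ≠ i → x ≠ j →
      (∀ l, l ≠ x → ((g : Matrix.SpecialLinearGroup (Fin n) F) : Matrix (Fin n) (Fin n) F) x l = 0)
      ∧ ((g : Matrix.SpecialLinearGroup (Fin n) F) : Matrix (Fin n) (Fin n) F) x x = 1 := by
    intro x hxi hxj
    have hτC : Matrix.SpecialLinearGroup.transvection (Ne.symm hxi) (1 : F) ∈
        Subgroup.centralizer ({t} : Set (Matrix.SpecialLinearGroup (Fin n) F)) := by
      rw [Subgroup.mem_centralizer_iff]
      intro h hh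
      rw [Set.mem_singleton_iff] at hh
      subst hh
      apply Subtype.ext
      simp only [Matrix.SpecialLinearGroup.coe_mul, ht]
      show Matrix.transvection i j 1 * Matrix.transvection i x 1 =
        Matrix.transvection i x 1 * Matrix.transvection i j 1
      simp only [Matrix.transvection]
      simp only [add_mul, mul_add, one_mul, mul_one]
      rw [Matrix.single_mul_single_of_ne (h := Ne.symm hij),
        Matrix.single_mul_single_of_ne (h := hxi)]
      abel
    have hτQ : (⟨_, hτC⟩ : ↥(Subgroup.centralizer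
        ({t} : Set (Matrix.SpecialLinearGroup (Fin n) F)))) ∈ (qHom hij t ht).ker := by
      rw [mem_ker_qHom]
      intro k l hk hl
      show Matrix.transvection i x (1 : F) k l = _
      rw [Matrix.transvection, Matrix.add_apply,
        Matrix.single_apply_of_row_ne (Ne.symm hk), add_zero]
    have h1 := Subgroup.mem_centralizer_iff.mp hg _ hτQ
    have h2 := congrArg (fun u : ↥(Subgroup.centralizer
        ({t} : Set (Matrix.SpecialLinearGroup (Fin n) F))) =>
        ((u : Matrix.SpecialLinearGroup (Fin n) F) : Matrix (Fin n) (Fin n) F)) h1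
    simp only [Subgroup.coe_mul, Matrix.SpecialLinearGroup.coe_mul] at h2
    have h3 : Matrix.transvection i x (1 : F) *
        ((g : Matrix.SpecialLinearGroup (Fin n) F) : Matrix (Fin n) (Fin n) F) =
        ((g : Matrix.SpecialLinearGroup (Fin n) F) : Matrix (Fin n) (Fin n) F) *
          Matrix.transvection i x (1 : F) := h2
    simp only [Matrix.transvection] at h3
    rw [add_mul, mul_add, one_mul, mul_one] at h3
    have h4 := (add_left_cancel h3).symm
    refine ⟨fun l hl => comm_single_row _ i x h4 l hl, ?_⟩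
    rw [← comm_single_diag _ i x h4]
    exact hii
  intro k l hk hl
  by_cases hkj : k = j
  · subst hkj
    rw [comm_single_row _ i k hcomm l hl, Matrix.one_apply_ne (Ne.symm hl)]
  · by_cases hlk : l = k
    · subst hlk
      rw [(hrow l hk hkj).2, Matrix.one_apply_eq]
    · rw [(hrow k hk hkj).1 l hlk, Matrix.one_apply_ne (Ne.symm hlk)]

theorem sl_transvection_genFitting {F : Type*} [Field F] [Fintype F]
    (hF : Fintype.card F = 2) (n : ℕ) (i j : Fin n) (hij : i ≠ j)
    (t : Matrix.SpecialLinearGroup (Fin n) F)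
    (ht : (t : Matrix (Fin n) (Fin n) F) = Matrix.transvection i j 1) :
    Cfsg.generalizedFittingSubgroup
        ↥(Subgroup.centralizer ({t} : Set (Matrix.SpecialLinearGroup (Fin n) F))) =
      Cfsg.pCore 2 ↥(Subgroup.centralizer ({t} : Set (Matrix.SpecialLinearGroup (Fin n) F))) :=
  genFitting_eq_pCore_of_self_centralizing (qHom hij t ht).ker inferInstance
    (ker_qHom_isPGroup hF hij t ht) (centralizer_ker_qHom_le hF hij t ht)

end sltransv

end Cfsg.Agent.Lib.Helper11
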