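import Mathlib

/-!
The centraliser in `SL₅(𝔽₂)` of the transvection `1 + E₀₁` has order at most
`16 * 8 * 168 = 21504` (requested by helper13 for S2134).
-/

set_option autoImplicit false

namespace Cfsg.Agent.Lib.Helper11

open Matrix

/-- Entries forced by commuting with the transvection `1 + E₀₁`. -/
theorem tcent_entries (g : Matrix (Fin 5) (Fin 5) (ZMod 2))
    (h : g * Matrix.transvection 0 1 1 = Matrix.transvection 0 1 1 * g) :
    (g 1 0 = 0 ∧ g 2 0 = 0 ∧ g 3 0 = 0 ∧ g 4 0 = 0) ∧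
    (g 1 2 = 0 ∧ g 1 3 = 0 ∧ g 1 4 = 0) ∧ g 0 0 = g 1 1 := by
  have e : ∀ i j : Fin 5,
      (g * (Matrix.transvection 0 1 1 : Matrix (Fin 5) (Fin 5) (ZMod 2))) i j
      = ((Matrix.transvection 0 1 1 : Matrix (Fin 5) (Fin 5) (ZMod 2)) * g) i j := by
    intro i j; rw [h]
  have h10 := e 1 1
  have h20 := e 2 1
  have h30 := e 3 1
  have h40 := e 4 1
  have h12 := e 0 2
  have h13 := e 0 3
  have h14 := e 0 4
  have h00 := e 0 1
  simp [Matrix.transvection, Matrix.mul_apply, Fin.sum_univ_five, Matrix.single_apply,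
    Matrix.one_apply, Matrix.add_apply, mul_add, add_mul] at h10 h20 h30 h40 h12 h13 h14 h00
  refine ⟨⟨h10, h20, h30, h40⟩, ⟨h12, h13, h14⟩, ?_⟩
  rw [add_comm] at h00
  exact add_left_cancel h00

/-- The shape of a matrix of determinant one commuting with `1 + E₀₁`. -/
def TcShape (m : Matrix (Fin 5) (Fin 5) (ZMod 2)) : Prop :=
  (m 0 0 = 1 ∧ m 1 0 = 0 ∧ m 2 0 = 0 ∧ m 3 0 = 0 ∧ m 4 0 = 0) ∧
    (m 1 1 = 1 ∧ m 1 2 = 0 ∧ m 1 3 = 0 ∧ m 1 4 = 0)

theorem tcent_shape (s g : Matrix.SpecialLinearGroup (Fin 5) (ZMod 2))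
    (hs : (s : Matrix (Fin 5) (Fin 5) (ZMod 2)) = Matrix.transvection 0 1 1)
    (hg : g ∈ Subgroup.centralizer ({s} : Set (Matrix.SpecialLinearGroup (Fin 5) (ZMod 2)))) :
    TcShape (g : Matrix (Fin 5) (Fin 5) (ZMod 2)) := by
  have h1 : s * g = g * s := Subgroup.mem_centralizer_iff.mp hg s (Set.mem_singleton s)
  have h2 : (g : Matrix (Fin 5) (Fin 5) (ZMod 2)) * Matrix.transvection 0 1 1
      = Matrix.transvection 0 1 1 * (g : Matrix (Fin 5) (Fin 5) (ZMod 2)) := by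
    rw [← hs, ← Matrix.SpecialLinearGroup.coe_mul, ← Matrix.SpecialLinearGroup.coe_mul, h1]
  obtain ⟨⟨a1, a2, a3, a4⟩, ⟨b2, b3, b4⟩, hd⟩ := tcent_entries _ h2
  have hdet : (g : Matrix (Fin 5) (Fin 5) (ZMod 2)).det = 1 := g.2
  have h00 : (g : Matrix (Fin 5) (Fin 5) (ZMod 2)) 0 0 = 1 := by
    have hz : ∀ x : ZMod 2, x = 0 ∨ x = 1 := by decide
    rcases hz ((g : Matrix (Fin 5) (Fin 5) (ZMod 2)) 0 0) with h0 | h0
    · exfalso
      have : (g : Matrix (Fin 5) (Fin 5) (ZMod 2)).det = 0 := by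
        apply Matrix.det_eq_zero_of_column_eq_zero 0
        intro i
        fin_cases i
        · exact h0
        · exact a1
        · exact a2
        · exact a3
        · exact a4
      rw [this] at hdet
      exact zero_ne_one hdet
    · exact h0
  exact ⟨⟨h00, a1, a2, a3, a4⟩, ⟨by rw [← hd]; exact h00, b2, b3, b4⟩⟩

/-- The lower right `3 × 3` block. -/
def tcB (m : Matrix (Fin 5) (Fin 5) (ZMod 2)) : Matrix (Fin 3) (Fin 3) (ZMod 2) :=
  !![m 2 2, m 2 3, m 2 4; m 3 2, m 3 3, m 3 4; m 4 2, m 4 3, m 4 4]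

/-- The free entries of a matrix of the shape `TcShape`. -/
def tcData (m : Matrix (Fin 5) (Fin 5) (ZMod 2)) :
    (Fin 4 → ZMod 2) × (Fin 3 → ZMod 2) × Matrix (Fin 3) (Fin 3) (ZMod 2) :=
  (![m 0 1, m 0 2, m 0 3, m 0 4], ![m 2 1, m 3 1, m 4 1], tcB m)

/-- Rebuild the matrix from its free entries. -/
def tcRec (d : (Fin 4 → ZMod 2) × (Fin 3 → ZMod 2) × Matrix (Fin 3) (Fin 3) (ZMod 2)) :
    Matrix (Fin 5) (Fin 5) (ZMod 2) :=
  !![1, d.1 0, d.1 1, d.1 2, d.1 3;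
     0, 1, 0, 0, 0;
     0, d.2.1 0, d.2.2 0 0, d.2.2 0 1, d.2.2 0 2;
     0, d.2.1 1, d.2.2 1 0, d.2.2 1 1, d.2.2 1 2;
     0, d.2.1 2, d.2.2 2 0, d.2.2 2 1, d.2.2 2 2]

theorem tcRec_tcData (m : Matrix (Fin 5) (Fin 5) (ZMod 2)) (hm : TcShape m) :
    tcRec (tcData m) = m := by
  obtain ⟨⟨a0, a1, a2, a3, a4⟩, b1, b2, b3, b4⟩ := hm
  ext i j
  fin_cases i <;> fin_cases j <;> simp [tcRec, tcData, tcB, a0, a1, a2, a3, a4, b1, b2, b3, b4]

theorem tcB_one : tcB (1 : Matrix (Fin 5) (Fin 5) (ZMod 2)) = 1 := by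
  ext i j
  fin_cases i <;> fin_cases j <;> simp [tcB]

theorem tcB_mul (m n : Matrix (Fin 5) (Fin 5) (ZMod 2)) (hm : TcShape m) (hn : TcShape n) :
    tcB (m * n) = tcB m * tcB n := by
  obtain ⟨⟨a0, a1, a2, a3, a4⟩, b1, b2, b3, b4⟩ := hm
  obtain ⟨⟨c0, c1, c2, c3, c4⟩, d1, d2, d3, d4⟩ := hn
  ext i j
  fin_cases i <;> fin_cases j <;>
    simp [tcB, Matrix.mul_apply, Fin.sum_univ_five, Fin.sum_univ_three,
      a2, a3, a4, d2, d3, d4]

/-- The block map as a monoid homomorphism on the centraliser. -/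
def tcBlockHom (s : Matrix.SpecialLinearGroup (Fin 5) (ZMod 2))
    (hs : (s : Matrix (Fin 5) (Fin 5) (ZMod 2)) = Matrix.transvection 0 1 1) :
    ↥(Subgroup.centralizer ({s} : Set (Matrix.SpecialLinearGroup (Fin 5) (ZMod 2)))) →*
      Matrix (Fin 3) (Fin 3) (ZMod 2) where
  toFun g := tcB ((g : Matrix.SpecialLinearGroup (Fin 5) (ZMod 2)) :
    Matrix (Fin 5) (Fin 5) (ZMod 2))
  map_one' := by
    simp only [OneMemClass.coe_one, Matrix.SpecialLinearGroup.coe_one]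
    exact tcB_one
  map_mul' := by
    intro g h
    simp only [Subgroup.coe_mul, Matrix.SpecialLinearGroup.coe_mul]
    exact tcB_mul _ _ (tcent_shape s g.1 hs g.2) (tcent_shape s h.1 hs h.2)

theorem card_cent_transvection_le (s : Matrix.SpecialLinearGroup (Fin 5) (ZMod 2))
    (hs : (s : Matrix (Fin 5) (Fin 5) (ZMod 2)) = Matrix.transvection 0 1 1) :
    Nat.card (Subgroup.centralizer ({s} : Set (Matrix.SpecialLinearGroup (Fin 5) (ZMod 2))))
      ≤ 21504 := by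
  classical
  let F : ↥(Subgroup.centralizer ({s} : Set (Matrix.SpecialLinearGroup (Fin 5) (ZMod 2)))) →
      (Fin 4 → ZMod 2) × (Fin 3 → ZMod 2) × (Matrix (Fin 3) (Fin 3) (ZMod 2))ˣ :=
    fun g => ((tcData ((g : Matrix.SpecialLinearGroup (Fin 5) (ZMod 2)) :
      Matrix (Fin 5) (Fin 5) (ZMod 2))).1,
      (tcData ((g : Matrix.SpecialLinearGroup (Fin 5) (ZMod 2)) :
      Matrix (Fin 5) (Fin 5) (ZMod 2))).2.1, (tcBlockHom s hs).toHomUnits g)
  have hF : Function.Injective F := by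
    intro g h hgh
    have e1 := congrArg Prod.fst hgh
    have e2 := congrArg (fun x => x.2.1) hgh
    have e3 := congrArg (fun x => ((x.2.2 : (Matrix (Fin 3) (Fin 3) (ZMod 2))ˣ) :
      Matrix (Fin 3) (Fin 3) (ZMod 2))) hgh
    simp only [F, MonoidHom.coe_toHomUnits] at e1 e2 e3
    have e3' : (tcData ((g : Matrix.SpecialLinearGroup (Fin 5) (ZMod 2)) :
        Matrix (Fin 5) (Fin 5) (ZMod 2))).2.2
        = (tcData ((h : Matrix.SpecialLinearGroup (Fin 5) (ZMod 2)) :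
        Matrix (Fin 5) (Fin 5) (ZMod 2))).2.2 := e3
    have hd : tcData ((g : Matrix.SpecialLinearGroup (Fin 5) (ZMod 2)) :
        Matrix (Fin 5) (Fin 5) (ZMod 2))
        = tcData ((h : Matrix.SpecialLinearGroup (Fin 5) (ZMod 2)) :
        Matrix (Fin 5) (Fin 5) (ZMod 2)) :=
      Prod.ext e1 (Prod.ext e2 e3')
    have hm : ((g : Matrix.SpecialLinearGroup (Fin 5) (ZMod 2)) :
        Matrix (Fin 5) (Fin 5) (ZMod 2))
        = ((h : Matrix.SpecialLinearGroup (Fin 5) (ZMod 2)) :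
        Matrix (Fin 5) (Fin 5) (ZMod 2)) := by
      rw [← tcRec_tcData _ (tcent_shape s g.1 hs g.2), ← tcRec_tcData _ (tcent_shape s h.1 hs h.2),
        hd]
    exact Subtype.ext (Subtype.ext hm)
  have hcard : Nat.card ((Fin 4 → ZMod 2) × (Fin 3 → ZMod 2) ×
      (Matrix (Fin 3) (Fin 3) (ZMod 2))ˣ) = 21504 := by
    have hGL : Nat.card (Matrix (Fin 3) (Fin 3) (ZMod 2))ˣ = 168 := by
      have := Matrix.card_GL_field (𝔽 := ZMod 2) 3
      rw [this]
      simp [Fin.prod_univ_three, ZMod.card]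
    rw [Nat.card_prod, Nat.card_prod, hGL, Nat.card_fun, Nat.card_fun]
    simp [Nat.card_eq_fintype_card, ZMod.card]
  calc Nat.card (Subgroup.centralizer ({s} : Set (Matrix.SpecialLinearGroup (Fin 5) (ZMod 2))))
      ≤ Nat.card ((Fin 4 → ZMod 2) × (Fin 3 → ZMod 2) ×
        (Matrix (Fin 3) (Fin 3) (ZMod 2))ˣ) := Nat.card_le_card_of_injective F hF
    _ = 21504 := hcard

end Cfsg.Agent.Lib.Helper11
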